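import Groth.Agent.Lam.Filtration
import Mathlib.LinearAlgebra.Eigenspace.Basic
import Mathlib.LinearAlgebra.TensorProduct.Tower

/-!
Eigenspaces of an endomorphism acting by `j^m` on the graded pieces of a finite filtration.
-/

universe u v

open Finset TensorProduct

namespace Groth.Agent.Lam

section Linear

variable {k : Type u} [Field k] {V : Type v} [AddCommGroup V] [Module k V]
  (Ψ : Module.End k V) (F : ℕ → Submodule k V) (c : ℕ → k) (d : ℕ)

/-- `Ψ` acts by `c n` on the `n`-th graded piece of the finite filtration `F` -/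
structure IsFiltEnd : Prop where
  anti : ∀ n, F (n + 1) ≤ F n
  top : F 0 = ⊤
  bot : F (d + 1) = ⊥
  congr : ∀ n, ∀ v ∈ F n, Ψ v - c n • v ∈ F (n + 1)
  inj : Function.Injective c

variable {Ψ F c d}

theorem IsFiltEnd.le_of_le (h : IsFiltEnd Ψ F c d) {m n : ℕ} (hmn : m ≤ n) : F n ≤ F m := by
  induction hmn with
  | refl => exact le_rfl
  | step _ ih => exact (h.anti _).trans ih

theorem IsFiltEnd.solve (h : IsFiltEnd Ψ F c d) (μ : k) :
    ∀ m, (∀ i, m ≤ i → c i ≠ μ) →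
      (∀ w ∈ F m, ∃ v ∈ F m, Ψ v - μ • v = w) ∧ (∀ v ∈ F m, Ψ v = μ • v → v = 0) := by
  suffices H : ∀ t m, d + 1 ≤ m + t → (∀ i, m ≤ i → c i ≠ μ) →
      (∀ w ∈ F m, ∃ v ∈ F m, Ψ v - μ • v = w) ∧ (∀ v ∈ F m, Ψ v = μ • v → v = 0) from
    fun m => H (d + 1) m (by omega)
  intro t
  induction t with
  | zero =>
    intro m hm _
    have : F m = ⊥ := le_bot_iff.mp (h.bot ▸ h.le_of_le (by omega))
    refine ⟨fun w hw => ⟨0, zero_mem _, ?_⟩, fun v hv _ => ?_⟩
    · rw [this] at hw; simp at hw; simp [hw]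
    · rw [this] at hv; simpa using hv
  | succ t ih =>
    intro m hm hμ
    obtain ⟨ih1, ih2⟩ := ih (m + 1) (by omega) fun i hi => hμ i (by omega)
    have hne : c m - μ ≠ 0 := sub_ne_zero.mpr (hμ m le_rfl)
    refine ⟨fun w hw => ?_, fun v hv hev => ?_⟩
    · set v₀ := (c m - μ)⁻¹ • w with hv₀
      have hv₀m : v₀ ∈ F m := Submodule.smul_mem _ _ hw
      have e : Ψ v₀ - μ • v₀ - w = Ψ v₀ - c m • v₀ := by
        have : w = (c m - μ) • v₀ := by rw [hv₀, smul_smul, mul_inv_cancel₀ hne, one_smul]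
        rw [this, sub_smul]; abel
      obtain ⟨v₁, hv₁, hv₁'⟩ := ih1 _ (e ▸ h.congr m v₀ hv₀m)
      refine ⟨v₀ - v₁, sub_mem hv₀m (h.anti m hv₁), ?_⟩
      rw [map_sub, smul_sub, show Ψ v₀ - Ψ v₁ - (μ • v₀ - μ • v₁) = (Ψ v₀ - μ • v₀) - (Ψ v₁ - μ • v₁) by abel,
        hv₁']
      abel
    · have := h.congr m v hv
      rw [hev, ← sub_smul, ← neg_sub (c m) μ, neg_smul, Submodule.neg_mem_iff] at this
      have hv' : v ∈ F (m + 1) := by
        have := Submodule.smul_mem _ (c m - μ)⁻¹ this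
        rwa [smul_smul, inv_mul_cancel₀ hne, one_smul] at this
      exact ih2 v hv' hev

theorem IsFiltEnd.eigen_le (h : IsFiltEnd Ψ F c d) (m : ℕ) :
    Module.End.eigenspace Ψ (c m) ≤ F m := by
  intro v hv
  rw [Module.End.mem_eigenspace_iff] at hv
  suffices H : ∀ i, i ≤ m → v ∈ F i from H m le_rfl
  intro i
  induction i with
  | zero => intro _; rw [h.top]; trivial
  | succ i ih =>
    intro hi
    have hne : c m - c i ≠ 0 := sub_ne_zero.mpr fun e => by have := h.inj e; omega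
    have := h.congr i v (ih (by omega))
    rw [hv, ← sub_smul] at this
    have := Submodule.smul_mem _ (c m - c i)⁻¹ this
    rwa [smul_smul, inv_mul_cancel₀ hne, one_smul] at this

theorem IsFiltEnd.eigen_inf (h : IsFiltEnd Ψ F c d) (m : ℕ) :
    Module.End.eigenspace Ψ (c m) ⊓ F (m + 1) = ⊥ := by
  rw [eq_bot_iff]
  rintro v ⟨hv, hv'⟩
  rw [Submodule.mem_bot]
  refine (h.solve (c m) (m + 1) fun i hi e => ?_).2 v hv' (Module.End.mem_eigenspace_iff.mp hv)
  have := h.inj e; omega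

theorem IsFiltEnd.eigen_sup (h : IsFiltEnd Ψ F c d) (m : ℕ) :
    Module.End.eigenspace Ψ (c m) ⊔ F (m + 1) = F m := by
  refine le_antisymm (sup_le (h.eigen_le m) (h.anti m)) fun v hv => ?_
  obtain ⟨v', hv', e⟩ := (h.solve (c m) (m + 1) fun i hi e => by have := h.inj e; omega).1 _ (h.congr m v hv)
  rw [Submodule.mem_sup]
  refine ⟨v - v', ?_, v', hv', sub_add_cancel v v'⟩
  rw [Module.End.mem_eigenspace_iff, map_sub, smul_sub]
  linear_combination (norm := abel) -e

theorem IsFiltEnd.iSup_eigen (h : IsFiltEnd Ψ F c d) :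
    (⨆ m ∈ range (d + 1), Module.End.eigenspace Ψ (c m)) = ⊤ := by
  suffices H : ∀ t m, d + 1 = m + t → F m ≤ ⨆ m ∈ range (d + 1), Module.End.eigenspace Ψ (c m) by
    rw [eq_top_iff, ← h.top]; exact H (d + 1) 0 (by omega)
  intro t
  induction t with
  | zero => intro m hm; rw [show m = d + 1 by omega, h.bot]; exact bot_le
  | succ t ih =>
    intro m hm
    rw [← h.eigen_sup m]
    exact sup_le (le_iSup₂ (f := fun m _ => Module.End.eigenspace Ψ (c m)) m (by simp; omega))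
      (ih (m + 1) (by omega))

theorem IsFiltEnd.eigen_eq_of_comm {Φ : Module.End k V} {c' : ℕ → k} (h : IsFiltEnd Ψ F c d)
    (h' : IsFiltEnd Φ F c' d) (hc : ∀ v, Ψ (Φ v) = Φ (Ψ v)) (m : ℕ) :
    Module.End.eigenspace Ψ (c m) ≤ Module.End.eigenspace Φ (c' m) := by
  intro v hv
  rw [Module.End.mem_eigenspace_iff]
  rw [← sub_eq_zero, ← Submodule.mem_bot k, ← h.eigen_inf m]
  refine ⟨?_, h'.congr m v (h.eigen_le m hv)⟩
  have hv2 := Module.End.mem_eigenspace_iff.mp hv
  refine sub_mem ?_ (Submodule.smul_mem _ _ hv)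
  rw [Module.End.mem_eigenspace_iff, hc, hv2, map_smul]

end Linear

open _root_.LambdaRing

variable {K : Type u} [CommRing K] [LambdaOps K] {P : PosStructure K}

/-- the rational γ-filtration -/
noncomputable def ratFil (P : PosStructure K) (n : ℕ) : Submodule ℚ (ℚ ⊗[ℤ] K) :=
  Submodule.span ℚ ((fun x : K => (1 : ℚ) ⊗ₜ[ℤ] x) '' (gammaFiltration P n : Set K))

theorem isFiltEnd_adams (hK : HasSplitting K P) {d : ℕ} (hd : gammaFiltration P (d + 1) = ⊥)
    {j : ℕ} (hj : 2 ≤ j) {Ψ : ℚ ⊗[ℤ] K →ₗ[ℚ] ℚ ⊗[ℤ] K}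
    (hΨ : ∀ x : K, Ψ (1 ⊗ₜ[ℤ] x) = 1 ⊗ₜ[ℤ] LambdaRing.adams P j x) :
    IsFiltEnd Ψ (ratFil P) (fun m => (j : ℚ) ^ m) d := by
  refine ⟨fun n => Submodule.span_mono (Set.image_mono (antitone_filtration (Nat.le_succ n))), ?_, ?_, ?_, ?_⟩
  · rw [eq_top_iff]
    intro v _
    induction v using TensorProduct.induction_on with
    | zero => exact zero_mem _
    | tmul q x =>
      rw [show q ⊗ₜ[ℤ] x = q • ((1 : ℚ) ⊗ₜ[ℤ] x) by rw [TensorProduct.smul_tmul', smul_eq_mul, mul_one]]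
      exact Submodule.smul_mem _ _ (Submodule.subset_span ⟨x, by simp [gammaFiltration_zero], rfl⟩)
    | add a b ha hb => exact add_mem (ha trivial) (hb trivial)
  · simp [ratFil, hd]
  · intro n v hv
    induction hv using Submodule.span_induction with
    | mem y hy =>
      obtain ⟨x, hx, rfl⟩ := hy
      refine Submodule.subset_span ⟨_, adams_congr hK j n hx, ?_⟩
      have e : (1 : ℚ) ⊗ₜ[ℤ] ((j : K) ^ n * x) = (j : ℚ) ^ n • ((1 : ℚ) ⊗ₜ[ℤ] x) := by
        rw [show (j : K) ^ n * x = ((j : ℤ) ^ n) • x by rw [zsmul_eq_mul]; push_cast; rfl,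
          ← TensorProduct.smul_tmul, TensorProduct.smul_tmul', zsmul_eq_mul, smul_eq_mul]
        push_cast
        rfl
      simp only [TensorProduct.tmul_sub, e, hΨ]
    | zero => simp
    | add a b _ _ ha hb =>
      have := add_mem ha hb
      rw [map_add, smul_add]
      convert this using 1
      abel
    | smul q a _ ha =>
      rw [map_smul, smul_comm, ← smul_sub]
      exact Submodule.smul_mem _ _ ha
  · intro a b hab
    have : ((j ^ a : ℕ) : ℚ) = ((j ^ b : ℕ) : ℚ) := by push_cast; exact hab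
    exact Nat.pow_right_injective hj (Nat.cast_injective this)

end Groth.Agent.Lam
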