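import Groth.Agent.Lam.GammaFilFree
import Groth.Agent.Lam.Eigen

/-!
A λ-ring with positive structure and splitting is special; it is an augmented algebra over the binomial ring `ℤ`.
-/

universe u v

open Finset

namespace Groth.Agent.Lam

open _root_.LambdaRing

/-! ### identities of generic series -/

section Generic

variable {R : Type u} [CommRing R]

/-- generic series, three of them -/
noncomputable def gen3 (j : Fin 3) : PowerSeries (MvPolynomial (Fin 3 × ℕ) ℤ) :=
  PowerSeries.mk fun n => if n = 0 then 1 else MvPolynomial.X (j, n - 1)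

theorem constantCoeff_gen3 (j : Fin 3) : PowerSeries.constantCoeff (gen3 j) = 1 := by
  rw [← PowerSeries.coeff_zero_eq_constantCoeff_apply, gen3, PowerSeries.coeff_mk, if_pos rfl]

/-- specialisation of the three generic series -/
noncomputable def ev3 (f : Fin 3 → PowerSeries R) : MvPolynomial (Fin 3 × ℕ) ℤ →+* R :=
  (MvPolynomial.aeval fun p => cf (f p.1) p.2).toRingHom

theorem map_gen3 {f : Fin 3 → PowerSeries R} (hf : ∀ j, PowerSeries.constantCoeff (f j) = 1) (j : Fin 3) :
    PowerSeries.map (ev3 f) (gen3 j) = f j := by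
  refine PowerSeries.ext fun n => ?_
  rcases n with _ | n
  · simp [gen3, hf j]
  · simp [gen3, ev3, cf]

theorem mulSer_mul_left {f g h : PowerSeries R} (hf : PowerSeries.constantCoeff f = 1)
    (hg : PowerSeries.constantCoeff g = 1) (hh : PowerSeries.constantCoeff h = 1) :
    mulSer (f * g) h = mulSer f h * mulSer g h := by
  have key : mulSer (gen3 0 * gen3 1) (gen3 2) = mulSer (gen3 0) (gen3 2) * mulSer (gen3 1) (gen3 2) := by
    refine eq_of_psOp_eq (constantCoeff_mulSer _ _) (by simp [constantCoeff_mulSer]) fun k => ?_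
    rw [psOp_mulSer (by simp [constantCoeff_gen3]) (constantCoeff_gen3 2),
      psOp_mul (constantCoeff_gen3 0) (constantCoeff_gen3 1), psOp_mul (constantCoeff_mulSer _ _) (constantCoeff_mulSer _ _),
      psOp_mulSer (constantCoeff_gen3 0) (constantCoeff_gen3 2), psOp_mulSer (constantCoeff_gen3 1) (constantCoeff_gen3 2),
      add_mul]
  have hall : ∀ j, PowerSeries.constantCoeff (![f, g, h] j) = 1 := by intro j; fin_cases j <;> assumption
  have := congrArg (PowerSeries.map (ev3 ![f, g, h])) key
  simpa [map_mulSer, map_gen3 hall] using this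

theorem mulSer_mul_right {f g h : PowerSeries R} (hf : PowerSeries.constantCoeff f = 1)
    (hg : PowerSeries.constantCoeff g = 1) (hh : PowerSeries.constantCoeff h = 1) :
    mulSer f (g * h) = mulSer f g * mulSer f h := by
  have key : mulSer (gen3 0) (gen3 1 * gen3 2) = mulSer (gen3 0) (gen3 1) * mulSer (gen3 0) (gen3 2) := by
    refine eq_of_psOp_eq (constantCoeff_mulSer _ _) (by simp [constantCoeff_mulSer]) fun k => ?_
    rw [psOp_mulSer (constantCoeff_gen3 0) (by simp [constantCoeff_gen3]),
      psOp_mul (constantCoeff_gen3 1) (constantCoeff_gen3 2), psOp_mul (constantCoeff_mulSer _ _) (constantCoeff_mulSer _ _),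
      psOp_mulSer (constantCoeff_gen3 0) (constantCoeff_gen3 1), psOp_mulSer (constantCoeff_gen3 0) (constantCoeff_gen3 2),
      mul_add]
  have hall : ∀ j, PowerSeries.constantCoeff (![f, g, h] j) = 1 := by intro j; fin_cases j <;> assumption
  have := congrArg (PowerSeries.map (ev3 ![f, g, h])) key
  simpa [map_mulSer, map_gen3 hall] using this

theorem mulSer_one_add_X {f : PowerSeries R} (hf : PowerSeries.constantCoeff f = 1) :
    mulSer f (1 + PowerSeries.X) = f := by
  have key : mulSer (gen3 0) (1 + PowerSeries.X) = gen3 0 := by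
    refine eq_of_psOp_eq (constantCoeff_mulSer _ _) (constantCoeff_gen3 0) fun k => ?_
    rw [psOp_mulSer (constantCoeff_gen3 0) (by simp)]
    have h := psOp_linear (1 : MvPolynomial (Fin 3 × ℕ) ℤ) k
    rw [map_one, one_mul, one_pow] at h
    rw [h, mul_one]
  have hall : ∀ j, PowerSeries.constantCoeff (![f, f, f] j) = 1 := by intro j; fin_cases j <;> assumption
  have := congrArg (PowerSeries.map (ev3 ![f, f, f])) key
  simpa [map_mulSer, map_gen3 hall] using this

/-- `compSer`, corrected in degree zero -/
noncomputable def cSer (f : PowerSeries R) (i : ℕ) : PowerSeries R :=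
  if i = 0 then 1 + PowerSeries.X else compSer f i

theorem constantCoeff_cSer (f : PowerSeries R) (i : ℕ) : PowerSeries.constantCoeff (cSer f i) = 1 := by
  rw [cSer]; split
  · simp
  · exact constantCoeff_compSer f i

theorem map_cSer {S : Type v} [CommRing S] (φ : R →+* S) (f : PowerSeries R) (i : ℕ) :
    PowerSeries.map φ (cSer f i) = cSer (PowerSeries.map φ f) i := by
  rw [cSer, cSer]; split
  · simp
  · exact map_compSer φ f i

theorem psOp_cSer (f : PowerSeries R) (i k : ℕ) : psOp (cSer f i) k = PowerSeries.coeff i (adamsSer k f) := by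
  rw [adamsSer, PowerSeries.coeff_mk, cSer]
  split
  · have h := psOp_linear (1 : R) k
    rwa [map_one, one_mul, one_pow] at h
  · rfl

theorem constantCoeff_prod_one {ι : Type*} (s : Finset ι) (F : ι → PowerSeries R)
    (h : ∀ a ∈ s, PowerSeries.constantCoeff (F a) = 1) : PowerSeries.constantCoeff (∏ a ∈ s, F a) = 1 := by
  rw [map_prod]; exact Finset.prod_eq_one h

theorem psOp_prod {ι : Type*} (s : Finset ι) (F : ι → PowerSeries R)
    (h : ∀ a ∈ s, PowerSeries.constantCoeff (F a) = 1) (k : ℕ) :
    psOp (∏ a ∈ s, F a) k = ∑ a ∈ s, psOp (F a) k := by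
  classical
  induction s using Finset.induction_on with
  | empty => simp [psOp_one]
  | insert a s ha ih =>
    rw [Finset.prod_insert ha, Finset.sum_insert ha,
      psOp_mul (h a (Finset.mem_insert_self a s))
        (constantCoeff_prod_one s F fun b hb => h b (Finset.mem_insert_of_mem hb)),
      ih fun b hb => h b (Finset.mem_insert_of_mem hb)]

theorem cSer_mul {f g : PowerSeries R} (hf : PowerSeries.constantCoeff f = 1)
    (hg : PowerSeries.constantCoeff g = 1) (i : ℕ) :
    cSer (f * g) i = ∏ a ∈ range (i + 1), mulSer (cSer f a) (cSer g (i - a)) := by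
  have key : cSer (gen3 0 * gen3 1) i = ∏ a ∈ range (i + 1), mulSer (cSer (gen3 0) a) (cSer (gen3 1) (i - a)) := by
    refine eq_of_psOp_eq (constantCoeff_cSer _ _) (constantCoeff_prod_one _ _ fun a _ => constantCoeff_mulSer _ _)
      fun k => ?_
    rw [psOp_prod _ _ (fun a _ => constantCoeff_mulSer _ _), psOp_cSer]
    have h : adamsSer k (gen3 0 * gen3 1) = adamsSer k (gen3 0) * adamsSer k (gen3 1) := by
      refine eq_of_psOp_eq (constantCoeff_adamsSer _ _) (by simp [constantCoeff_adamsSer]) fun l => ?_
      rw [psOp_adamsSer (by simp [constantCoeff_gen3]), psOp_mul (constantCoeff_gen3 0) (constantCoeff_gen3 1),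
        psOp_mul (constantCoeff_adamsSer _ _) (constantCoeff_adamsSer _ _), psOp_adamsSer (constantCoeff_gen3 0),
        psOp_adamsSer (constantCoeff_gen3 1)]
    rw [h, PowerSeries.coeff_mul, Finset.Nat.sum_antidiagonal_eq_sum_range_succ_mk]
    refine Finset.sum_congr rfl fun a _ => ?_
    rw [psOp_mulSer (constantCoeff_cSer _ _) (constantCoeff_cSer _ _), psOp_cSer, psOp_cSer]
  have hall : ∀ j, PowerSeries.constantCoeff (![f, g, g] j) = 1 := by intro j; fin_cases j <;> assumption
  have := congrArg (PowerSeries.map (ev3 ![f, g, g])) key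
  simpa [map_mulSer, map_cSer, map_gen3 hall] using this

end Generic

/-! ### splitting implies special -/

variable {K : Type u} [CommRing K] [LambdaOps K] {P : PosStructure K}

theorem lamSeries_mul_lines_left {u : Multiset K} (hu : ∀ a ∈ u, P.IsLine a) {v : Multiset K}
    (hv : ∀ a ∈ v, P.IsLine a) :
    lamSeries (u.sum * v.sum) = mulSer (lamSeries u.sum) (lamSeries v.sum) := by
  have hm : u.sum * v.sum = (mulProd u v).sum := by simpa using (sum_mulProd u v 1).symm
  rw [hm, lamSeries_lines (P := P), lamSeries_lines hu, lamSeries_lines hv, mulSer_split]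
  intro a ha
  obtain ⟨⟨p, q⟩, hpq, rfl⟩ := Multiset.mem_map.mp ha
  exact isLine_mul (hu p (Multiset.mem_product.mp hpq).1) (hv q (Multiset.mem_product.mp hpq).2)

theorem lamSeries_lam_lines {s : Multiset K} (hs : ∀ u ∈ s, P.IsLine u) (i : ℕ) :
    lamSeries (LambdaOps.lam i s.sum) = cSer (lamSeries s.sum) i := by
  rcases eq_or_ne i 0 with rfl | hi
  · rw [LambdaOps.lam_zero, lamSeries_linear (lam_one_pos P), map_one, one_mul, cSer, if_pos rfl]
  rw [cSer, if_neg hi, lamSeries_lines hs, compSer_split, lam_lines hs]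
  have hl : ∀ u ∈ subProd s i, P.IsLine u := by
    intro u hu
    simp only [subProd, Multiset.mem_map] at hu
    obtain ⟨t, ht, rfl⟩ := hu
    exact Multiset.prod_induction P.IsLine t (fun _ _ => isLine_mul) (isLine_one P) fun a ha =>
      hs a (Multiset.mem_of_le (Multiset.mem_powersetCard.mp ht).1 ha)
  rw [← lamSeries_lines hl]
  rfl

/-- differences of sums of line elements -/
def LineDiff (P : PosStructure K) (x : K) : Prop :=
  ∃ s t : Multiset K, (∀ u ∈ s, P.IsLine u) ∧ (∀ u ∈ t, P.IsLine u) ∧ x = s.sum - t.sum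

theorem LineDiff.of_lines {s : Multiset K} (hs : ∀ u ∈ s, P.IsLine u) : LineDiff P s.sum :=
  ⟨s, 0, hs, fun u hu => absurd hu (Multiset.notMem_zero u), by simp⟩

theorem LineDiff.add {x y : K} (hx : LineDiff P x) (hy : LineDiff P y) : LineDiff P (x + y) := by
  obtain ⟨s, t, hs, ht, rfl⟩ := hx
  obtain ⟨s', t', hs', ht', rfl⟩ := hy
  refine ⟨s + s', t + t', fun u hu => (Multiset.mem_add.mp hu).elim (hs u) (hs' u),
    fun u hu => (Multiset.mem_add.mp hu).elim (ht u) (ht' u), ?_⟩
  rw [Multiset.sum_add, Multiset.sum_add]; ring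

theorem LineDiff.neg {x : K} (hx : LineDiff P x) : LineDiff P (-x) := by
  obtain ⟨s, t, hs, ht, rfl⟩ := hx
  exact ⟨t, s, ht, hs, neg_sub _ _⟩

theorem LineDiff.mul {x y : K} (hx : LineDiff P x) (hy : LineDiff P y) : LineDiff P (x * y) := by
  obtain ⟨s, t, hs, ht, rfl⟩ := hx
  obtain ⟨s', t', hs', ht', rfl⟩ := hy
  have hl : ∀ a b : Multiset K, (∀ u ∈ a, P.IsLine u) → (∀ u ∈ b, P.IsLine u) →
      LineDiff P (a.sum * b.sum) := by
    intro a b ha hb
    have hm : a.sum * b.sum = (mulProd a b).sum := by simpa using (sum_mulProd a b 1).symm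
    rw [hm]
    refine LineDiff.of_lines fun u hu => ?_
    obtain ⟨⟨p, q⟩, hpq, rfl⟩ := Multiset.mem_map.mp hu
    exact isLine_mul (ha p (Multiset.mem_product.mp hpq).1) (hb q (Multiset.mem_product.mp hpq).2)
  rw [show (s.sum - t.sum) * (s'.sum - t'.sum)
      = (s.sum * s'.sum + t.sum * t'.sum) + -(s.sum * t'.sum + t.sum * s'.sum) by ring]
  exact ((hl _ _ hs hs').add (hl _ _ ht ht')).add ((hl _ _ hs ht').add (hl _ _ ht hs')).neg

theorem lamSeries_mul_diff {x y : K} (hx : LineDiff P x) (hy : LineDiff P y) :
    lamSeries (x * y) = mulSer (lamSeries x) (lamSeries y) := by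
  obtain ⟨s, t, hs, ht, rfl⟩ := hx
  obtain ⟨s', t', hs', ht', rfl⟩ := hy
  have hcc : ∀ z : K, PowerSeries.constantCoeff (lamSeries z) = 1 := constantCoeff_lamSeries
  have hright : ∀ a : Multiset K, (∀ u ∈ a, P.IsLine u) →
      lamSeries (a.sum * (s'.sum - t'.sum)) = mulSer (lamSeries a.sum) (lamSeries (s'.sum - t'.sum)) := by
    intro a ha
    refine (lamSeries_isUnit (a.sum * t'.sum)).mul_right_cancel ?_
    rw [← lamSeries_add, ← mul_add, sub_add_cancel, lamSeries_mul_lines_left ha hs',
      lamSeries_mul_lines_left ha ht', ← mulSer_mul_right (hcc _) (hcc _) (hcc _), ← lamSeries_add, sub_add_cancel]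
  refine (lamSeries_isUnit (t.sum * (s'.sum - t'.sum))).mul_right_cancel ?_
  rw [← lamSeries_add, ← add_mul, sub_add_cancel, hright s hs, hright t ht,
    ← mulSer_mul_left (hcc _) (hcc _) (hcc _), ← lamSeries_add, sub_add_cancel]

theorem lamSeries_mul_pos (hK : HasSplitting K P) (x y : K) :
    lamSeries (x * y) = mulSer (lamSeries x) (lamSeries y) := by
  obtain ⟨L, f, hf, h⟩ := exists_splitting_elems hK [x, y]
  apply PowerSeries.map_injective f hf.injective
  rw [map_mulSer, map_lamSeries hf, map_lamSeries hf, map_lamSeries hf, map_mul]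
  exact lamSeries_mul_diff (h x (by simp)) (h y (by simp))

theorem lamSeries_lam_diff {x : K} (hx : LineDiff P x) (i : ℕ) :
    LineDiff P (LambdaOps.lam i x) ∧ lamSeries (LambdaOps.lam i x) = cSer (lamSeries x) i := by
  obtain ⟨s, t, hs, ht, rfl⟩ := hx
  set z := s.sum - t.sum with hz
  have hzs : z + t.sum = s.sum := sub_add_cancel _ _
  have hsub : ∀ (w : Multiset K), (∀ u ∈ w, P.IsLine u) → ∀ b, LineDiff P (LambdaOps.lam b w.sum) := by
    intro w hw b
    rw [lam_lines hw]
    change LineDiff P (subProd w b).sum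
    refine LineDiff.of_lines fun u hu => ?_
    simp only [subProd, Multiset.mem_map] at hu
    obtain ⟨r, hr, rfl⟩ := hu
    exact Multiset.prod_induction P.IsLine r (fun _ _ => isLine_mul) (isLine_one _) fun a ha =>
      hw a (Multiset.mem_of_le (Multiset.mem_powersetCard.mp hr).1 ha)
  induction i using Nat.strong_induction_on with
  | _ i ih =>
    have hsum : LineDiff P (∑ a ∈ range i, LambdaOps.lam a z * LambdaOps.lam (i - a) t.sum) :=
      Finset.sum_induction _ (LineDiff P) (fun a b => LineDiff.add)
        (by simpa using LineDiff.of_lines (P := P) (s := 0) fun u hu => absurd hu (Multiset.notMem_zero u))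
        fun a ha => ((ih a (Finset.mem_range.mp ha)).1).mul (hsub t ht _)
    have e : LambdaOps.lam i s.sum = ∑ a ∈ range i, LambdaOps.lam a z * LambdaOps.lam (i - a) t.sum + LambdaOps.lam i z := by
      rw [← hzs, LambdaOps.lam_add, Finset.sum_range_succ, Nat.sub_self, LambdaOps.lam_zero, mul_one]
    refine ⟨?_, ?_⟩
    · rw [show LambdaOps.lam i z = LambdaOps.lam i s.sum + -(∑ a ∈ range i, LambdaOps.lam a z * LambdaOps.lam (i - a) t.sum) by
        rw [e]; ring]
      exact (hsub s hs i).add hsum.neg
    have h1 : lamSeries (LambdaOps.lam i s.sum)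
        = (∏ a ∈ range i, mulSer (cSer (lamSeries z) a) (cSer (lamSeries t.sum) (i - a))) * lamSeries (LambdaOps.lam i z) := by
      rw [e, lamSeries_add, lamSeries_sum]
      congr 1
      refine Finset.prod_congr rfl fun a ha => ?_
      rw [lamSeries_mul_diff (ih a (Finset.mem_range.mp ha)).1 (hsub t ht _), (ih a (Finset.mem_range.mp ha)).2,
        lamSeries_lam_lines ht]
    have h2 : lamSeries (LambdaOps.lam i s.sum)
        = (∏ a ∈ range i, mulSer (cSer (lamSeries z) a) (cSer (lamSeries t.sum) (i - a))) * cSer (lamSeries z) i := by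
      rw [lamSeries_lam_lines hs, ← hzs, lamSeries_add, cSer_mul (constantCoeff_lamSeries _) (constantCoeff_lamSeries _),
        Finset.prod_range_succ, Nat.sub_self]
      congr 1
      conv_lhs => arg 2; rw [cSer, if_pos rfl]
      exact mulSer_one_add_X (constantCoeff_cSer _ _)
    refine IsUnit.mul_left_cancel ?_ (h1.symm.trans h2)
    exact PowerSeries.isUnit_iff_constantCoeff.mpr (by
      rw [constantCoeff_prod_one _ _ fun a _ => constantCoeff_mulSer _ _]; exact isUnit_one)

theorem lamSeries_lam_pos (hK : HasSplitting K P) (i : ℕ) (x : K) :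
    lamSeries (LambdaOps.lam i x) = cSer (lamSeries x) i := by
  obtain ⟨L, f, hf, h⟩ := exists_splitting_elems hK [x]
  apply PowerSeries.map_injective f hf.injective
  rw [map_cSer, map_lamSeries hf, map_lamSeries hf, hf.isLambdaHom]
  exact (lamSeries_lam_diff (h x (by simp)) i).2

theorem isSpecial_of_hasSplitting (hK : HasSplitting K P) : IsSpecial K := by
  refine ⟨lam_one_pos P, fun n p hp x y => ?_, fun i j q hq x => ?_⟩
  · rw [isMulPoly_unique hp (pN_spec n)]
    rcases eq_or_ne n 0 with rfl | hn
    · rw [LambdaOps.lam_zero]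
      have h := mulPoly_identity (R := K) (pN_spec 0) 0 0
      rw [esymm_zero_right] at h
      convert h using 3
      exact Subsingleton.elim _ _
    · rw [← coeff_lamSeries, lamSeries_mul_pos hK, mulSer, PowerSeries.coeff_mk, if_neg hn]
      simp only [cf, coeff_lamSeries]
  · rw [isCompPoly_unique hq (qIJ_spec i j)]
    rcases eq_or_ne j 0 with rfl | hj
    · rw [LambdaOps.lam_zero]
      have h := compPoly_identity (R := K) (qIJ_spec i 0) 0
      rw [esymm_zero_right] at h
      convert h using 3
      funext k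
      exact absurd k.isLt (by simp)
    rcases eq_or_ne i 0 with rfl | hi
    · rw [LambdaOps.lam_zero]
      have h := compPoly_identity (R := K) (qIJ_spec 0 j) 0
      rw [← coeff_lamSeries, lamSeries_linear (lam_one_pos P), map_add, PowerSeries.coeff_C_mul,
        PowerSeries.coeff_one, PowerSeries.coeff_X, if_neg hj]
      refine (Eq.trans ?_ (h.trans ?_))
      · rcases j with _ | _ | j
        · exact absurd rfl hj
        · simp [subProd, Multiset.esymm, Multiset.powersetCard_one]
        · simp [subProd, Multiset.esymm]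
      · congr 2
        funext k
        exact absurd k.isLt (by simp)
    · rw [← coeff_lamSeries, lamSeries_lam_pos hK, cSer, if_neg hi, compSer, PowerSeries.coeff_mk, if_neg hj]
      simp only [cf, coeff_lamSeries]

/-! ### the binomial ring of integers -/

attribute [local instance] binomialLambdaOps

theorem lamSeries_intCast (P : PosStructure K) (z : ℤ) :
    lamSeries (z : K) = PowerSeries.map (Int.castRingHom K) (lamSeries z) := by
  have h : ∀ n : ℕ, lamSeries (n : K) = PowerSeries.map (Int.castRingHom K) (lamSeries (n : ℤ)) := fun n => by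
    rw [lamSeries_natCast (lam_one_pos P), lamSeries_natCast, map_pow, map_add, map_one, PowerSeries.map_X]
    intro k hk
    show Ring.choose (1 : ℤ) k = 0
    rw [← Nat.cast_one, Ring.choose_natCast, Nat.choose_eq_zero_of_lt (by omega), Nat.cast_zero]
  obtain ⟨a, b, rfl⟩ : ∃ a b : ℕ, z = (a : ℤ) - b := ⟨z.toNat, (-z).toNat, by omega⟩
  refine (lamSeries_isUnit (b : K)).mul_right_cancel ?_
  rw [← lamSeries_add, show (((a : ℤ) - b : ℤ) : K) + (b : K) = (a : K) by push_cast; ring, h, h, ← map_mul,
    ← lamSeries_add, sub_add_cancel]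

theorem aug_lamSeries_pos' (hK : HasSplitting K P) {e : K} (he : e ∈ P.pos) :
    PowerSeries.map P.aug (lamSeries e) = (1 + PowerSeries.X) ^ (P.aug e).toNat := by
  obtain ⟨L, f, hf, h⟩ := exists_splitting hK [e] (by simpa using he)
  obtain ⟨s, hs, hsum⟩ := h e (by simp)
  have h1 : PowerSeries.map P.aug (lamSeries e) = PowerSeries.map L.posStr.aug (lamSeries (f e)) := by
    ext i
    simp only [PowerSeries.coeff_map, coeff_lamSeries]
    rw [← hf.isLambdaHom, hf.aug_comp]
  have hc : (P.aug e).toNat = Multiset.card s := by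
    rw [← hf.aug_comp, ← hsum, aug_sum_lines hs, Int.toNat_natCast]
  rw [h1, ← hsum, lamSeries_lines hs, map_splitSeries,
    Multiset.map_congr (g := fun _ => (1 : ℤ)) rfl (fun u hu => (hs u hu).2), hc]
  simp [splitSeries]

theorem aug_lam (hK : HasSplitting K P) (n : ℕ) (x : K) : P.aug (LambdaOps.lam n x) = Ring.choose (P.aug x) n := by
  have h : PowerSeries.map P.aug (lamSeries x) = lamSeries (P.aug x) := by
    obtain ⟨e, g, he, hg, rfl⟩ := P.exists_sub x
    have hpos : ∀ w ∈ P.pos, PowerSeries.map P.aug (lamSeries w) = lamSeries (P.aug w) := fun w hw => by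
      rw [aug_lamSeries_pos' hK hw]
      conv_rhs => rw [← Int.toNat_of_nonneg (P.aug_pos w hw).le]
      rw [lamSeries_natCast]
      intro k hk
      show Ring.choose (1 : ℤ) k = 0
      rw [← Nat.cast_one, Ring.choose_natCast, Nat.choose_eq_zero_of_lt (by omega), Nat.cast_zero]
    refine (lamSeries_isUnit (P.aug g)).mul_right_cancel ?_
    rw [← lamSeries_add, map_sub, sub_add_cancel, ← hpos e he, ← hpos g hg, ← map_mul, ← lamSeries_add,
      sub_add_cancel]
  have := congrArg (PowerSeries.coeff n) h
  rw [PowerSeries.coeff_map, coeff_lamSeries, coeff_lamSeries] at this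
  exact this

/-- the augmentation as a map of `ℤ`-algebras -/
noncomputable def augAlg (P : PosStructure K) : K →ₐ[ℤ] ℤ := P.aug.toIntAlgHom

theorem augAlg_apply (P : PosStructure K) (x : K) : augAlg P x = P.aug x := rfl

theorem isBinomial_int : IsBinomial ℤ := fun _ _ => rfl

theorem isLambdaAlg_int (P : PosStructure K) : IsLambdaAlg ℤ K := fun n x => by
  have := congrArg (PowerSeries.coeff n) (lamSeries_intCast P x)
  rw [coeff_lamSeries, PowerSeries.coeff_map, coeff_lamSeries] at this
  rw [algebraMap_int_eq]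
  exact this.symm

theorem isAug_int (hK : HasSplitting K P) : IsAugLambdaAlg ℤ K (augAlg P) :=
  ⟨isLambdaAlg_int P, fun n a => aug_lam hK n a⟩

theorem mem_gammaFiltration_iff (n : ℕ) (x : K) :
    x ∈ gammaFiltration P n ↔ x ∈ gammaFil (augAlg P : K →+* ℤ) n := by
  constructor
  · intro hx
    rcases eq_or_ne n 0 with rfl | hn
    · rw [(isMulFil_gammaFil (augAlg P : K →+* ℤ)).top]; trivial
    refine mem_induction (motive := fun z => z ∈ gammaFil (augAlg P : K →+* ℤ) n) hn hx
      (fun l hl hle => gammaFil_prod_mem _ l hl hle) (zero_mem _) (fun _ _ => add_mem) (fun _ => neg_mem)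
  · intro hx
    rw [gammaFil] at hx
    induction hx using Submodule.span_induction with
    | mem y hy => obtain ⟨l, hl, hle, rfl⟩ := hy; exact prod_mem l hl hle
    | zero => exact zero_mem _
    | add a b _ _ ha hb => exact add_mem ha hb
    | smul r a _ ha => exact mul_mem_left' n r ha

end Groth.Agent.Lam
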