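import Groth.Agent.Lam.KRRBasic
import Groth.Agent.Lam.Bridge
import Mathlib.LinearAlgebra.Lagrange
import Mathlib.RingTheory.Localization.FractionRing
import Mathlib.RingTheory.Localization.Away.Basic
import Mathlib.RingTheory.Flat.Localization
import Mathlib.RingTheory.TensorProduct.Basic

/-!
Adams–Riemann–Roch for the elementary projection.
-/

universe u v

open Finset Polynomial TensorProduct

namespace Groth.Agent.Lam

/-! ### the interpolation identity -/

section Interp

variable {T : Type u} [CommRing T] {n : ℕ}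

/-- `∏ (X - u_k)` -/
noncomputable def rootsPoly (u : Fin n → T) : T[X] := ∏ k, (X - C (u k))

/-- `∏_l Σ_{k<j} u_l^k X^{j-1-k}` -/
noncomputable def thetaPoly (u : Fin n → T) (j : ℕ) : T[X] :=
  ∏ l, ∑ k ∈ range j, C (u l) ^ k * X ^ (j - 1 - k)

/-- `∏_k Θ(u_k)` -/
noncomputable def thetaNorm (u : Fin n → T) (j : ℕ) : T := ∏ k, (thetaPoly u j).eval (u k)

theorem rootsPoly_monic (u : Fin n → T) : (rootsPoly u).Monic :=
  monic_prod_of_monic _ _ fun _ _ => monic_X_sub_C _

theorem natDegree_rootsPoly [Nontrivial T] (u : Fin n → T) : (rootsPoly u).natDegree = n := by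
  rw [rootsPoly, natDegree_prod_of_monic _ _ fun _ _ => monic_X_sub_C _]
  simp [natDegree_X_sub_C]

theorem map_rootsPoly {S : Type v} [CommRing S] (φ : T →+* S) (u : Fin n → T) :
    (rootsPoly u).map φ = rootsPoly (φ ∘ u) := by
  simp [rootsPoly, Polynomial.map_prod]

theorem map_thetaPoly {S : Type v} [CommRing S] (φ : T →+* S) (u : Fin n → T) (j : ℕ) :
    (thetaPoly u j).map φ = thetaPoly (φ ∘ u) j := by
  simp [thetaPoly, Polynomial.map_prod, Polynomial.map_sum]

theorem map_thetaNorm {S : Type v} [CommRing S] (φ : T →+* S) (u : Fin n → T) (j : ℕ) :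
    φ (thetaNorm u j) = thetaNorm (φ ∘ u) j := by
  rw [thetaNorm, thetaNorm, map_prod]
  refine Finset.prod_congr rfl fun k _ => ?_
  rw [← map_thetaPoly, Function.comp_apply, eval_map, eval₂_at_apply]

theorem exists_adjugate (u : Fin n → T) (j : ℕ) :
    ∃ A : T[X], rootsPoly u ∣ thetaPoly u j * A - C (thetaNorm u j) := by
  set Θ := thetaPoly u j with hΘ
  have hdvd : rootsPoly u ∣ ∏ k, (Θ - C (Θ.eval (u k))) :=
    Finset.prod_dvd_prod_of_dvd _ _ fun k _ => X_sub_C_dvd_sub_C_eval
  have hmem : (∏ k, (Θ - C (Θ.eval (u k)))) - ∏ k, (-C (Θ.eval (u k))) ∈ Ideal.span {Θ} := by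
    rw [← Ideal.Quotient.eq, map_prod, map_prod]
    refine Finset.prod_congr rfl fun k _ => ?_
    rw [map_sub, Ideal.Quotient.eq_zero_iff_mem.mpr (Ideal.mem_span_singleton_self Θ), zero_sub, map_neg]
  obtain ⟨B, hB⟩ := Ideal.mem_span_singleton.mp hmem
  refine ⟨(-1) ^ (n + 1) * B, ?_⟩
  have hc : ∏ k, (-C (Θ.eval (u k))) = (-1 : T[X]) ^ n * C (thetaNorm u j) := by
    rw [Finset.prod_neg, thetaNorm, map_prod]; simp [hΘ]
  rw [show Θ * ((-1) ^ (n + 1) * B) - C (thetaNorm u j) = (-1 : T[X]) ^ (n + 1) * ∏ k, (Θ - C (Θ.eval (u k))) from ?_]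
  · exact hdvd.mul_left _
  · have e : ∏ k, (Θ - C (Θ.eval (u k))) = Θ * B + (-1 : T[X]) ^ n * C (thetaNorm u j) := by
      rw [← hc, ← hB]; ring
    rw [e, pow_succ]
    have : ((-1 : T[X]) ^ n) * (-1) ^ n = 1 := by rw [← mul_pow]; simp
    linear_combination (C (thetaNorm u j)) * this

theorem interp_field {F : Type u} [Field F] {r j : ℕ} (hj : 1 ≤ j) (hjF : (j : F) ≠ 0) (u : Fin (r + 1) → F)
    (hu0 : ∀ k, u k ≠ 0) (hinj : Function.Injective fun k => u k ^ j) (i : ℕ) (A : F[X])
    (hA : rootsPoly u ∣ thetaPoly u j * A - C (thetaNorm u j)) :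
    ((C (j : F) * A * X ^ (i * j + (r + 1) * (j - 1) + r)) %ₘ rootsPoly u).coeff r
      = thetaNorm u j * (X ^ (i + r) %ₘ rootsPoly (fun k => u k ^ j)).coeff r := by
  classical
  have hinj0 : Function.Injective u := fun a b h => hinj (by simp only [h])
  have hdeg : ∀ (w : Fin (r + 1) → F) (G : F[X]),
      (G %ₘ rootsPoly w).degree < ((Finset.univ : Finset (Fin (r + 1))).card : WithBot ℕ) := by
    intro w G
    refine lt_of_lt_of_le (degree_modByMonic_lt G (rootsPoly_monic w)) ?_
    rw [degree_eq_natDegree (rootsPoly_monic w).ne_zero, natDegree_rootsPoly]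
    simp
  have heval : ∀ (w : Fin (r + 1) → F) (G : F[X]) k, (G %ₘ rootsPoly w).eval (w k) = G.eval (w k) := by
    intro w G k
    have h : (rootsPoly w).eval (w k) = 0 := by
      rw [rootsPoly, eval_prod]; exact Finset.prod_eq_zero (Finset.mem_univ k) (by simp)
    conv_rhs => rw [← modByMonic_add_div G (rootsPoly w)]
    simp [h]
  have hcoef : ∀ (w : Fin (r + 1) → F), Function.Injective w → ∀ G : F[X],
      (G %ₘ rootsPoly w).coeff r = ∑ k, G.eval (w k) / ∏ l ∈ Finset.univ.erase k, (w k - w l) := by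
    intro w hw G
    have := Lagrange.coeff_eq_sum (s := Finset.univ) hw.injOn (hdeg w G)
    simp only [Finset.card_univ, Fintype.card_fin, Nat.add_sub_cancel] at this
    rw [this]
    exact Finset.sum_congr rfl fun k _ => by rw [heval]
  rw [hcoef u hinj0, hcoef _ hinj, Finset.mul_sum]
  refine Finset.sum_congr rfl fun k _ => ?_
  have hΘ : (thetaPoly u j).eval (u k) * (∏ l ∈ Finset.univ.erase k, (u k - u l))
      = (j : F) * u k ^ (j - 1) * ∏ l ∈ Finset.univ.erase k, (u k ^ j - u l ^ j) := by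
    rw [thetaPoly, eval_prod, ← Finset.mul_prod_erase _ _ (Finset.mem_univ k), mul_assoc, ← Finset.prod_mul_distrib]
    congr 1
    · simp only [eval_finset_sum, eval_mul, eval_pow, eval_C, eval_X]
      rw [Finset.sum_congr rfl fun m hm => by
        rw [← pow_add, show m + (j - 1 - m) = j - 1 by simp at hm; omega]]
      simp
    · refine Finset.prod_congr rfl fun l _ => ?_
      simp only [eval_finset_sum, eval_mul, eval_pow, eval_C, eval_X]
      have := geom_sum₂_mul (u l) (u k) j
      linear_combination -this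
  have hA' : (thetaPoly u j).eval (u k) * A.eval (u k) = thetaNorm u j := by
    obtain ⟨q, hq⟩ := hA
    have := congrArg (Polynomial.eval (u k)) hq
    have h : (rootsPoly u).eval (u k) = 0 := by
      rw [rootsPoly, eval_prod]; exact Finset.prod_eq_zero (Finset.mem_univ k) (by simp)
    simp [h] at this
    linear_combination this
  have h1 : (∏ l ∈ Finset.univ.erase k, (u k - u l)) ≠ 0 :=
    Finset.prod_ne_zero_iff.mpr fun l hl => sub_ne_zero.mpr fun h => (Finset.mem_erase.mp hl).1 (hinj0 h).symm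
  have h2 : (∏ l ∈ Finset.univ.erase k, (u k ^ j - u l ^ j)) ≠ 0 :=
    Finset.prod_ne_zero_iff.mpr fun l hl => sub_ne_zero.mpr fun h => (Finset.mem_erase.mp hl).1 (hinj h).symm
  have h3 : (thetaPoly u j).eval (u k) ≠ 0 := by
    intro h
    rw [h, zero_mul] at hΘ
    exact mul_ne_zero (mul_ne_zero hjF (pow_ne_zero _ (hu0 k))) h2 hΘ.symm
  simp only [eval_mul, eval_C, eval_pow, eval_X]
  have hexp : u k ^ (i * j + (r + 1) * (j - 1) + r) = u k ^ (j - 1) * (u k ^ j) ^ (i + r) := by
    rw [← pow_mul, ← pow_add]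
    congr 1
    obtain ⟨j', rfl⟩ : ∃ j', j = j' + 1 := ⟨j - 1, by omega⟩
    simp only [Nat.add_sub_cancel]; ring
  rw [hexp, mul_div_assoc', div_eq_div_iff h1 h2, ← hA']
  linear_combination -(A.eval (u k) * (u k ^ j) ^ (i + r)) * hΘ

theorem interp_identity {r j : ℕ} (hj : 1 ≤ j) (u : Fin (r + 1) → T) (hδ : IsUnit (thetaNorm u j)) (i : ℕ)
    (Y : T[X]) (hY : Y.natDegree ≤ r)
    (h : rootsPoly u ∣ thetaPoly u j * Y - C (j : T) * X ^ (i * j + (r + 1) * (j - 1) + r)) :
    Y.coeff r = (X ^ (i + r) %ₘ rootsPoly (fun k => u k ^ j)).coeff r := by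
  nontriviality T
  let B := MvPolynomial (Fin (r + 1)) ℤ
  let uB : Fin (r + 1) → B := MvPolynomial.X
  obtain ⟨A, hA⟩ := exists_adjugate uB j
  set M := i * j + (r + 1) * (j - 1) + r
  have key : ((C (j : B) * A * X ^ M) %ₘ rootsPoly uB).coeff r
      = thetaNorm uB j * (X ^ (i + r) %ₘ rootsPoly (fun k => uB k ^ j)).coeff r := by
    let F := FractionRing B
    let ι : B →+* F := algebraMap B F
    have hι : Function.Injective ι := IsFractionRing.injective B F
    have hA' : rootsPoly (ι ∘ uB) ∣ thetaPoly (ι ∘ uB) j * A.map ι - C (thetaNorm (ι ∘ uB) j) := by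
      have := Polynomial.map_dvd ι hA
      rwa [Polynomial.map_sub, Polynomial.map_mul, map_rootsPoly, map_thetaPoly, map_C, map_thetaNorm] at this
    have h1 := interp_field hj (u := ι ∘ uB) (i := i) (A := A.map ι)
      (by rw [← map_natCast ι]; exact fun h => by
            have := hι (h.trans (map_zero ι).symm); exact absurd (Nat.cast_eq_zero.mp this) (by omega))
      (fun k h => MvPolynomial.X_ne_zero k (hι (h.trans (map_zero ι).symm)))
      (fun a b h => by
        have h' : uB a ^ j = uB b ^ j := hι (by simpa [map_pow] using h)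
        change (MvPolynomial.X a : B) ^ j = MvPolynomial.X b ^ j at h'
        rw [MvPolynomial.X_pow_eq_monomial, MvPolynomial.X_pow_eq_monomial] at h'
        exact Finsupp.single_left_injective (show j ≠ 0 by omega)
          (MvPolynomial.monomial_left_injective one_ne_zero h'))
      hA'
    apply hι
    rw [map_mul, ← coeff_map, ← coeff_map, map_modByMonic _ (rootsPoly_monic _), map_modByMonic _ (rootsPoly_monic _),
      map_rootsPoly, map_rootsPoly, map_thetaNorm]
    simp only [Polynomial.map_mul, Polynomial.map_pow, map_C, map_X]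
    rw [map_natCast ι j]
    rw [show (ι ∘ fun k => uB k ^ j) = fun k => (ι ∘ uB) k ^ j by funext k; simp [map_pow]]
    exact h1
  let φ : B →+* T := (MvPolynomial.aeval u).toRingHom
  have hφu : φ ∘ uB = u := funext fun k => MvPolynomial.aeval_X u k
  have key' := congrArg φ key
  rw [map_mul, ← coeff_map, ← coeff_map, map_modByMonic _ (rootsPoly_monic _), map_modByMonic _ (rootsPoly_monic _),
    map_rootsPoly, map_rootsPoly, map_thetaNorm, hφu,
    show (φ ∘ fun k => uB k ^ j) = fun k => u k ^ j by funext k; rw [Function.comp_apply, map_pow, ← hφu]; rfl] at key'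
  simp only [Polynomial.map_mul, Polynomial.map_pow, map_C, map_X] at key'
  rw [map_natCast φ j] at key'
  have hA' : rootsPoly u ∣ thetaPoly u j * A.map φ - C (thetaNorm u j) := by
    have := Polynomial.map_dvd φ hA
    rwa [Polynomial.map_sub, Polynomial.map_mul, map_rootsPoly, map_thetaPoly, map_C, map_thetaNorm, hφu] at this
  have hd : rootsPoly u ∣ C (thetaNorm u j) * Y - C (j : T) * A.map φ * X ^ M := by
    have h1 := h.mul_left (A.map φ)
    have h2 := hA'.mul_left Y
    have := dvd_sub h1 h2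
    convert this using 1
    ring
  have hmod : (C (j : T) * A.map φ * X ^ M) %ₘ rootsPoly u = C (thetaNorm u j) * Y := by
    have hdeg : (C (thetaNorm u j) * Y).degree < (rootsPoly u).degree := by
      rw [degree_eq_natDegree (rootsPoly_monic u).ne_zero, natDegree_rootsPoly]
      exact lt_of_le_of_lt (degree_le_natDegree.trans (WithBot.coe_le_coe.mpr ((natDegree_C_mul_le _ _).trans hY)))
        (WithBot.coe_lt_coe.mpr (Nat.lt_succ_self r))
    have h0 := (modByMonic_eq_zero_iff_dvd (rootsPoly_monic u)).mpr hd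
    rw [sub_modByMonic, (modByMonic_eq_self_iff (rootsPoly_monic u)).mpr hdeg, sub_eq_zero] at h0
    exact h0.symm
  rw [hmod, coeff_C_mul] at key'
  exact hδ.mul_left_cancel key'

end Interp

/-! ### the elementary projection -/

open _root_.LambdaRing

variable {K : Type u} [CommRing K] [LambdaOps K] {P : PosStructure K} {e : K}

theorem extPoly_monic (he : e ∈ P.pos) : (KRR.extPoly P e).Monic := by
  obtain ⟨r, hr⟩ : ∃ r : ℕ, (P.aug e).toNat = r := ⟨_, rfl⟩
  refine monic_of_natDegree_le_of_coeff_eq_one r ?_ ?_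
  · rw [extPoly_eq hr]
    refine natDegree_sum_le_of_forall_le _ _ fun i _ => ?_
    exact (natDegree_C_mul_X_pow_le _ _).trans (by omega)
  · rw [extPoly_eq hr, finset_sum_coeff, Finset.sum_eq_single 0]
    · simp [cAlt, LambdaOps.lam_zero]
    · intro i hi h0
      rw [coeff_C_mul_X_pow, if_neg (by simp at hi; omega)]
    · simp

theorem natDegree_extPoly (he : e ∈ P.pos) {r : ℕ} (hr : P.aug e = r + 1) : (KRR.extPoly P e).natDegree = r + 1 := by
  haveI : Nontrivial K := P.aug.domain_nontrivial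
  have hn : (P.aug e).toNat = r + 1 := by omega
  refine le_antisymm ?_ (le_natDegree_of_ne_zero ?_)
  · rw [extPoly_eq hn]
    refine natDegree_sum_le_of_forall_le _ _ fun i _ => ?_
    exact (natDegree_C_mul_X_pow_le _ _).trans (by omega)
  · rw [extPoly_eq hn, finset_sum_coeff, Finset.sum_eq_single 0]
    · simp [cAlt, LambdaOps.lam_zero]
    · intro i hi h0
      rw [coeff_C_mul_X_pow, if_neg (by simp at hi; omega)]
    · simp

/-- the functional is a coefficient of a remainder -/
theorem functional_eq_coeff (he : e ∈ P.pos) {r : ℕ} (hr : P.aug e = r + 1)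
    (f : AdjoinRoot (KRR.extPoly P e) →ₗ[K] K)
    (hf : ∀ i : ℕ, i ≤ r → f (AdjoinRoot.root (KRR.extPoly P e) ^ i) = KRR.sigma i e)
    (v : AdjoinRoot (KRR.extPoly P e)) (hv : v * AdjoinRoot.root (KRR.extPoly P e) = 1)
    (z : AdjoinRoot (KRR.extPoly P e)) :
    f z = (AdjoinRoot.modByMonicHom (extPoly_monic he) (z * AdjoinRoot.root (KRR.extPoly P e) ^ r)).coeff r := by
  haveI : Nontrivial K := P.aug.domain_nontrivial
  set W := AdjoinRoot.modByMonicHom (extPoly_monic he) (z * AdjoinRoot.root (KRR.extPoly P e) ^ r) with hW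
  have hWd : W.natDegree < r + 1 := by
    obtain ⟨g, hg⟩ := AdjoinRoot.mk_surjective (z * AdjoinRoot.root (KRR.extPoly P e) ^ r)
    rw [hW, ← hg, AdjoinRoot.modByMonicHom_mk, ← natDegree_extPoly he hr]
    refine natDegree_modByMonic_lt g (extPoly_monic he) (fun h => ?_)
    have := natDegree_extPoly he hr
    rw [h] at this; simp at this
  have hz : z = AdjoinRoot.mk (KRR.extPoly P e) W * v ^ r := by
    rw [hW, AdjoinRoot.mk_leftInverse, mul_assoc, ← mul_pow, mul_comm _ v, hv, one_pow, mul_one]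
  conv_lhs => rw [hz, W.as_sum_range' (r + 1) hWd]
  rw [map_sum, Finset.sum_mul, map_sum, Finset.sum_eq_single r]
  · rw [← C_mul_X_pow_eq_monomial, map_mul (AdjoinRoot.mk _), map_pow (AdjoinRoot.mk _), AdjoinRoot.mk_C,
      AdjoinRoot.mk_X, mul_assoc, map_of_mul,
      ← mul_pow, mul_comm _ v, hv, one_pow]
    have := hf 0 (Nat.zero_le _)
    rw [pow_zero] at this
    rw [this, show KRR.sigma 0 e = 1 by simpa [cAlt, LambdaOps.lam_zero] using sigma_rec e 0, mul_one]
  · intro t ht hne
    have ht' : t < r := by simp at ht; omega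
    rw [← C_mul_X_pow_eq_monomial, map_mul (AdjoinRoot.mk _), map_pow (AdjoinRoot.mk _), AdjoinRoot.mk_C,
      AdjoinRoot.mk_X, mul_assoc, map_of_mul]
    rw [show AdjoinRoot.root (KRR.extPoly P e) ^ t * v ^ r = v ^ (r - t) by
      rw [show v ^ r = v ^ t * v ^ (r - t) by rw [← pow_add]; congr 1; omega, ← mul_assoc, ← mul_pow, mul_comm _ v, hv,
        one_pow, one_mul],
      functional_inv_pow he hr f hf v hv (r - t) (by omega) (by omega), mul_zero]
  · simp

theorem lamSeries_inverse_line (hK : HasSplitting K P) {l v : K} (hl : P.IsLine l) (hv : v * l = 1) :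
    lamSeries v = 1 + PowerSeries.C v * PowerSeries.X := by
  obtain ⟨L, g, hg, h⟩ := exists_splitting_elems hK [v]
  obtain ⟨s, t, hs, ht, hx⟩ := h v (by simp)
  apply PowerSeries.map_injective g hg.injective
  rw [map_lamSeries hg, map_add, map_one, map_mul, PowerSeries.map_C, PowerSeries.map_X]
  have hgl := map_isLine hg hl
  have hvl : g v * g l = 1 := by rw [← map_mul, hv, map_one]
  have hmul : ∀ a : Multiset L.carrier, (∀ u ∈ a, L.posStr.IsLine u) → ∀ u ∈ a.map (fun u => u * g l), L.posStr.IsLine u := by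
    intro a ha u hu
    obtain ⟨w, hw, rfl⟩ := Multiset.mem_map.mp hu
    exact isLine_mul (ha w hw) hgl
  have hsum : ∀ a : Multiset L.carrier, (a.map fun u => u * g l).sum = a.sum * g l := fun a => by
    rw [Multiset.sum_map_mul_right, Multiset.map_id']
  have key : (1 + PowerSeries.C (1 : L.carrier) * PowerSeries.X) * splitSeries (t.map fun u => u * g l)
      = splitSeries (s.map fun u => u * g l) := by
    rw [← lamSeries_linear (lam_one_pos L.posStr), ← lamSeries_lines (hmul t ht), ← lamSeries_lines (hmul s hs),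
      ← lamSeries_add, hsum, hsum]
    congr 1
    rw [← hvl, hx]; ring
  have key2 := congrArg (PowerSeries.rescale (g v)) key
  have hres : ∀ a : Multiset L.carrier, PowerSeries.rescale (g v) (splitSeries (a.map fun u => u * g l)) = splitSeries a := by
    intro a
    refine PowerSeries.ext fun m => ?_
    rw [PowerSeries.coeff_rescale, coeff_splitSeries, coeff_splitSeries, esymm_map_mul, mul_left_comm, ← mul_pow, hvl,
      one_pow, mul_one]
  rw [map_mul, map_add, map_one (PowerSeries.rescale (g v)), map_one PowerSeries.C, one_mul,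
    PowerSeries.rescale_X, hres, hres, ← lamSeries_lines ht, ← lamSeries_lines hs] at key2
  refine (lamSeries_isUnit t.sum).mul_right_cancel ?_
  rw [key2, ← lamSeries_add, hx, sub_add_cancel]

theorem lam_mul_inverse_line (hK : HasSplitting K P) {l v : K} (hl : P.IsLine l) (hv : v * l = 1) {e : K}
    (he : e ∈ P.pos) (i : ℕ) : LambdaOps.lam i (e * v) = LambdaOps.lam i e * v ^ i := by
  obtain ⟨L, g, hg, h⟩ := exists_splitting hK [e] (by simpa using he)
  obtain ⟨s, hs, hsum⟩ := h e (by simp)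
  have hspec := isSpecial_of_hasSplitting hK
  apply hg.injective
  have h1 : lamSeries (e * v) = mulSer (lamSeries e) (1 + PowerSeries.C v * PowerSeries.X) := by
    rw [lamSeries_mul hspec, lamSeries_inverse_line hK hl hv]
  have h2 := congrArg (PowerSeries.map g) h1
  rw [map_mulSer, map_lamSeries hg, map_lamSeries hg, ← hsum, lamSeries_lines hs] at h2
  have h3 : (1 + PowerSeries.C (g v) * PowerSeries.X) = splitSeries ({g v} : Multiset L.carrier) := by
    simp [splitSeries]
  rw [show PowerSeries.map g (1 + PowerSeries.C v * PowerSeries.X) = 1 + PowerSeries.C (g v) * PowerSeries.X by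
      simp, h3, mulSer_split] at h2
  have h4 := congrArg (PowerSeries.coeff i) h2
  rw [coeff_lamSeries, coeff_splitSeries, ← hg.isLambdaHom] at h4
  rw [h4, show mulProd s ({g v} : Multiset L.carrier) = s.map fun u => u * g v by
      clear h h2 h4 hsum hs
      induction s using Multiset.induction_on <;> simp_all [mulProd, Multiset.cons_product],
    esymm_map_mul, map_mul, map_pow, hg.isLambdaHom, ← hsum, lam_lines hs]

theorem isNilpotent_of_esymm {R : Type*} [CommRing R] (s : Multiset R)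
    (h : ∀ r, 1 ≤ r → IsNilpotent (s.esymm r)) : ∀ a ∈ s, IsNilpotent a := by
  intro a ha
  have h0 : ∏ x ∈ Finset.range 1, ((s.map fun b => a - b).prod) = 0 := by
    rw [Finset.prod_range_one]
    exact Multiset.prod_eq_zero (Multiset.mem_map.mpr ⟨a, ha, sub_self a⟩)
  rw [Finset.prod_range_one] at h0
  have hv := congrArg (Polynomial.eval a) (Multiset.prod_X_add_C_eq_sum_esymm (s.map fun b => b * -1))
  simp only [Polynomial.eval_multiset_prod, Multiset.map_map, Function.comp_def, eval_add, eval_X, eval_C,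
    eval_finset_sum, eval_mul, eval_pow, Multiset.card_map, esymm_map_mul] at hv
  rw [show (fun x => a + x * -1) = fun x => a - x by funext x; ring, h0] at hv
  rw [Finset.sum_range_succ', esymm_zero_right, pow_zero, one_mul, one_mul, Nat.sub_zero] at hv
  have : IsNilpotent (a ^ Multiset.card s) := by
    rw [show a ^ Multiset.card s = -(∑ k ∈ range (Multiset.card s), s.esymm (k + 1) * (-1) ^ (k + 1) * a ^ (Multiset.card s - (k + 1))) by
      linear_combination -hv]
    refine IsNilpotent.neg (isNilpotent_sum fun k _ => ?_)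
    exact Commute.isNilpotent_mul_right (Commute.all _ _) (Commute.isNilpotent_mul_right (Commute.all _ _) (h (k + 1) (by omega)))
  exact this.of_pow

theorem isNilpotent_of_aug (hN : ∃ N, gammaFiltration P N = ⊥) {x : K} (hx : P.aug x = 0) : IsNilpotent x := by
  obtain ⟨N, hN⟩ := hN
  refine ⟨N, ?_⟩
  have h := pow_mem' (P := P) (m := 1) (by simpa [gamma_one] using gamma_mem (P := P) hx 1) N
  rw [mul_one, hN] at h
  exact h

theorem aug_sigma_rel (he : e ∈ P.pos) {j : ℕ} (hK : HasSplitting K P) :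
    P.aug (KRR.bott P j e) = (j : ℤ) ^ (P.aug e).toNat := by
  obtain ⟨L, f, hf, h⟩ := exists_splitting hK [e] (by simpa using he)
  obtain ⟨s, hs, hsum⟩ := h e (by simp)
  have hc : Multiset.card s = (P.aug e).toNat := by rw [← hf.aug_comp, ← hsum, aug_sum_lines hs, Int.toNat_natCast]
  obtain ⟨g, hg⟩ := exists_family hc
  rw [← hf.aug_comp, KRR.bott, map_aeval_int, map_aeval_int]
  have : (fun i : Fin (P.aug e).toNat => L.posStr.aug (f (LambdaOps.lam (i.1 + 1) e)))
      = fun i : Fin (P.aug e).toNat => MvPolynomial.aeval (fun _ : Fin (P.aug e).toNat => (1 : ℤ))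
          (MvPolynomial.esymm (Fin (P.aug e).toNat) ℤ ((i : ℕ) + 1)) := by
    funext i
    rw [hf.isLambdaHom, ← hsum, lam_lines hs, map_esymm', ← hg, Multiset.map_map, aeval_esymm_fin]
    congr 1
    refine Multiset.map_congr rfl fun a _ => ?_
    exact (hs _ (by rw [← hg]; exact Multiset.mem_map_of_mem _ (Finset.mem_univ a))).2
  rw [this, ← MvPolynomial.comp_aeval_apply]
  show MvPolynomial.aeval _ (eHom (Fin _) _ (KRR.bottPoly j _)) = _
  rw [eHom_bottPoly]
  simp [KRR.bottSym]

theorem map_bott_roots {T : Type v} [CommRing T] {L : Type*} [CommRing L] [LambdaOps L] (PL : PosStructure L)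
    {q : L} {n : ℕ} (hn : (PL.aug q).toNat = n) (φ : L →+* T) (w : Fin n → T)
    (hw : ∀ i, φ (LambdaOps.lam i q) = (Finset.univ.val.map w).esymm i) (j : ℕ) :
    φ (KRR.bott PL j q) = ∏ l, ∑ k ∈ range j, w l ^ k := by
  subst hn
  rw [KRR.bott, map_aeval_int]
  have : (fun i : Fin (PL.aug q).toNat => φ (LambdaOps.lam (i.1 + 1) q))
      = fun i : Fin (PL.aug q).toNat => MvPolynomial.aeval w (MvPolynomial.esymm (Fin (PL.aug q).toNat) ℤ ((i : ℕ) + 1)) := by
    funext i; rw [hw, aeval_esymm_fin]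
  rw [this, ← MvPolynomial.comp_aeval_apply]
  show MvPolynomial.aeval _ (eHom (Fin _) _ (KRR.bottPoly j _)) = _
  rw [eHom_bottPoly]
  simp [KRR.bottSym, map_prod, map_sum]

theorem adamsRR_elementary (hK : HasSplitting K P) (he : e ∈ P.pos) {r : ℕ} (hr : P.aug e = r + 1)
    (inst : LambdaOps (AdjoinRoot (KRR.extPoly P e))) (Pe : @PosStructure _ _ inst)
    (hext : @IsExtension K _ _ _ _ inst P Pe (AdjoinRoot.of (KRR.extPoly P e)))
    (hline : @PosStructure.IsLine _ _ inst Pe (AdjoinRoot.root (KRR.extPoly P e)))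
    (hsplit : @HasSplitting _ _ inst Pe) (N : ℕ) (hN : @gammaFiltration _ _ inst Pe N = ⊥)
    (f : AdjoinRoot (KRR.extPoly P e) →ₗ[K] K)
    (hf : ∀ i : ℕ, i ≤ r → f (AdjoinRoot.root (KRR.extPoly P e) ^ i) = KRR.sigma i e)
    (linv : AdjoinRoot (KRR.extPoly P e)) (hlinv : linv * AdjoinRoot.root (KRR.extPoly P e) = 1)
    (j : ℕ) (hj : 1 ≤ j) (R : Type) [CommRing R] (hflat : Module.Flat ℤ R) (hjR : IsUnit (j : R)) :
    IsUnit ((1 : R) ⊗ₜ[ℤ]
      @KRR.bott _ _ inst Pe j (AdjoinRoot.of (KRR.extPoly P e) e * linv)) ∧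
    ∀ w : TensorProduct ℤ R (AdjoinRoot (KRR.extPoly P e)),
      w * ((1 : R) ⊗ₜ[ℤ] @KRR.bott _ _ inst Pe j (AdjoinRoot.of (KRR.extPoly P e) e * linv)) = 1 →
      ∀ x : AdjoinRoot (KRR.extPoly P e),
        (1 : R) ⊗ₜ[ℤ] LambdaRing.adams P j (f x) =
          LinearMap.lTensor R f.toAddMonoidHom.toIntLinearMap
            ((j : TensorProduct ℤ R (AdjoinRoot (KRR.extPoly P e))) * w
              * ((1 : R) ⊗ₜ[ℤ] @LambdaRing.adams _ _ inst Pe j x)) := by
  set ℓ := AdjoinRoot.root (KRR.extPoly P e) with hℓ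
  set q := AdjoinRoot.of (KRR.extPoly P e) e * linv with hq
  haveI : Nontrivial K := P.aug.domain_nontrivial
  have hep : AdjoinRoot.of (KRR.extPoly P e) e ∈ Pe.pos := hext.pos_subset e he
  have hvaug : Pe.aug linv = 1 := by
    have := congrArg Pe.aug hlinv
    rwa [map_mul, hline.2, mul_one, map_one] at this
  have hqn : (Pe.aug q).toNat = r + 1 := by rw [hq, map_mul, hext.aug_comp, hvaug, mul_one, hr]; omega
  have hlam : ∀ i, LambdaOps.lam i q = AdjoinRoot.of (KRR.extPoly P e) (LambdaOps.lam i e) * linv ^ i := fun i => by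
    rw [hq, lam_mul_inverse_line hsplit hline hlinv hep, ← hext.isLambdaHom]
  -- the splitting of `e`
  obtain ⟨L, g, hg, h⟩ := exists_splitting hK [e] (by simpa using he)
  obtain ⟨s, hs, hsum⟩ := h e (by simp)
  have hc : Multiset.card s = r + 1 := by
    have := congrArg L.posStr.aug hsum
    rw [aug_sum_lines hs, hg.aug_comp, hr] at this
    omega
  obtain ⟨u0, hu0⟩ := exists_family hc
  let ι : TensorProduct ℤ R K →ₐ[ℤ] TensorProduct ℤ R L.carrier :=
    Algebra.TensorProduct.map (AlgHom.id ℤ R) g.toIntAlgHom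
  have hι : Function.Injective ι := by
    haveI := hflat
    have := Module.Flat.lTensor_preserves_injective_linearMap (M := R) g.toIntAlgHom.toLinearMap hg.injective
    intro a b hab
    apply this
    have key : ∀ z, ι z = LinearMap.lTensor R g.toIntAlgHom.toLinearMap z := fun z => by
      induction z using TensorProduct.induction_on with
      | zero => simp
      | tmul a b => rfl
      | add a b ha hb => simp [ha, hb]
    rwa [key, key] at hab
  let T := TensorProduct ℤ R L.carrier
  let κ : L.carrier →+* T := (Algebra.TensorProduct.includeRight (R := ℤ) (A := R) (B := L.carrier)).toRingHom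
  let cK : K →+* T := κ.comp g
  let u : Fin (r + 1) → T := fun k => κ (u0 k)
  have hesymm : ∀ i, cK (LambdaOps.lam i e) = (Finset.univ.val.map u).esymm i := fun i => by
    show κ (g (LambdaOps.lam i e)) = _
    rw [hg.isLambdaHom, ← hsum, lam_lines hs, map_esymm', ← hu0, Multiset.map_map]
    rfl
  have hpmap : (KRR.extPoly P e).map cK = rootsPoly u := by
    rw [extPoly_eq (show (P.aug e).toNat = r + 1 by omega), Polynomial.map_sum, rootsPoly]
    have hv := Multiset.prod_X_add_C_eq_sum_esymm ((Finset.univ : Finset (Fin (r + 1))).val.map fun k => u k * -1)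
    rw [Multiset.map_map, Multiset.card_map, Finset.card_val, Finset.card_univ, Fintype.card_fin] at hv
    have e1 : ∏ k, (X - C (u k)) = ((Finset.univ : Finset (Fin (r + 1))).val.map fun k => X + C (u k * -1)).prod := by
      rw [Finset.prod_eq_multiset_prod]
      congr 1
      refine Multiset.map_congr rfl fun k _ => ?_
      rw [map_mul, map_neg, map_one]; ring
    rw [e1]
    refine Eq.trans ?_ hv.symm
    refine Finset.sum_congr rfl fun i _ => ?_
    rw [Polynomial.map_mul, map_C, Polynomial.map_pow, map_X, cAlt, map_mul, map_pow, map_neg, map_one, hesymm,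
      show ((Finset.univ : Finset (Fin (r + 1))).val.map fun k => u k * -1)
        = ((Finset.univ : Finset (Fin (r + 1))).val.map u).map (fun a => a * -1) by rw [Multiset.map_map]; rfl,
      esymm_map_mul, mul_comm ((-1 : T) ^ i)]
  -- the specialised extension
  let E := AdjoinRoot (rootsPoly u)
  let Φ0 : AdjoinRoot (KRR.extPoly P e) →+* E := AdjoinRoot.lift ((AdjoinRoot.of (rootsPoly u)).comp cK) (AdjoinRoot.root _) (by
    rw [← eval₂_map, hpmap, AdjoinRoot.eval₂_root])
  have hΦof : ∀ c, Φ0 (AdjoinRoot.of (KRR.extPoly P e) c) = AdjoinRoot.of _ (cK c) := fun c => AdjoinRoot.lift_of _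
  have hΦroot : Φ0 ℓ = AdjoinRoot.root _ := AdjoinRoot.lift_root _
  letI : Algebra ℤ E := Ring.toIntAlgebra E
  let Φ : TensorProduct ℤ R (AdjoinRoot (KRR.extPoly P e)) →ₐ[ℤ] E :=
    Algebra.TensorProduct.productMap
      (((AdjoinRoot.of (rootsPoly u)).comp
        (Algebra.TensorProduct.includeLeft (R := ℤ) (S := ℤ) (A := R) (B := L.carrier)).toRingHom).toIntAlgHom)
      Φ0.toIntAlgHom
  have hΦ : ∀ a z, Φ (a ⊗ₜ z) = AdjoinRoot.of _ (a ⊗ₜ (1 : L.carrier)) * Φ0 z := fun a z =>
    Algebra.TensorProduct.productMap_apply_tmul _ _ a z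
  let ρ : E := AdjoinRoot.root (rootsPoly u)
  have hvρ : Φ0 linv * ρ = 1 := by rw [show ρ = Φ0 ℓ from hΦroot.symm, ← map_mul, hlinv, map_one]
  -- norm is a unit
  have hnil : ∀ k, IsNilpotent (u k - 1) := by
    have hNK : ∀ (r' : ℕ), 1 ≤ r' → IsNilpotent (gamma r' (e - ((r + 1 : ℕ) : K))) := by
      intro r' hr'
      have hx : P.aug (e - ((r + 1 : ℕ) : K)) = 0 := by rw [map_sub, map_natCast, hr]; push_cast; ring
      have h0 : P.aug (gamma r' (e - ((r + 1 : ℕ) : K))) = 0 := by
        letI : LambdaOps ℤ := binomialLambdaOps ℤ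
        rw [map_gammaAlg P.aug (fun n a => aug_lam hK n a) r', hx, gamma_zero_right hr']
      have : IsNilpotent (AdjoinRoot.of (KRR.extPoly P e) (gamma r' (e - ((r + 1 : ℕ) : K)))) :=
        isNilpotent_of_aug (P := Pe) ⟨N, hN⟩ (by rw [hext.aug_comp, h0])
      exact (IsNilpotent.map_iff hext.injective).mp this
    intro k
    refine isNilpotent_of_esymm ((Finset.univ.val.map u).map fun a => a - 1) (fun r' hr' => ?_) _
      (Multiset.mem_map_of_mem _ (Multiset.mem_map_of_mem _ (Finset.mem_univ k)))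
    have e1 : ((Finset.univ.val.map u).map fun a => a - 1).esymm r' = κ ((s.map fun a => a - 1).esymm r') := by
      rw [map_esymm', ← hu0, Multiset.map_map, Multiset.map_map, Multiset.map_map]
      congr 1
      refine Multiset.map_congr rfl fun a _ => ?_
      simp [u]
    rw [e1]
    refine IsNilpotent.map ?_ κ
    rw [← gamma_lines hs, hc, hsum, ← map_natCast g, ← map_sub, ← map_gamma hg]
    exact (hNK r' hr').map g
  have hjT : IsUnit (j : T) := by
    have h1 : IsUnit (j : R) := hjR
    have h2 := h1.map (Algebra.TensorProduct.includeLeft (R := ℤ) (S := ℤ) (A := R) (B := L.carrier))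
    simpa using h2
  have hδ : IsUnit (thetaNorm u j) := by
    rw [thetaNorm]
    refine IsUnit.prod_iff.mpr fun k _ => ?_
    rw [thetaPoly, eval_prod]
    refine IsUnit.prod_iff.mpr fun l _ => ?_
    simp only [eval_finset_sum, eval_mul, eval_pow, eval_C, eval_X]
    have e1 : ∑ m ∈ range j, u l ^ m * u k ^ (j - 1 - m)
        = (j : T) + ∑ m ∈ range j, (u l ^ m * u k ^ (j - 1 - m) - 1) := by
      rw [Finset.sum_sub_distrib]; simp
    rw [e1]
    refine IsNilpotent.isUnit_add_left_of_commute ?_ hjT (Commute.all _ _)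
    refine isNilpotent_sum fun m _ => ?_
    have hpw : ∀ (a : T) (b : ℕ), IsNilpotent (a - 1) → IsNilpotent (a ^ b - 1) := fun a b ha => by
      rw [← geom_sum_mul]; exact Commute.isNilpotent_mul_left (Commute.all _ _) ha
    rw [show u l ^ m * u k ^ (j - 1 - m) - 1 = (u l ^ m - 1) * u k ^ (j - 1 - m) + (u k ^ (j - 1 - m) - 1) by ring]
    exact Commute.isNilpotent_add (Commute.all _ _) (Commute.isNilpotent_mul_right (Commute.all _ _) (hpw _ _ (hnil l)))
      (hpw _ _ (hnil k))
  -- θ
  refine ⟨?_, fun w hw x => ?_⟩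
  · have haug : Pe.aug (KRR.bott Pe j q - ((j : AdjoinRoot (KRR.extPoly P e))) ^ (r + 1)) = 0 := by
      have h1 := map_bott_roots (T := ℤ) Pe hqn Pe.aug (fun _ => (1 : ℤ)) (fun i => by
        rw [hlam, map_mul, map_pow, hvaug, one_pow, mul_one, hext.aug_comp, ← hg.aug_comp, hg.isLambdaHom, ← hsum,
          lam_lines hs, map_esymm', ← hu0, Multiset.map_map]
        congr 1
        refine Multiset.map_congr rfl fun a _ => ?_
        exact (hs _ (by rw [← hu0]; exact Multiset.mem_map_of_mem _ (Finset.mem_univ a))).2) j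
      rw [map_sub, map_pow, map_natCast, h1]
      simp
    have hn2 := (isNilpotent_of_aug (P := Pe) ⟨N, hN⟩ haug).map
      (Algebra.TensorProduct.includeRight (R := ℤ) (A := R) (B := AdjoinRoot (KRR.extPoly P e))).toRingHom
    have h1 : IsUnit (j : R) := hjR
    have h2 := h1.map (Algebra.TensorProduct.includeLeft (R := ℤ) (S := ℤ) (A := R) (B := AdjoinRoot (KRR.extPoly P e))).toRingHom
    have := hn2.isUnit_add_left_of_commute (h2.pow (r + 1)) (Commute.all _ _)
    rw [map_sub, map_pow, map_natCast, map_natCast, add_sub_cancel] at this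
    exact this
  -- reduce to powers of the root
  have hFcomm : ∀ z : TensorProduct ℤ R (AdjoinRoot (KRR.extPoly P e)),
      ι (LinearMap.lTensor R f.toAddMonoidHom.toIntLinearMap z)
        = (AdjoinRoot.modByMonicHom (rootsPoly_monic u) (Φ z * ρ ^ r)).coeff r := by
    intro z
    induction z using TensorProduct.induction_on with
    | zero => simp
    | add a b ha hb => simp only [map_add, ha, hb, add_mul, coeff_add]
    | tmul a y =>
      rw [LinearMap.lTensor_tmul, hΦ, mul_assoc, ← AdjoinRoot.algebraMap_eq, ← Algebra.smul_def, map_smul, coeff_smul,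
        smul_eq_mul]
      have e1 : AdjoinRoot.modByMonicHom (rootsPoly_monic u) (Φ0 y * ρ ^ r)
          = (AdjoinRoot.modByMonicHom (extPoly_monic he) (y * ℓ ^ r)).map cK := by
        obtain ⟨G, hG⟩ := AdjoinRoot.mk_surjective (y * ℓ ^ r)
        have h2 : Φ0 y * ρ ^ r = AdjoinRoot.mk (rootsPoly u) (G.map cK) := by
          rw [show ρ = Φ0 ℓ from hΦroot.symm, ← map_pow, ← map_mul, ← hG, AdjoinRoot.lift_mk]
          rw [AdjoinRoot.mk, ← eval₂_map, ← AdjoinRoot.mk]
          exact AdjoinRoot.aeval_eq _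
        rw [h2, AdjoinRoot.modByMonicHom_mk, ← hG, AdjoinRoot.modByMonicHom_mk,
          map_modByMonic _ (extPoly_monic he), hpmap]
      rw [e1, coeff_map, ← functional_eq_coeff he hr f hf linv hlinv]
      show ι (a ⊗ₜ f y) = _
      simp only [ι, cK, κ, Algebra.TensorProduct.map_tmul, RingHom.comp_apply]
      show a ⊗ₜ[ℤ] g (f y) = (a ⊗ₜ[ℤ] (1 : L.carrier)) * ((1 : R) ⊗ₜ[ℤ] g (f y))
      rw [Algebra.TensorProduct.tmul_mul_tmul, mul_one, one_mul]
  have hψ : ∀ y : AdjoinRoot (KRR.extPoly P e), LambdaRing.adams Pe j y = adamsRingHom hsplit j y := fun _ => rfl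
  suffices H : ∀ i, i ≤ r → ∀ c : K, (1 : R) ⊗ₜ[ℤ] LambdaRing.adams P j (f (AdjoinRoot.of (KRR.extPoly P e) c * ℓ ^ i)) =
      LinearMap.lTensor R f.toAddMonoidHom.toIntLinearMap
        ((j : TensorProduct ℤ R (AdjoinRoot (KRR.extPoly P e))) * w * ((1 : R) ⊗ₜ[ℤ] LambdaRing.adams Pe j (AdjoinRoot.of (KRR.extPoly P e) c * ℓ ^ i))) by
    obtain ⟨G, rfl⟩ := AdjoinRoot.mk_surjective x
    rw [show AdjoinRoot.mk (KRR.extPoly P e) G = AdjoinRoot.mk (KRR.extPoly P e) (G %ₘ (KRR.extPoly P e)) from by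
      rw [AdjoinRoot.mk_eq_mk]; exact ⟨G /ₘ (KRR.extPoly P e), by linear_combination -(modByMonic_add_div G (KRR.extPoly P e))⟩]
    have hd : (G %ₘ (KRR.extPoly P e)).natDegree < r + 1 := by
      rw [← natDegree_extPoly he hr]
      refine natDegree_modByMonic_lt G (extPoly_monic he) (fun h => ?_)
      have := natDegree_extPoly he hr
      rw [h] at this; simp at this
    rw [(G %ₘ (KRR.extPoly P e)).as_sum_range' (r + 1) hd, map_sum]
    simp only [← adamsAdd_apply, map_sum, TensorProduct.tmul_sum, Finset.mul_sum]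
    refine Finset.sum_congr rfl fun i hi => ?_
    rw [← C_mul_X_pow_eq_monomial, map_mul, map_pow, AdjoinRoot.mk_C, AdjoinRoot.mk_X]
    exact H i (by simp at hi; omega) _
  intro i hi c
  have hline' : adamsRingHom hsplit j ℓ = ℓ ^ j := adams_line hline j
  rw [map_of_mul, hf i hi, hψ, map_mul (adamsRingHom hsplit j), map_pow (adamsRingHom hsplit j), hline', ← hψ, ← map_adams hext]
  show (1 : R) ⊗ₜ[ℤ] (adamsRingHom hK j (c * KRR.sigma i e)) = _
  rw [map_mul]
  apply hι
  rw [hFcomm]
  set z := (j : TensorProduct ℤ R (AdjoinRoot (KRR.extPoly P e))) * w * ((1 : R) ⊗ₜ[ℤ] ((ℓ ^ j) ^ i)) with hz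
  have hsplitz : (j : TensorProduct ℤ R (AdjoinRoot (KRR.extPoly P e))) * w * ((1 : R) ⊗ₜ[ℤ] (AdjoinRoot.of (KRR.extPoly P e) (LambdaRing.adams P j c) * (ℓ ^ j) ^ i))
      = ((1 : R) ⊗ₜ[ℤ] AdjoinRoot.of (KRR.extPoly P e) (LambdaRing.adams P j c)) * z := by
    rw [hz, show (1 : R) ⊗ₜ[ℤ] (AdjoinRoot.of (KRR.extPoly P e) (LambdaRing.adams P j c) * (ℓ ^ j) ^ i)
      = ((1 : R) ⊗ₜ[ℤ] AdjoinRoot.of (KRR.extPoly P e) (LambdaRing.adams P j c)) * ((1 : R) ⊗ₜ[ℤ] ((ℓ ^ j) ^ i)) by
      rw [Algebra.TensorProduct.tmul_mul_tmul, one_mul]]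
    ring
  rw [hsplitz, map_mul Φ, hΦ, hΦof, show ((1 : R) ⊗ₜ[ℤ] (1 : L.carrier)) = (1 : T) from rfl, map_one, one_mul, mul_assoc,
    ← AdjoinRoot.algebraMap_eq, ← Algebra.smul_def, map_smul, coeff_smul, smul_eq_mul]
  have hbott : Φ0 (KRR.bott Pe j q) = ∏ l, ∑ k ∈ range j, (AdjoinRoot.of (rootsPoly u) (u l) * Φ0 linv) ^ k := by
    refine map_bott_roots Pe hqn Φ0 _ (fun i => ?_) j
    rw [hlam, map_mul, map_pow, hΦof, hesymm, map_esymm', ← esymm_map_mul, Multiset.map_map, Multiset.map_map]
    rfl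
  set Y := AdjoinRoot.modByMonicHom (rootsPoly_monic u) (Φ z * ρ ^ r) with hY
  have hYd : Y.natDegree ≤ r := by
    rcases subsingleton_or_nontrivial T with hT | hT
    · rw [Subsingleton.elim Y 0]; simp
    obtain ⟨G, hG⟩ := AdjoinRoot.mk_surjective (Φ z * ρ ^ r)
    rw [hY, ← hG, AdjoinRoot.modByMonicHom_mk]
    have := natDegree_modByMonic_lt G (rootsPoly_monic u) (fun h => by
      have := natDegree_rootsPoly u; rw [h] at this; simp at this)
    rw [natDegree_rootsPoly] at this
    omega
  have hΘ : AdjoinRoot.mk (rootsPoly u) (thetaPoly u j) = Φ0 (KRR.bott Pe j q) * ρ ^ ((r + 1) * (j - 1)) := by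
    rw [hbott, thetaPoly, map_prod, show ρ ^ ((r + 1) * (j - 1)) = ∏ _l : Fin (r + 1), ρ ^ (j - 1) by
      rw [Finset.prod_const, Finset.card_univ, Fintype.card_fin, ← pow_mul, mul_comm], ← Finset.prod_mul_distrib]
    refine Finset.prod_congr rfl fun l _ => ?_
    rw [map_sum, Finset.sum_mul]
    refine Finset.sum_congr rfl fun k hk => ?_
    rw [map_mul, map_pow, map_pow, AdjoinRoot.mk_C, AdjoinRoot.mk_X, mul_pow,
      show ρ ^ (j - 1) = ρ ^ k * ρ ^ (j - 1 - k) by rw [← pow_add]; congr 1; simp at hk; omega]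
    have : Φ0 linv ^ k * ρ ^ k = 1 := by rw [← mul_pow, hvρ, one_pow]
    linear_combination -(AdjoinRoot.of (rootsPoly u) (u l) ^ k * ρ ^ (j - 1 - k)) * this
  have hkey : rootsPoly u ∣ thetaPoly u j * Y - C (j : T) * X ^ (i * j + (r + 1) * (j - 1) + r) := by
    rw [← AdjoinRoot.mk_eq_mk, map_mul, hY, AdjoinRoot.mk_leftInverse, map_mul (AdjoinRoot.mk _),
      map_pow (AdjoinRoot.mk _), AdjoinRoot.mk_C, AdjoinRoot.mk_X, map_natCast (AdjoinRoot.of _), hΘ]
    have h1 : Φ0 (KRR.bott Pe j q) * Φ z = (j : E) * ρ ^ (i * j) := by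
      have h2 := congrArg Φ hw
      rw [map_mul, hΦ, map_one, show ((1 : R) ⊗ₜ[ℤ] (1 : L.carrier)) = (1 : T) from rfl, map_one, one_mul] at h2
      rw [hz, map_mul, map_mul, map_natCast, hΦ, show ((1 : R) ⊗ₜ[ℤ] (1 : L.carrier)) = (1 : T) from rfl, map_one,
        one_mul, map_pow, map_pow, hΦroot, ← pow_mul]
      rw [mul_comm j i]
      linear_combination ((j : E) * ρ ^ (i * j)) * h2
    rw [pow_add, pow_add]
    linear_combination (ρ ^ r * ρ ^ ((r + 1) * (j - 1))) * h1
  rw [interp_identity hj u hδ i Y hYd hkey]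
  show ((1 : R) ⊗ₜ[ℤ] g (adamsRingHom hK j c * adamsRingHom hK j (KRR.sigma i e))) = cK (LambdaRing.adams P j c) * _
  have hσ : KRR.sigma i e = (X ^ (i + r) %ₘ (KRR.extPoly P e)).coeff r := by
    have := functional_eq_coeff he hr f hf linv hlinv (ℓ ^ i)
    rw [hf i hi, ← pow_add, show ℓ ^ (i + r) = AdjoinRoot.mk (KRR.extPoly P e) (X ^ (i + r)) by rw [map_pow, AdjoinRoot.mk_X],
      AdjoinRoot.modByMonicHom_mk] at this
    exact this
  have hpψ : (KRR.extPoly P e).map (cK.comp (adamsRingHom hK j)) = rootsPoly (fun k => u k ^ j) := by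
    have hψe : ∀ i, g (LambdaRing.adams P j (LambdaOps.lam i e)) = (Finset.univ.val.map fun k => u0 k ^ j).esymm i := by
      intro i
      have hl : ∀ a, L.posStr.IsLine (u0 a) := fun a =>
        hs _ (by rw [← hu0]; exact Multiset.mem_map_of_mem _ (Finset.mem_univ a))
      rw [map_adams hg, hg.isLambdaHom, ← hsum, lam_lines hs, ← hu0, ← aeval_esymm_fin, adams_aeval_lines u0 hl,
        aeval_esymm_fin]
    rw [extPoly_eq (show (P.aug e).toNat = r + 1 by omega), Polynomial.map_sum, rootsPoly]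
    have hv := Multiset.prod_X_add_C_eq_sum_esymm
      ((Finset.univ : Finset (Fin (r + 1))).val.map fun k => u k ^ j * -1)
    rw [Multiset.map_map, Multiset.card_map, Finset.card_val, Finset.card_univ, Fintype.card_fin] at hv
    have e1 : ∏ k, (X - C (u k ^ j))
        = ((Finset.univ : Finset (Fin (r + 1))).val.map fun k => X + C (u k ^ j * -1)).prod := by
      rw [Finset.prod_eq_multiset_prod]
      congr 1
      refine Multiset.map_congr rfl fun k _ => ?_
      rw [map_mul, map_neg, map_one]; ring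
    rw [e1]
    refine Eq.trans ?_ hv.symm
    refine Finset.sum_congr rfl fun i _ => ?_
    rw [Polynomial.map_mul, map_C, Polynomial.map_pow, map_X, cAlt, map_mul, map_pow, map_neg, map_one,
      show ((Finset.univ : Finset (Fin (r + 1))).val.map fun k => u k ^ j * -1)
        = ((Finset.univ : Finset (Fin (r + 1))).val.map fun k => u k ^ j).map (fun a => a * -1) by
          rw [Multiset.map_map]; rfl,
      esymm_map_mul, mul_comm ((-1 : T) ^ i)]
    congr 3
    show κ (g (LambdaRing.adams P j (LambdaOps.lam i e))) = _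
    rw [hψe, map_esymm', Multiset.map_map]
    congr 1
    exact Multiset.map_congr rfl fun k _ => map_pow κ (u0 k) j
  rw [map_mul, hσ, ← hpψ, ← Polynomial.map_X (cK.comp (adamsRingHom hK j)), ← Polynomial.map_pow,
    ← map_modByMonic _ (extPoly_monic he), coeff_map]
  exact map_mul κ _ _

end Groth.Agent.Lam
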