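import Groth.Agent.Lam.Bridge

/-!
The determinant `K → Kˣ` and the first graded piece of the γ-filtration.
-/

universe u

open Finset

namespace Groth.Agent.Lam

open _root_.LambdaRing

variable {K : Type u} [CommRing K] [LambdaOps K] {P : PosStructure K}

variable (P) in
/-- `det e = λ^(ε e)(e)` -/
def detPos (e : K) : K := LambdaOps.lam (P.aug e).toNat e

theorem detPos_add {e g : K} (he : e ∈ P.pos) (hg : g ∈ P.pos) : detPos P (e + g) = detPos P e * detPos P g := by
  have h1 := P.aug_pos e he
  have h2 := P.aug_pos g hg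
  have hn : (P.aug (e + g)).toNat = (P.aug e).toNat + (P.aug g).toNat := by
    rw [map_add, Int.toNat_add h1.le h2.le]
  rw [detPos, hn, LambdaOps.lam_add, Finset.sum_eq_single (P.aug e).toNat]
  · rw [Nat.add_sub_cancel_left]; rfl
  · intro i _ hne
    rcases lt_or_gt_of_ne hne with h | h
    · rw [P.lam_eq_zero g hg _ (by omega), mul_zero]
    · rw [P.lam_eq_zero e he _ (by omega), zero_mul]
  · intro h; simp at h

variable (P) in
/-- the determinant of a positive element, as a unit -/
noncomputable def detUnit (e : K) : Kˣ :=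
  open Classical in if h : e ∈ P.pos then (P.isUnit_lam e h).unit else 1

theorem detUnit_coe {e : K} (he : e ∈ P.pos) : (detUnit P e : K) = detPos P e := by
  rw [detUnit, dif_pos he]; rfl

theorem detUnit_add {e g : K} (he : e ∈ P.pos) (hg : g ∈ P.pos) : detUnit P (e + g) = detUnit P e * detUnit P g := by
  apply Units.ext
  rw [Units.val_mul, detUnit_coe (P.add_mem _ _ he hg), detUnit_coe he, detUnit_coe hg, detPos_add he hg]

variable (P) in
/-- the determinant -/
noncomputable def detFun (x : K) : Kˣ :=
  detUnit P (P.exists_sub x).choose * (detUnit P (P.exists_sub x).choose_spec.choose)⁻¹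

theorem detFun_sub {e g : K} (he : e ∈ P.pos) (hg : g ∈ P.pos) :
    detFun P (e - g) = detUnit P e * (detUnit P g)⁻¹ := by
  obtain ⟨he', hg', h⟩ := (P.exists_sub (e - g)).choose_spec.choose_spec
  set e' := (P.exists_sub (e - g)).choose
  set g' := (P.exists_sub (e - g)).choose_spec.choose
  have h' : e' + g = e + g' := by linear_combination -h
  have := congrArg (detUnit P) h'
  rw [detUnit_add he' hg, detUnit_add he hg'] at this
  show detUnit P e' * (detUnit P g')⁻¹ = _
  rw [mul_inv_eq_iff_eq_mul, mul_right_comm, ← this, mul_assoc, mul_inv_cancel, mul_one]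

theorem detFun_add (x y : K) : detFun P (x + y) = detFun P x * detFun P y := by
  obtain ⟨e, g, he, hg, rfl⟩ := P.exists_sub x
  obtain ⟨e', g', he', hg', rfl⟩ := P.exists_sub y
  rw [show e - g + (e' - g') = (e + e') - (g + g') by ring, detFun_sub (P.add_mem _ _ he he') (P.add_mem _ _ hg hg'),
    detFun_sub he hg, detFun_sub he' hg', detUnit_add he he', detUnit_add hg hg', mul_inv, mul_mul_mul_comm]

variable (P) in
/-- the determinant as a homomorphism -/
noncomputable def detHom : K →+ Additive Kˣ :=
  AddMonoidHom.mk' (fun x => Additive.ofMul (detFun P x)) fun x y => by rw [detFun_add]; rfl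

theorem detHom_pos {e : K} (he : e ∈ P.pos) : ((detHom P e).toMul : K) = detPos P e := by
  show (detFun P e : K) = _
  have h1 : (1 : K) ∈ P.pos := (isLine_one P).1
  rw [show e = (e + 1) - 1 by ring, detFun_sub (P.add_mem _ _ he h1) h1, detUnit_add he h1, mul_assoc,
    mul_inv_cancel, mul_one, detUnit_coe he]
  ring_nf

theorem detHom_line {u : K} (hu : P.IsLine u) : ((detHom P u).toMul : K) = u := by
  rw [detHom_pos hu.1, detPos, hu.2]
  exact LambdaOps.lam_one u

theorem detHom_lines {s : Multiset K} (hs : ∀ u ∈ s, P.IsLine u) : ((detHom P s.sum).toMul : K) = s.prod := by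
  induction s using Multiset.induction_on with
  | empty => rw [Multiset.sum_zero, map_zero, toMul_zero, Units.val_one, Multiset.prod_zero]
  | cons a s ih =>
    rw [Multiset.sum_cons, map_add, toMul_add, Units.val_mul, detHom_line (hs a (Multiset.mem_cons_self _ _)),
      ih fun u hu => hs u (Multiset.mem_cons_of_mem hu), Multiset.prod_cons]

variable {L : PosLambdaRing.{u}} {f : K →+* L.carrier}

theorem map_detHom (hf : IsExtension P L.posStr f) (x : K) :
    f ((detHom P x).toMul : K) = ((detHom L.posStr (f x)).toMul : L.carrier) := by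
  obtain ⟨e, g, he, hg, rfl⟩ := P.exists_sub x
  have key : ∀ w ∈ P.pos, f ((detHom P w).toMul : K) = ((detHom L.posStr (f w)).toMul : L.carrier) := fun w hw => by
    rw [detHom_pos hw, detHom_pos (hf.pos_subset w hw), detPos, detPos, hf.isLambdaHom, hf.aug_comp]
  simp only [map_sub, toMul_sub, div_eq_mul_inv, Units.val_mul, map_mul, key e he]
  congr 1
  refine Units.eq_inv_of_mul_eq_one_left ?_
  rw [← key g hg, ← map_mul, Units.mul_inv, map_one]

theorem detHom_mul_diff {y z : K} (hy : P.aug y = 0) (hz : P.aug z = 0) (hy' : LineDiff P y) (hz' : LineDiff P z) :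
    detHom P (y * z) = 0 := by
  obtain ⟨s, t, hs, ht, rfl⟩ := hy'
  obtain ⟨s', t', hs', ht', rfl⟩ := hz'
  rw [map_sub, aug_sum_lines hs, aug_sum_lines ht, sub_eq_zero, Nat.cast_inj] at hy
  rw [map_sub, aug_sum_lines hs', aug_sum_lines ht', sub_eq_zero, Nat.cast_inj] at hz
  have hd : ∀ a b : Multiset K, (∀ u ∈ a, P.IsLine u) → (∀ u ∈ b, P.IsLine u) →
      ((detHom P (a.sum * b.sum)).toMul : K) = a.prod ^ Multiset.card b * b.prod ^ Multiset.card a := by
    intro a b ha hb
    induction a using Multiset.induction_on with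
    | empty => simp
    | cons c a ih =>
      have hc := ha c (Multiset.mem_cons_self _ _)
      have hl : ∀ u ∈ b.map (fun v => c * v), P.IsLine u := by
        intro u hu
        obtain ⟨v, hv, rfl⟩ := Multiset.mem_map.mp hu
        exact isLine_mul hc (hb v hv)
      rw [Multiset.sum_cons, add_mul, map_add, toMul_add, Units.val_mul, ih fun u hu => ha u (Multiset.mem_cons_of_mem hu),
        show c * b.sum = (b.map fun v => c * v).sum by rw [Multiset.sum_map_mul_left, Multiset.map_id'],
        detHom_lines hl, Multiset.prod_map_mul, Multiset.map_const', Multiset.prod_replicate, Multiset.map_id',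
        Multiset.prod_cons, Multiset.card_cons, mul_pow, pow_succ]
      ring
  rw [show (s.sum - t.sum) * (s'.sum - t'.sum)
      = (s.sum * s'.sum + t.sum * t'.sum) - (s.sum * t'.sum + t.sum * s'.sum) by ring, map_sub, sub_eq_zero]
  apply Additive.toMul.injective
  apply Units.ext
  simp only [map_add, toMul_add, Units.val_mul, hd _ _ hs hs', hd _ _ ht ht', hd _ _ hs ht', hd _ _ ht hs', hy, hz]
  ring

theorem detHom_mul (hK : HasSplitting K P) {y z : K} (hy : P.aug y = 0) (hz : P.aug z = 0) :
    detHom P (y * z) = 0 := by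
  obtain ⟨L, f, hf, h⟩ := exists_splitting_elems hK [y, z]
  apply Additive.toMul.injective
  apply Units.ext
  apply hf.injective
  rw [map_detHom hf, map_mul, detHom_mul_diff (by rw [hf.aug_comp, hy]) (by rw [hf.aug_comp, hz]) (h y (by simp))
    (h z (by simp)), toMul_zero, Units.val_one, toMul_zero, Units.val_one, map_one]

theorem detHom_gamma_lines {x : K} (hx : P.aug x = 0) (hx' : LineDiff P x)
    (hmul : ∀ y z : K, P.aug y = 0 → P.aug z = 0 → detHom P (y * z) = 0) {r : ℕ} (hr : 2 ≤ r) :
    detHom P (gamma r x) = 0 := by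
  obtain ⟨s, t, hs, ht, rfl⟩ := hx'
  rw [map_sub, aug_sum_lines hs, aug_sum_lines ht, sub_eq_zero, Nat.cast_inj] at hx
  set I : Ideal K := RingHom.ker P.aug with hI
  have hsq : ∀ a ∈ I ^ 2, detHom P a = 0 := by
    intro a ha
    rw [pow_two] at ha
    induction ha using Submodule.mul_induction_on' with
    | mem_mul_mem y hy z hz => exact hmul y z hy hz
    | add a _ b _ ha hb => rw [map_add, ha, hb, add_zero]
  refine hsq _ (Ideal.pow_le_pow_right hr ?_)
  have hgr : ∀ w : Multiset K, (∀ u ∈ w, P.IsLine u) → ∀ i, PowerSeries.coeff i (gamSeries (w.sum - (Multiset.card w : K))) ∈ I ^ i := by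
    intro w hw i
    rw [coeff_gamSeries, gamma_lines hw, Multiset.esymm]
    refine multiset_sum_mem _ fun b hb => ?_
    obtain ⟨q, hq, rfl⟩ := Multiset.mem_map.mp hb
    obtain ⟨hle, hcard⟩ := Multiset.mem_powersetCard.mp hq
    subst hcard
    have hm : ∀ a ∈ q, a ∈ I := by
      intro a ha
      obtain ⟨u, hu, rfl⟩ := Multiset.mem_map.mp (Multiset.mem_of_le hle ha)
      rw [hI, RingHom.mem_ker, map_sub, (hw u hu).2, map_one, sub_self]
    clear hle hq hb
    induction q using Multiset.induction_on with
    | empty => simp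
    | cons a q ih =>
      rw [Multiset.prod_cons, Multiset.card_cons, pow_succ']
      exact Ideal.mul_mem_mul (hm a (Multiset.mem_cons_self _ _)) (ih fun b hb => hm b (Multiset.mem_cons_of_mem hb))
  have e : gamSeries (s.sum - t.sum) * gamSeries (t.sum - (Multiset.card t : K))
      = gamSeries (s.sum - (Multiset.card s : K)) := by
    rw [← gamSeries_add, hx]; congr 1; ring
  clear hr
  induction r using Nat.strong_induction_on with
  | _ i ih =>
    have he := congrArg (PowerSeries.coeff i) e
    rw [PowerSeries.coeff_mul, Finset.Nat.sum_antidiagonal_eq_sum_range_succ_mk, Finset.sum_range_succ,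
      Nat.sub_self, coeff_gamSeries, coeff_gamSeries, gamma_zero, mul_one] at he
    rw [eq_sub_of_add_eq' he]
    refine sub_mem (hgr s hs i) (sum_mem fun j hj => ?_)
    have hj' : j < i := Finset.mem_range.mp hj
    have h1 := ih j hj'
    rw [← coeff_gamSeries] at h1
    have := Ideal.mul_mem_mul h1 (hgr t ht (i - j))
    rwa [← pow_add, show j + (i - j) = i by omega] at this

theorem detHom_gamma (hK : HasSplitting K P) {x : K} (hx : P.aug x = 0) {r : ℕ} (hr : 2 ≤ r) :
    detHom P (gamma r x) = 0 := by
  obtain ⟨C, hC, hstep⟩ := hK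
  have hall : ∀ M ∈ C, HasSplitting M.carrier M.posStr := fun M hM => ⟨C, hM, hstep⟩
  obtain ⟨e, g, he, hg, hxe⟩ := P.exists_sub x
  obtain ⟨L₁, hL₁, f₁, hf₁, s, hs, hse⟩ := hstep _ hC e he
  obtain ⟨L, hL, f₂, hf₂, t, ht, hte⟩ := hstep L₁ hL₁ (f₁ g) (hf₁.pos_subset g hg)
  have hf := isExtension_comp hf₁ hf₂
  have hd : LineDiff L.posStr (f₂.comp f₁ x) := by
    refine ⟨s.map f₂, t, fun u hu => ?_, ht, ?_⟩
    · obtain ⟨v, hv, rfl⟩ := Multiset.mem_map.mp hu
      exact map_isLine hf₂ (hs v hv)
    · rw [hte, hxe, RingHom.comp_apply, map_sub, map_sub, ← map_multiset_sum, hse]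
  apply Additive.toMul.injective
  apply Units.ext
  apply hf.injective
  rw [map_detHom hf, map_gamma hf,
    detHom_gamma_lines (by rw [hf.aug_comp, hx]) hd (fun y z => detHom_mul (hall L hL)) hr, toMul_zero,
    Units.val_one, toMul_zero, Units.val_one, map_one]

theorem aug_gamma (hK : HasSplitting K P) {x : K} (hx : P.aug x = 0) {r : ℕ} (hr : 1 ≤ r) :
    P.aug (gamma r x) = 0 := by
  letI : LambdaOps ℤ := binomialLambdaOps ℤ
  rw [map_gammaAlg P.aug (fun n a => aug_lam hK n a) r x, hx, gamma_zero_right hr]

theorem aug_prod (hK : HasSplitting K P) {l : List (ℕ × K)} (hl : ∀ p ∈ l, P.aug p.2 = 0)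
    (hn : 1 ≤ (l.map Prod.fst).sum) : P.aug (l.map fun p => gamma p.1 p.2).prod = 0 := by
  induction l with
  | nil => simp at hn
  | cons a l ih =>
    simp only [List.map_cons, List.prod_cons, List.sum_cons, map_mul] at hn ⊢
    rcases Nat.eq_zero_or_pos a.1 with h | h
    · rw [ih (fun p hp => hl p (List.mem_cons_of_mem _ hp)) (by omega), mul_zero]
    · rw [aug_gamma hK (hl a List.mem_cons_self) h, zero_mul]

theorem detHom_filtration (hK : HasSplitting K P) {x : K} (hx : x ∈ gammaFiltration P 2) : detHom P x = 0 := by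
  refine mem_induction (motive := fun z => detHom P z = 0) two_ne_zero hx (fun l hl hle => ?_) (map_zero _)
    (fun a b ha hb => by rw [map_add, ha, hb, add_zero]) (fun a ha => by rw [map_neg, ha, neg_zero])
  induction l with
  | nil => simp at hle
  | cons a l ih =>
    have hl' : ∀ p ∈ l, P.aug p.2 = 0 := fun p hp => hl p (List.mem_cons_of_mem _ hp)
    have ha := hl a List.mem_cons_self
    simp only [List.map_cons, List.prod_cons, List.sum_cons] at hle ⊢
    rcases Nat.eq_zero_or_pos a.1 with h | h
    · rw [h, gamma_zero, one_mul]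
      exact ih hl' (by omega)
    rcases Nat.eq_zero_or_pos (l.map Prod.fst).sum with h0 | h0
    · have : (l.map fun p => gamma p.1 p.2).prod = 1 := List.prod_eq_one fun b hb => by
        obtain ⟨p, hp, rfl⟩ := List.mem_map.mp hb
        rw [List.sum_eq_zero_iff.mp h0 p.1 (List.mem_map_of_mem hp), gamma_zero]
      rw [this, mul_one]
      exact detHom_gamma hK ha (by omega)
    · exact detHom_mul hK (aug_gamma hK ha h) (aug_prod hK hl' h0)

theorem line_injective (hK : HasSplitting K P) {u v : K} (hu : P.IsLine u) (hv : P.IsLine v)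
    (h : u - v ∈ gammaFiltration P 2) : u = v := by
  have := detHom_filtration hK h
  rw [map_sub, sub_eq_zero] at this
  rw [← detHom_line hu, ← detHom_line hv, this]

theorem prod_eq_sum_esymm {R : Type*} [CommRing R] (s : Multiset R) :
    (s.map fun a => 1 + a).prod = ∑ j ∈ range (Multiset.card s + 1), s.esymm j := by
  have h := congrArg (Polynomial.eval (1 : R)) (Multiset.prod_X_add_C_eq_sum_esymm s)
  simpa [Polynomial.eval_multiset_prod, Multiset.map_map, Function.comp_def, Polynomial.eval_finset_sum] using h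

theorem detPos_congr (hK : HasSplitting K P) {e : K} (he : e ∈ P.pos) :
    detPos P e - 1 - (e - ((P.aug e).toNat : K)) ∈ gammaFiltration P 2 := by
  obtain ⟨n, hn⟩ : ∃ n, (P.aug e).toNat = n + 1 := ⟨(P.aug e).toNat - 1, by have := P.aug_pos e he; omega⟩
  have key : detPos P e = ∑ j ∈ range ((P.aug e).toNat + 1), gamma j (e - ((P.aug e).toNat : K)) := by
    obtain ⟨L, f, hf, h⟩ := exists_splitting hK [e] (by simpa using he)
    obtain ⟨s, hs, hsum⟩ := h e (by simp)
    have hc : (P.aug e).toNat = Multiset.card s := by rw [← hf.aug_comp, ← hsum, aug_sum_lines hs, Int.toNat_natCast]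
    apply hf.injective
    rw [detPos, map_sum, hf.isLambdaHom, hc, ← hsum, lam_lines hs]
    have : ∀ j, f (gamma j (e - (Multiset.card s : K))) = (s.map fun u => u - 1).esymm j := fun j => by
      rw [map_gamma hf, map_sub, map_natCast, ← hsum, gamma_lines hs]
    simp only [this]
    have h2 := prod_eq_sum_esymm (s.map fun u => u - 1)
    rw [Multiset.card_map, Multiset.map_map] at h2
    rw [← h2]
    simp only [Function.comp_def, add_sub_cancel, Multiset.map_id']
    simp [Multiset.esymm]
  rw [key, hn, Finset.sum_range_succ', Finset.sum_range_succ', gamma_zero, zero_add, gamma_one]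
  simp only [add_sub_cancel_right]
  exact sum_mem fun j _ => antitone_filtration (show 2 ≤ j + 1 + 1 by omega)
    (gamma_mem (by rw [← hn]; exact aug_sub_natCast he) _)

theorem exists_line_congr (hK : HasSplitting K P)
    (hLinv : ∀ w : K, P.IsLine w → ∃ w' : K, P.IsLine w' ∧ w * w' = 1)
    (hdet : ∀ e : K, e ∈ P.pos → detPos P e ∈ P.pos) {x : K} (hx : x ∈ gammaFiltration P 1) :
    ∃ u : K, P.IsLine u ∧ x - (u - 1) ∈ gammaFiltration P 2 := by
  have hx0 : P.aug x = 0 := by
    refine mem_induction (motive := fun z => P.aug z = 0) one_ne_zero hx (fun l hl hle => aug_prod hK hl hle)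
      (map_zero _) (fun a b ha hb => by rw [map_add, ha, hb, add_zero]) (fun a ha => by rw [map_neg, ha, neg_zero])
  obtain ⟨e, g, he, hg, rfl⟩ := P.exists_sub x
  have hline : ∀ w ∈ P.pos, P.IsLine (detPos P w) := fun w hw => ⟨hdet w hw, by
    have h := P.aug_pos w hw
    rw [detPos, aug_lam hK]
    conv_lhs => arg 1; rw [← Int.toNat_of_nonneg h.le]
    rw [Ring.choose_natCast, Nat.choose_self, Nat.cast_one]⟩
  obtain ⟨b', hb', hbb⟩ := hLinv _ (hline g hg)
  refine ⟨detPos P e * b', isLine_mul (hline e he) hb', ?_⟩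
  have hn : (P.aug e).toNat = (P.aug g).toNat := by rw [map_sub, sub_eq_zero] at hx0; rw [hx0]
  have h1 := detPos_congr hK he
  have h2 := detPos_congr hK hg
  rw [hn] at h1
  have h3 : (detPos P e - detPos P g) * (b' - 1) ∈ gammaFiltration P 2 := by
    refine mul_mem' (m := 1) (n := 1) ?_ ?_
    · simpa [gamma_one] using gamma_mem (P := P) (x := detPos P e - detPos P g)
        (by rw [map_sub, (hline e he).2, (hline g hg).2, sub_self]) 1
    · simpa [gamma_one] using gamma_mem (P := P) (x := b' - 1) (by rw [map_sub, hb'.2, map_one, sub_self]) 1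
  have := neg_mem (add_mem (sub_mem h1 h2) h3)
  convert this using 1
  linear_combination -hbb

end Groth.Agent.Lam
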