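import Groth.Agent.Lam.GammaFil
import Mathlib.RingTheory.Adjoin.Basic

/-!
Consequences: rank-`d` divisibility and the γ-filtration of a free algebra.
-/

universe u v w

open Finset

namespace Groth.Agent.Lam

open _root_.LambdaRing

section Rank

variable {A : Type u} [CommRing A] [LambdaOps A]

theorem gamma_rank_vanish (h1 : ∀ k : ℕ, 2 ≤ k → LambdaOps.lam k (1 : A) = 0) {N : A} {d : ℕ}
    (hN : ∀ i : ℕ, d < i → LambdaOps.lam i N = 0) {k : ℕ} (hk : d < k) : gamma k (N - (d : A)) = 0 := by
  obtain ⟨m, rfl⟩ := Nat.exists_eq_add_of_le (Nat.succ_le_of_lt hk)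
  rw [gamma_eq_lam h1, show N - (d : A) + ((d.succ + m : ℕ) : A) - 1 = N + (m : A) by push_cast; ring,
    ← coeff_lamSeries, lamSeries_add, lamSeries_natCast h1, PowerSeries.coeff_mul]
  refine Finset.sum_eq_zero fun p hp => ?_
  have hp' := Finset.mem_antidiagonal.mp hp
  by_cases hpd : d < p.1
  · rw [coeff_lamSeries, hN _ hpd, zero_mul]
  · rw [show ((1 : PowerSeries A) + PowerSeries.X) ^ m
        = ((((Polynomial.X : Polynomial A) + 1) ^ m : Polynomial A) : PowerSeries A) by simp [add_comm],
      Polynomial.coeff_coe, Polynomial.coeff_X_add_one_pow, Nat.choose_eq_zero_of_lt (by omega), Nat.cast_zero,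
      mul_zero]

theorem lamAlt_eq_gamma (h1 : ∀ k : ℕ, 2 ≤ k → LambdaOps.lam k (1 : A) = 0) {N : A} {d : ℕ}
    (hN : ∀ i : ℕ, d < i → LambdaOps.lam i N = 0) :
    ∑ j ∈ range (d + 1), (-1 : A) ^ j * LambdaOps.lam j N = (-1 : A) ^ d * gamma d (N - (d : A)) := by
  have h := gamSeries_sub_natCast h1 N d hN
  have hc := congrArg (PowerSeries.coeff d) h
  rw [coeff_gamSeries, map_sum] at hc
  rw [hc, Finset.mul_sum]
  refine Finset.sum_congr rfl fun i hi => ?_
  have hi' : i ≤ d := by simpa [Nat.lt_succ_iff] using hi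
  rw [mul_assoc (PowerSeries.C _), PowerSeries.coeff_C_mul, PowerSeries.coeff_X_pow_mul', if_pos hi']
  rw [show ((1 : PowerSeries A) - PowerSeries.X) ^ (d - i)
      = (((((1 : Polynomial A) - Polynomial.X) ^ (d - i)) : Polynomial A) : PowerSeries A) by simp,
    Polynomial.coeff_coe,
    show ((1 : Polynomial A) - Polynomial.X) = Polynomial.C (-1 : A) * (Polynomial.X + Polynomial.C (-1)) by
      simp [sub_eq_add_neg],
    mul_pow, ← Polynomial.C_pow, Polynomial.coeff_C_mul, Polynomial.coeff_X_add_C_pow, Nat.sub_self,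
    pow_zero, Nat.choose_self, Nat.cast_one, one_mul, mul_one, ← mul_assoc, mul_comm ((-1 : A) ^ d), mul_assoc,
    ← pow_add]
  rw [show d + (d - i) = i + 2 * (d - i) by omega, pow_add, pow_mul]
  simp [mul_comm]

theorem dvd_lam_mul_lamAlt (hA : IsSpecial A) {N : A} {d : ℕ} (hN : ∀ i : ℕ, d < i → LambdaOps.lam i N = 0)
    {p : ℕ} (hp : 1 ≤ p) (x : A) :
    (∑ j ∈ range (d + 1), (-1 : A) ^ j * LambdaOps.lam j N) ∣
      LambdaOps.lam p (x * ∑ j ∈ range (d + 1), (-1 : A) ^ j * LambdaOps.lam j N) := by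
  set y : Fin 2 → A := ![(-1 : A) ^ d * x, N - (d : A)] with hy
  let Pd : GB (Fin 2) := gVar 0 1 * gVar 1 d
  let T : GB (Fin 2) := PowerSeries.coeff p ((serOf Pd).toMul : PowerSeries (GB (Fin 2)))
  letI : ∀ M : Fin 2 → ℕ, LambdaOps (SR (Roots M)) := fun M => splitOps (Roots M)
  have hT : ∀ (B : Type) [CommRing B] [LambdaOps B] (hB : IsSpecial B) (z : Fin 2 → B),
      gEval z T = LambdaOps.lam p (gEval z Pd) := fun B _ _ hB z => by
    rw [← coeff_lamSeries, ← map_serOf hB, PowerSeries.coeff_map]; rfl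
  have hzero : 1 ≤ d → ∀ M, gEval (splitFam (bndNat (1 : Fin 2) (d - 1) M)) T = 0 := by
    intro hd M
    rw [hT _ isSpecial_split]
    simp only [Pd, map_mul, gEval_gVar]
    rw [gamma_splitFam_eq_zero _ (1 : Fin 2) (by unfold bndNat; rw [if_pos rfl]; omega), mul_zero, ← coeff_lamSeries,
      lamSeries_zero, PowerSeries.coeff_one, if_neg (by omega)]
  have hv : ∀ k, d < k → gamma k (y 1) = 0 := fun k hk => gamma_rank_vanish hA.lam_one_eq_zero hN hk
  obtain ⟨Q, hQ, -⟩ := divide y (1 : Fin 2) d hv T hzero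
  have hTy : gEval y T = LambdaOps.lam p (x * ∑ j ∈ range (d + 1), (-1 : A) ^ j * LambdaOps.lam j N) := by
    rw [← coeff_lamSeries, lamAlt_eq_gamma hA.lam_one_eq_zero hN,
      show x * ((-1 : A) ^ d * gamma d (N - (d : A))) = gEval y Pd by
        simp only [Pd, map_mul, gEval_gVar, gamma_one, hy]
        show _ = (-1 : A) ^ d * x * gamma d (N - (d : A))
        ring,
      ← map_serOf hA, PowerSeries.coeff_map]
    rfl
  rw [← hTy, hQ, lamAlt_eq_gamma hA.lam_one_eq_zero hN]
  refine ⟨(-1 : A) ^ d * gEval y Q, ?_⟩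
  have : ((-1 : A) ^ d) * (-1) ^ d = 1 := by rw [← mul_pow]; simp
  show gamma d (N - (d : A)) * _ = _
  linear_combination -(gamma d (N - (d : A)) * gEval y Q) * this

variable {K : Type v} [CommRing K] [LambdaOps K] [BinomialRing K] [Algebra K A] {ε : A →ₐ[K] K}

theorem gamma_sub_mem (hKb : IsBinomial K) (hA : IsSpecial A) (hε : IsAugLambdaAlg K A ε) {m : ℕ} (hm : 1 ≤ m)
    {z : A} (hz : z ∈ gammaFil (ε : A →+* K) m) :
    gamma m z - (-1 : A) ^ (m - 1) * ((m - 1).factorial : A) * z ∈ gammaFil (ε : A →+* K) (m + 1) := by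
  have h := (mainProp_of_mem (d := 0) hKb hA hε (by omega) (v := (0 : A)) (map_zero ε)
    (fun k hk => gamma_zero_right hk) hz).2
  simpa [kap, gamma_zero] using h

theorem quot_mem (hKb : IsBinomial K) (hA : IsSpecial A) (hε : IsAugLambdaAlg K A ε) {d i : ℕ} (hd : 1 ≤ d)
    {N : A} (hN : ∀ k : ℕ, d < k → LambdaOps.lam k N = 0) (hNε : ε N = (d : K))
    (hnzd : (∑ j ∈ range (d + 1), (-1 : A) ^ j * LambdaOps.lam j N) ∈ nonZeroDivisors A)
    {x : A} (hx : x ∈ gammaFil (ε : A →+* K) i) :
    (∀ p : ℕ, 1 ≤ p → ∀ y : A, y * (∑ j ∈ range (d + 1), (-1 : A) ^ j * LambdaOps.lam j N)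
        = gamma p (x * (∑ j ∈ range (d + 1), (-1 : A) ^ j * LambdaOps.lam j N)) →
      y ∈ gammaFil (ε : A →+* K) (p - d)) ∧
    ∀ y : A, y * (∑ j ∈ range (d + 1), (-1 : A) ^ j * LambdaOps.lam j N)
        = gamma (d + i) (x * (∑ j ∈ range (d + 1), (-1 : A) ^ j * LambdaOps.lam j N)) →
      y - (-1 : A) ^ (d + i - 1) * ((d + i - 1).factorial : A) * x ∈ gammaFil (ε : A →+* K) (i + 1) := by
  have hv0 : ε (N - (d : A)) = 0 := by rw [map_sub, map_natCast, hNε, sub_self]
  have hv : ∀ k, d < k → gamma k (N - (d : A)) = 0 := fun k hk => gamma_rank_vanish hA.lam_one_eq_zero hN hk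
  have hM := mainProp_of_mem hKb hA hε (by omega : 1 ≤ d + i) hv0 hv (Ideal.mul_mem_left _ ((-1 : A) ^ d) hx)
  rw [lamAlt_eq_gamma hA.lam_one_eq_zero hN] at hnzd ⊢
  set L := gamma d (N - (d : A))
  have hs : ((-1 : A) ^ d) * (-1) ^ d = 1 := by rw [← mul_pow]; simp
  have hxL : x * ((-1 : A) ^ d * L) = (-1) ^ d * x * L := by ring
  refine ⟨fun p hp y hy => ?_, fun y hy => ?_⟩
  · obtain ⟨q, hq, hqe⟩ := Ideal.mem_span_singleton_mul.mp (hM.1 p hp)
    have : y = (-1) ^ d * q := by
      refine (mul_cancel_right_mem_nonZeroDivisors hnzd).mp ?_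
      rw [hy, hxL, ← hqe]
      linear_combination -(q * L) * hs
    rw [this]
    exact Ideal.mul_mem_left _ _ hq.1
  · obtain ⟨q, hq, hqe⟩ := Ideal.mem_span_singleton_mul.mp hM.2
    have : y - (-1 : A) ^ (d + i - 1) * ((d + i - 1).factorial : A) * x = (-1) ^ d * q := by
      refine (mul_cancel_right_mem_nonZeroDivisors hnzd).mp ?_
      rw [sub_mul, hy, hxL]
      simp only [kap] at hqe
      linear_combination -hqe - (q * L) * hs
    rw [this]
    exact Ideal.mul_mem_left _ _ hq

end Rank

/-! ### free algebras -/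

section Free

variable {K : Type u} [CommRing K] [LambdaOps K] [BinomialRing K]
  {A : Type v} [CommRing A] [LambdaOps A] [Algebra K A] {εA : A →ₐ[K] K}
  {B : Type w} [CommRing B] [LambdaOps B] [Algebra K B] [Algebra A B] [IsScalarTower K A B] {εB : B →ₐ[K] K}

variable (εA) in
/-- the expected filtration -/
noncomputable def freeFil (x : B) (k : ℕ) : Ideal B :=
  Ideal.span {b : B | ∃ (e : ℕ →₀ ℕ) (a : A),
    a ∈ gammaFil (εA : A →+* K) (k - e.sum fun j n => (j + 1) * n) ∧
    b = algebraMap A B a * e.prod fun j n => gamma (j + 1) x ^ n}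

theorem isMulFil_freeFil (x : B) : IsMulFil (freeFil (B := B) εA x) := by
  have hF := isMulFil_gammaFil (εA : A →+* K)
  refine ⟨?_, ?_, ?_⟩
  · rw [Ideal.eq_top_iff_one]
    exact Ideal.subset_span ⟨0, 1, by simp [hF.top], by simp⟩
  · intro a b hab
    refine Ideal.span_mono ?_
    rintro y ⟨e, c, hc, rfl⟩
    exact ⟨e, c, hF.anti (by omega) hc, rfl⟩
  · intro k k' p q hp hq
    have h : freeFil εA x k * freeFil εA x k' ≤ freeFil εA x (k + k') := by
      rw [freeFil, freeFil, Ideal.span_mul_span', Ideal.span_le]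
      rintro _ ⟨_, ⟨e, a, ha, rfl⟩, _, ⟨e', a', ha', rfl⟩, rfl⟩
      refine Ideal.subset_span ⟨e + e', a * a', hF.anti ?_ (hF.mul_mem ha ha'), ?_⟩
      · rw [Finsupp.sum_add_index' (by simp) (by intros; ring)]
        omega
      · simp only [Finsupp.prod_add_index' (h := fun (j : ℕ) (n : ℕ) => gamma (j + 1) x ^ n)
          (fun i => pow_zero _) (fun i a b => pow_add _ a b), map_mul]
        ring
    exact h (Ideal.mul_mem_mul hp hq)

/-- `γ^r` respects a filtration -/
def GammaGraded (G : ℕ → Ideal B) (y : B) : Prop := ∀ r, gamma r y ∈ G r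

theorem gammaGraded_zero (G : ℕ → Ideal B) (hG : IsMulFil G) : GammaGraded G 0 := fun r => by
  rcases Nat.eq_zero_or_pos r with rfl | hr
  · rw [hG.top]; trivial
  · rw [gamma_zero_right hr]; exact zero_mem _

theorem gammaGraded_add {G : ℕ → Ideal B} (hG : IsMulFil G) {y z : B} (hy : GammaGraded G y)
    (hz : GammaGraded G z) : GammaGraded G (y + z) := fun r => by
  rw [gamma_add']
  refine sum_mem fun i hi => ?_
  have := hG.mul_mem (hy i) (hz (r - i))
  rwa [show i + (r - i) = r by simp at hi; omega] at this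

theorem gammaGraded_scalar (hKb : IsBinomial K) (hB : IsSpecial B) (hAlg : IsLambdaAlg K B)
    {G : ℕ → Ideal B} (hG : IsMulFil G) (c : K) {y : B} (hy : GammaGraded G y) :
    GammaGraded G (algebraMap K B c * y) := fun r => by
  have h1 : ∀ a, PowerSeries.coeff a (gamSeries y - 1) ∈ G a := fun a => by
    rw [map_sub, coeff_gamSeries, PowerSeries.coeff_one]
    split
    · next h => subst h; rw [hG.top]; trivial
    · rw [sub_zero]; exact hy a
  have hj : ∀ j a, PowerSeries.coeff a ((gamSeries y - 1) ^ j) ∈ G a := by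
    intro j
    induction j with
    | zero =>
      intro a
      rw [pow_zero, PowerSeries.coeff_one]
      split
      · next h => subst h; rw [hG.top]; trivial
      · exact zero_mem _
    | succ j ih =>
      intro a
      rw [pow_succ, PowerSeries.coeff_mul]
      refine sum_mem fun p hp => ?_
      have := hG.mul_mem (ih p.1) (h1 p.2)
      rwa [Finset.mem_antidiagonal.mp hp] at this
  rw [gamma_scalar_mul hKb hB hAlg]
  exact sum_mem fun j _ => Ideal.mul_mem_left _ _ (hj j r)

theorem gammaGraded_univ (hB : IsSpecial B) {G : ℕ → Ideal B} (hG : IsMulFil G) {ι : Type} [Fintype ι]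
    {x : ι → B} (hx : ∀ i k, gamma (k + 1) (x i) ∈ G (k + 1)) {P : GB ι} (hP : WtGE 1 P) :
    GammaGraded G (gEval x P) := fun r => by
  letI : ∀ N : ι → ℕ, LambdaOps (SR (Roots N)) := fun N => splitOps (Roots N)
  obtain ⟨M, hM⟩ := exists_bound (gOp r P)
  have hw : WtGE r (gOp r P) := by
    refine wtGE_of_split (N := fun _ => M) (fun p hp => hM p hp) ?_
    rw [gEval_gOp isSpecial_split]
    exact gamma_mem_OI_self r (gEval_mem (isMulFil_OI _) (fun j k => gamma_mem_OI_self _ (splitFam_mem _ j)) hP)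
  rw [← gEval_gOp hB]
  exact gEval_mem hG hx hw

theorem freeFil_eq (hKb : IsBinomial K) (hεA : IsAugLambdaAlg K A εA) (hB : IsSpecial B)
    (hAB : IsLambdaAlg A B) (hεB : IsAugLambdaAlg K B εB) (hεAB : ∀ a : A, εB (algebraMap A B a) = εA a)
    (x : B) (hx : εB x = 0)
    (hgen : Algebra.adjoin A (Set.range fun j : ℕ => gamma (j + 1) x) = ⊤) (k : ℕ) :
    gammaFil (εB : B →+* K) k = freeFil εA x k := by
  have hFA := isMulFil_gammaFil (εA : A →+* K)
  have hFB := isMulFil_gammaFil (εB : B →+* K)
  have hG := isMulFil_freeFil (εA := εA) x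
  have halg : ∀ (r : ℕ) (a : A), algebraMap A B (gamma r a) = gamma r (algebraMap A B a) :=
    map_gammaAlg (algebraMap A B) hAB
  have hεγ : ∀ (r : ℕ) (b : B), εB (gamma r b) = gamma r (εB b) :=
    map_gammaAlg (εB : B →+* K) hεB.map_lam
  apply le_antisymm
  · -- every γ of an augmentation zero element is graded
    have hxG : ∀ j, gamma (j + 1) x ∈ freeFil εA x (j + 1) := fun j =>
      Ideal.subset_span ⟨Finsupp.single j 1, 1, by simp [hFA.top], by simp⟩
    have hAG : ∀ a : A, εA a = 0 → GammaGraded (freeFil εA x) (algebraMap A B a) := fun a ha r =>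
      Ideal.subset_span ⟨0, gamma r a, by simpa using gamma_mem_gammaFil (εA : A →+* K) ha r, by simp [halg]⟩
    have key : ∀ y : B, εB y = 0 → GammaGraded (freeFil εA x) y := by
      intro y hy
      have hy' : y ∈ (MvPolynomial.aeval (R := A) fun j : ℕ => gamma (j + 1) x).range := by
        rw [← Algebra.adjoin_range_eq_range_aeval, hgen]; trivial
      obtain ⟨p, hp⟩ := hy'
      replace hp : (MvPolynomial.aeval (R := A) fun j : ℕ => gamma (j + 1) x) p = y := hp
      subst hp
      have hsplit : (MvPolynomial.aeval (R := A) fun j : ℕ => gamma (j + 1) x) p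
          = algebraMap A B (p.coeff 0) + (MvPolynomial.aeval (R := A) fun j : ℕ => gamma (j + 1) x)
              (p - MvPolynomial.C (p.coeff 0)) := by
        rw [map_sub, MvPolynomial.aeval_C]; ring
      set q := p - MvPolynomial.C (p.coeff 0) with hq
      have hq0 : q.coeff 0 = 0 := by simp [hq]
      have hterm : ∀ c ∈ q.support, ∀ a : A, GammaGraded (freeFil εA x)
          (algebraMap A B a * c.prod fun j n => gamma (j + 1) x ^ n) ∧
          εB (algebraMap A B a * c.prod fun j n => gamma (j + 1) x ^ n) = 0 := by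
        intro c hc a
        have hc0 : c ≠ 0 := fun h => by
          rw [h, MvPolynomial.mem_support_iff] at hc; exact hc hq0
        let y : Fin 2 → B := ![x, algebraMap A B (a - algebraMap K A (εA a))]
        have hyG : ∀ i r, gamma (r + 1) (y i) ∈ freeFil εA x (r + 1) := by
          intro i r
          fin_cases i
          · exact hxG r
          · exact hAG _ (by rw [map_sub, AlgHom.commutes, Algebra.algebraMap_self, RingHom.id_apply, sub_self]) _
        let Pc : GB (Fin 2) := MvPolynomial.monomial (c.mapDomain fun j => ((0 : Fin 2), j)) 1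
        have hPc : WtGE 1 Pc := by
          intro m hm
          simp only [Pc, MvPolynomial.support_monomial, if_neg one_ne_zero, Finset.mem_singleton] at hm
          subst hm
          obtain ⟨j, hj⟩ := Finsupp.ne_iff.mp hc0
          rw [Finsupp.weight_apply, Finsupp.sum_mapDomain_index (by simp) (by simp [add_mul]), Finsupp.sum]
          refine le_trans ?_ (Finset.single_le_sum (f := fun j => c j • wtG ((0 : Fin 2), j)) (fun _ _ => Nat.zero_le _)
            (Finsupp.mem_support_iff.mpr hj))
          simp only [wtG, smul_eq_mul]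
          exact Nat.one_le_iff_ne_zero.mpr (Nat.mul_ne_zero (by simpa using hj) (by omega))
        have hEc : gEval y Pc = c.prod fun j n => gamma (j + 1) x ^ n := by
          simp only [Pc, gEval, MvPolynomial.aeval_monomial, map_one, one_mul]
          rw [Finsupp.prod_mapDomain_index (by simp) (by simp [pow_add])]
          rfl
        have h1 := gammaGraded_univ hB hG hyG hPc
        have hP' : WtGE 1 (gVar (1 : Fin 2) 1 * Pc) := fun m hm => by
          have := wtGE_mul (wtGE_gVar (1 : Fin 2) 1) hPc m hm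
          omega
        have h2 := gammaGraded_univ hB hG hyG hP'
        rw [map_mul, gEval_gVar, gamma_one, hEc] at h2
        rw [hEc] at h1
        refine ⟨?_, ?_⟩
        · have := gammaGraded_add hG (gammaGraded_scalar hKb hB hεB.isLambdaAlg hG (εA a) h1) h2
          convert this using 1
          show _ = _ + algebraMap A B (a - algebraMap K A (εA a)) * _
          rw [map_sub, ← IsScalarTower.algebraMap_apply]
          ring
        · obtain ⟨j, hj⟩ := Finsupp.ne_iff.mp hc0
          rw [map_mul, map_finsuppProd, Finsupp.prod,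
            Finset.prod_eq_zero (Finsupp.mem_support_iff.mpr hj)]
          · rw [mul_zero]
          · rw [map_pow, hεγ, hx, gamma_zero_right (Nat.le_add_left 1 j), zero_pow (by simpa using hj)]
      have hqG : GammaGraded (freeFil εA x) ((MvPolynomial.aeval (R := A) fun j : ℕ => gamma (j + 1) x) q) ∧
          εB ((MvPolynomial.aeval (R := A) fun j : ℕ => gamma (j + 1) x) q) = 0 := by
        rw [MvPolynomial.aeval_def, MvPolynomial.eval₂_eq]
        refine Finset.sum_induction _ (fun z => GammaGraded (freeFil εA x) z ∧ εB z = 0)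
          (fun a b ha hb => ⟨gammaGraded_add hG ha.1 hb.1, by rw [map_add, ha.2, hb.2, add_zero]⟩)
          ⟨gammaGraded_zero _ hG, map_zero _⟩ fun c hc => ?_
        exact hterm c hc (q.coeff c)
      rw [hsplit] at hy ⊢
      refine gammaGraded_add hG (hAG _ ?_) hqG.1
      rw [map_add, hεAB, hqG.2, add_zero] at hy
      exact hy
    rw [gammaFil, Ideal.span_le]
    rintro _ ⟨l, hl, hn, rfl⟩
    refine hG.anti hn ?_
    clear hn
    induction l with
    | nil => simp [hG.top]
    | cons a l ih =>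
      simp only [List.map_cons, List.prod_cons, List.sum_cons]
      exact hG.mul_mem (key a.2 (hl a List.mem_cons_self) a.1) (ih fun p hp => hl p (List.mem_cons_of_mem _ hp))
  · rw [freeFil, Ideal.span_le]
    rintro _ ⟨e, a, ha, rfl⟩
    have h1 : algebraMap A B a ∈ gammaFil (εB : B →+* K) (k - e.sum fun j n => (j + 1) * n) := by
      have := Ideal.mem_map_of_mem (algebraMap A B) ha
      refine (?_ : Ideal.map (algebraMap A B) _ ≤ _) this
      rw [gammaFil, Ideal.map_span, Ideal.span_le]
      rintro _ ⟨_, ⟨l, hl, hn, rfl⟩, rfl⟩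
      refine Ideal.subset_span ⟨l.map fun p => (p.1, algebraMap A B p.2), ?_, ?_, ?_⟩
      · intro p hp
        obtain ⟨q, hq, rfl⟩ := List.mem_map.mp hp
        exact (hεAB q.2).trans (hl q hq)
      · simpa [List.map_map, Function.comp_def] using hn
      · rw [map_list_prod, List.map_map, List.map_map]
        congr 1
        exact List.map_congr_left fun p _ => halg p.1 p.2
    have h2 : (e.prod fun j n => gamma (j + 1) x ^ n) ∈ gammaFil (εB : B →+* K) (e.sum fun j n => (j + 1) * n) := by
      clear ha h1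
      induction e using Finsupp.induction with
      | zero => simp [hFB.top]
      | single_add j b e hj hb ih =>
        rw [Finsupp.prod_add_index' (h := fun (j : ℕ) (n : ℕ) => gamma (j + 1) x ^ n) (fun i => pow_zero _)
            (fun i a b => pow_add _ a b),
          Finsupp.sum_add_index' (h := fun (j : ℕ) (n : ℕ) => (j + 1) * n) (fun i => mul_zero _)
            (fun i a b => mul_add _ a b),
          Finsupp.prod_single_index (h := fun (j : ℕ) (n : ℕ) => gamma (j + 1) x ^ n) (pow_zero _),
          Finsupp.sum_single_index (h := fun (j : ℕ) (n : ℕ) => (j + 1) * n) (mul_zero _), mul_comm (j + 1) b]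
        exact hFB.mul_mem (hFB.pow_mem (gamma_mem_gammaFil _ hx _) b) ih
    exact hFB.anti (by omega) (hFB.mul_mem h1 h2)

theorem gammaFil_id_pos {m : ℕ} (hm : 1 ≤ m) : gammaFil (RingHom.id K) m = ⊥ := by
  rw [gammaFil, Ideal.span_eq_bot]
  rintro _ ⟨l, hl, hn, rfl⟩
  obtain ⟨p, hp, hp1⟩ : ∃ p ∈ l, 1 ≤ p.1 := by
    by_contra h
    simp only [not_exists, not_and, not_le, Nat.lt_one_iff] at h
    have : (l.map Prod.fst).sum = 0 := List.sum_eq_zero fun a ha => by
      obtain ⟨q, hq, rfl⟩ := List.mem_map.mp ha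
      exact h q hq
    omega
  refine List.prod_eq_zero (List.mem_map.mpr ⟨p, hp, ?_⟩)
  have : p.2 = 0 := hl p hp
  rw [this, gamma_zero_right hp1]

end Free

end Groth.Agent.Lam
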