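import Groth.Agent.Lam.Pos

/-!
The γ-filtration of a λ-ring with positive structure.
-/

universe u v

open Finset

namespace Groth.Agent.Lam

open _root_.LambdaRing

variable {K : Type u} [CommRing K] [LambdaOps K] {P : PosStructure K}

theorem gammaFiltration_zero (P : PosStructure K) : gammaFiltration P 0 = ⊤ := by
  simp [gammaFiltration]

theorem prod_mem {n : ℕ} (l : List (ℕ × K)) (hl : ∀ p ∈ l, P.aug p.2 = 0)
    (hn : n ≤ (l.map Prod.fst).sum) :
    (l.map fun p => gamma p.1 p.2).prod ∈ gammaFiltration P n := by
  simp only [gammaFiltration]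
  split
  · trivial
  · exact AddSubgroup.subset_closure ⟨l, hl, hn, rfl⟩

theorem mem_induction {n : ℕ} (hn : n ≠ 0) {motive : K → Prop} {x : K}
    (hx : x ∈ gammaFiltration P n)
    (h1 : ∀ l : List (ℕ × K), (∀ p ∈ l, P.aug p.2 = 0) → n ≤ (l.map Prod.fst).sum →
      motive (l.map fun p => gamma p.1 p.2).prod)
    (h0 : motive 0) (hadd : ∀ a b, motive a → motive b → motive (a + b))
    (hneg : ∀ a, motive a → motive (-a)) : motive x := by
  simp only [gammaFiltration, if_neg hn] at hx
  induction hx using AddSubgroup.closure_induction with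
  | mem y hy => obtain ⟨l, hl, hle, rfl⟩ := hy; exact h1 l hl hle
  | zero => exact h0
  | add a b _ _ ha hb => exact hadd a b ha hb
  | neg a _ ha => exact hneg a ha

theorem mul_mem_left' (n : ℕ) (a : K) {x : K} (hx : x ∈ gammaFiltration P n) :
    a * x ∈ gammaFiltration P n := by
  rcases eq_or_ne n 0 with rfl | hn
  · rw [gammaFiltration_zero]; trivial
  refine mem_induction (motive := fun z => a * z ∈ gammaFiltration P n) hn hx (fun l hl hle => ?_)
    (by rw [mul_zero]; exact zero_mem _) (fun p q hp hq => by rw [mul_add]; exact add_mem hp hq)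
    (fun p hp => by rw [mul_neg]; exact neg_mem hp)
  have h1 : (a - (P.aug a : K)) * (l.map fun p => gamma p.1 p.2).prod ∈ gammaFiltration P n := by
    have := prod_mem (P := P) (n := n) ((1, a - (P.aug a : K)) :: l)
      (by
        intro p hp
        rcases List.mem_cons.mp hp with rfl | hp
        · simp
        · exact hl p hp)
      (by simp only [List.map_cons, List.sum_cons]; omega)
    simpa [gamma_one] using this
  have h2 : (P.aug a : K) * (l.map fun p => gamma p.1 p.2).prod ∈ gammaFiltration P n := by
    rw [← zsmul_eq_mul]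
    exact zsmul_mem (prod_mem l hl hle) _
  have := add_mem h1 h2
  rwa [← add_mul, sub_add_cancel] at this

theorem mul_mem' {m n : ℕ} {x y : K} (hx : x ∈ gammaFiltration P m) (hy : y ∈ gammaFiltration P n) :
    x * y ∈ gammaFiltration P (m + n) := by
  rcases eq_or_ne m 0 with rfl | hm
  · rw [zero_add]; exact mul_mem_left' n x hy
  rcases eq_or_ne n 0 with rfl | hn
  · rw [add_zero, mul_comm]; exact mul_mem_left' m y hx
  refine mem_induction (motive := fun z => z * y ∈ gammaFiltration P (m + n)) hm hx (fun l hl hle => ?_)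
    (by rw [zero_mul]; exact zero_mem _) (fun p q hp hq => by rw [add_mul]; exact add_mem hp hq)
    (fun p hp => by rw [neg_mul]; exact neg_mem hp)
  refine mem_induction (motive := fun z => (l.map fun p => gamma p.1 p.2).prod * z ∈ gammaFiltration P (m + n))
    hn hy (fun l' hl' hle' => ?_)
    (by rw [mul_zero]; exact zero_mem _) (fun p q hp hq => by rw [mul_add]; exact add_mem hp hq)
    (fun p hp => by rw [mul_neg]; exact neg_mem hp)
  have := prod_mem (P := P) (n := m + n) (l ++ l')
    (fun p hp => (List.mem_append.mp hp).elim (hl p) (hl' p))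
    (by simp only [List.map_append, List.sum_append]; omega)
  simpa using this

theorem antitone_filtration {m n : ℕ} (h : n ≤ m) :
    gammaFiltration P m ≤ gammaFiltration P n := by
  intro x hx
  rcases eq_or_ne n 0 with rfl | hn
  · rw [gammaFiltration_zero]; trivial
  exact mem_induction (motive := fun z => z ∈ gammaFiltration P n) (show m ≠ 0 by omega) hx
    (fun l hl hle => prod_mem l hl (h.trans hle)) (zero_mem _) (fun _ _ => add_mem) (fun _ => neg_mem)

theorem gamma_mem {x : K} (hx : P.aug x = 0) (r : ℕ) : gamma r x ∈ gammaFiltration P r := by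
  simpa using prod_mem (P := P) (n := r) [(r, x)] (by simpa using hx) (by simp)

theorem pow_mem' {m : ℕ} {x : K} (hx : x ∈ gammaFiltration P m) (k : ℕ) :
    x ^ k ∈ gammaFiltration P (k * m) := by
  induction k with
  | zero => rw [zero_mul, gammaFiltration_zero]; trivial
  | succ k ih => rw [pow_succ, Nat.succ_mul]; exact mul_mem' ih hx

theorem aug_sub_natCast {e : K} (he : e ∈ P.pos) : P.aug (e - ((P.aug e).toNat : K)) = 0 := by
  rw [map_sub, map_natCast, Int.toNat_of_nonneg (P.aug_pos e he).le, sub_self]

/-! ### symmetric functions of the roots -/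

variable {n : ℕ}

/-- the homogenizing substitution `X ↦ X T` -/
noncomputable def homT (n : ℕ) :
    MvPolynomial (Fin n) ℤ →ₐ[ℤ] Polynomial (MvPolynomial (Fin n) ℤ) :=
  MvPolynomial.aeval fun a => Polynomial.C (MvPolynomial.X a) * Polynomial.X

theorem esymm_map_mul {R : Type*} [CommRing R] (t : R) (s : Multiset R) (r : ℕ) :
    (s.map fun a => a * t).esymm r = s.esymm r * t ^ r := by
  induction s using Multiset.induction_on generalizing r with
  | empty => rcases r with _ | r <;> simp [esymm_zero_left]
  | cons a s ih =>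
    rcases r with _ | r
    · simp [esymm_zero_right]
    · rw [Multiset.map_cons, esymm_cons_succ, esymm_cons_succ, ih, ih]
      ring

theorem esymm_map_C {R : Type*} [CommRing R] (s : Multiset R) (r : ℕ) :
    Polynomial.C (s.esymm r) = (s.map Polynomial.C).esymm r := map_esymm' Polynomial.C s r

theorem homT_esymm (k : ℕ) :
    homT n (MvPolynomial.esymm (Fin n) ℤ k)
      = Polynomial.C (MvPolynomial.esymm (Fin n) ℤ k) * Polynomial.X ^ k := by
  rw [homT, MvPolynomial.aeval_esymm_eq_multiset_esymm, MvPolynomial.esymm_eq_multiset_esymm,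
    esymm_map_C, ← esymm_map_mul, Multiset.map_map, Multiset.map_map]
  rfl

theorem homT_eHom (q : MvPolynomial (Fin n) ℤ) (w : ℕ) :
    (homT n (eHom (Fin n) n q)).coeff w
      = eHom (Fin n) n (MvPolynomial.weightedHomogeneousComponent (fun k : Fin n => (k : ℕ) + 1) w q) := by
  classical
  induction q using MvPolynomial.induction_on' with
  | add p q hp hq => simp only [map_add, Polynomial.coeff_add, hp, hq]
  | monomial c a =>
    have h : homT n (eHom (Fin n) n (MvPolynomial.monomial c a))
        = Polynomial.C (eHom (Fin n) n (MvPolynomial.monomial c a))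
          * Polynomial.X ^ (Finsupp.weight (fun k : Fin n => (k : ℕ) + 1) c) := by
      simp only [eHom, MvPolynomial.aeval_monomial, map_mul, Finsupp.prod, map_prod, map_pow,
        homT_esymm, mul_pow, ← pow_mul, Finset.prod_mul_distrib, Finset.prod_pow_eq_pow_sum]
      rw [Finsupp.weight_apply, Finsupp.sum]
      simp [mul_comm, mul_assoc, mul_left_comm]
    rw [h, Polynomial.coeff_C_mul_X_pow]
    by_cases hw : w = Finsupp.weight (fun k : Fin n => (k : ℕ) + 1) c
    · subst hw
      rw [if_pos rfl, (MvPolynomial.isWeightedHomogeneous_monomial _ c a rfl).weightedHomogeneousComponent_same]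
    · rw [if_neg hw,
        (MvPolynomial.isWeightedHomogeneous_monomial _ c a rfl).weightedHomogeneousComponent_ne w hw,
        map_zero]

theorem aeval_gamma_mem {x : K} (hx : P.aug x = 0) (q : MvPolynomial (Fin n) ℤ) (d : ℕ)
    (hq : ∀ w, w < d → MvPolynomial.weightedHomogeneousComponent (fun k : Fin n => (k : ℕ) + 1) w q = 0) :
    MvPolynomial.aeval (fun k : Fin n => gamma ((k : ℕ) + 1) x) q ∈ gammaFiltration P d := by
  classical
  rw [q.as_sum, map_sum]
  refine sum_mem fun c hc => ?_
  have hw : d ≤ Finsupp.weight (fun k : Fin n => (k : ℕ) + 1) c := by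
    by_contra hlt
    have := congrArg (MvPolynomial.coeff c) (hq _ (not_le.mp hlt))
    rw [MvPolynomial.coeff_weightedHomogeneousComponent, if_pos rfl, MvPolynomial.coeff_zero] at this
    exact MvPolynomial.mem_support_iff.mp hc this
  rw [MvPolynomial.aeval_monomial]
  refine mul_mem_left' _ _ (antitone_filtration hw ?_)
  rw [Finsupp.weight_apply]
  clear hc hw
  induction c using Finsupp.induction with
  | zero => simp [gammaFiltration_zero]
  | single_add k b c hk hb ih =>
    rw [Finsupp.prod_add_index' (fun i => pow_zero _) (fun i a b => pow_add _ a b),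
      Finsupp.sum_add_index' (h := fun (i : Fin n) (c : ℕ) => c • ((i : ℕ) + 1)) (fun i => zero_smul ℕ _)
        (fun i a b => add_smul a b _),
      Finsupp.prod_single_index (h := fun (i : Fin n) (c : ℕ) => gamma ((i : ℕ) + 1) x ^ c) (pow_zero _),
      Finsupp.sum_single_index (h := fun (i : Fin n) (c : ℕ) => c • ((i : ℕ) + 1)) (zero_smul ℕ _)]
    exact mul_mem' (pow_mem' (gamma_mem hx _) b) ih

/-- the congruence on the roots -/
theorem homT_congr (j r w : ℕ) (hw : w ≤ r) :
    (homT n (((Finset.univ : Finset (Fin n)).val.map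
        fun a => (1 + MvPolynomial.X a : MvPolynomial (Fin n) ℤ) ^ j - 1).esymm r
      - (j : MvPolynomial (Fin n) ℤ) ^ r * MvPolynomial.esymm (Fin n) ℤ r)).coeff w = 0 := by
  set A := Polynomial (MvPolynomial (Fin n) ℤ) with hA
  let h : Fin n → A := fun a => Polynomial.C (MvPolynomial.X a) *
    ∑ i ∈ range j, (1 + Polynomial.C (MvPolynomial.X a) * Polynomial.X) ^ i
  have hh : ∀ a : Fin n, homT n ((1 + MvPolynomial.X a : MvPolynomial (Fin n) ℤ) ^ j - 1)
      = h a * Polynomial.X := by
    intro a
    rw [map_sub, map_pow, map_add, map_one, ← geom_sum_mul]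
    simp only [homT, MvPolynomial.aeval_X, h]
    ring
  have e : homT n (((Finset.univ : Finset (Fin n)).val.map
        fun a => (1 + MvPolynomial.X a : MvPolynomial (Fin n) ℤ) ^ j - 1).esymm r
      - (j : MvPolynomial (Fin n) ℤ) ^ r * MvPolynomial.esymm (Fin n) ℤ r)
      = (((Finset.univ : Finset (Fin n)).val.map h).esymm r
        - Polynomial.C ((j : MvPolynomial (Fin n) ℤ) ^ r * MvPolynomial.esymm (Fin n) ℤ r))
          * Polynomial.X ^ r := by
    rw [map_sub, map_mul (homT n), map_pow, map_natCast, homT_esymm, sub_mul, ← esymm_map_mul,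
      Multiset.map_map]
    congr 1
    · change (homT n).toRingHom _ = _
      rw [map_esymm', Multiset.map_map]
      congr 1
      exact Multiset.map_congr rfl fun a _ => hh a
    · rw [map_mul, map_pow, map_natCast]
      ring
  rw [e, Polynomial.coeff_mul_X_pow']
  split
  · next hrw =>
    rw [show w - r = 0 by omega, Polynomial.coeff_sub, Polynomial.coeff_C_zero]
    change Polynomial.constantCoeff (((Finset.univ : Finset (Fin n)).val.map h).esymm r) - _ = 0
    rw [map_esymm', Multiset.map_map]
    have : (Polynomial.constantCoeff : A →+* MvPolynomial (Fin n) ℤ) ∘ h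
        = fun a => MvPolynomial.X a * (j : MvPolynomial (Fin n) ℤ) := by
      funext a
      simp only [Function.comp_apply, h, map_mul, map_sum, map_pow, map_add, map_one]
      simp
    rw [this]
    have h2 := esymm_map_mul (j : MvPolynomial (Fin n) ℤ)
      ((Finset.univ : Finset (Fin n)).val.map MvPolynomial.X) r
    rw [Multiset.map_map] at h2
    rw [MvPolynomial.esymm_eq_multiset_esymm, mul_comm ((j : MvPolynomial (Fin n) ℤ) ^ r), ← h2]
    exact sub_self _
  · rfl

theorem prod_lines {ι : Type*} (s : Finset ι) (g : ι → K) (hg : ∀ a, P.IsLine (g a)) (c : ι → ℕ) :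
    P.IsLine (∏ a ∈ s, g a ^ c a) :=
  Finset.prod_induction _ P.IsLine (fun _ _ => isLine_mul) (isLine_one P) (fun a _ => isLine_pow (hg a) _)

theorem adams_aeval_lines (g : Fin n → K) (hg : ∀ a, P.IsLine (g a)) (j : ℕ)
    (m : MvPolynomial (Fin n) ℤ) :
    LambdaRing.adams P j (MvPolynomial.aeval g m) = MvPolynomial.aeval (fun a => g a ^ j) m := by
  induction m using MvPolynomial.induction_on' with
  | add p q hp hq => rw [map_add, map_add, adams_add, hp, hq]
  | monomial c z =>
    rw [MvPolynomial.aeval_monomial, MvPolynomial.aeval_monomial, algebraMap_int_eq, eq_intCast,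
      ← zsmul_eq_mul, ← zsmul_eq_mul, ← adamsAdd_apply, map_zsmul, adamsAdd_apply, Finsupp.prod,
      adams_line (prod_lines c.support g hg _), ← Finset.prod_pow]
    congr 1
    exact Finset.prod_congr rfl fun a _ => by simp only [← pow_mul, mul_comm]

theorem adams_gamma_pos {e : K} (he : e ∈ P.pos) (hK : HasSplitting K P) (j r : ℕ) :
    LambdaRing.adams P j (gamma r (e - ((P.aug e).toNat : K)))
      - (j : K) ^ r * gamma r (e - ((P.aug e).toNat : K)) ∈ gammaFiltration P (r + 1) := by
  set n := (P.aug e).toNat with hn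
  set p : MvPolynomial (Fin n) ℤ := ((Finset.univ : Finset (Fin n)).val.map
        fun a => (1 + MvPolynomial.X a : MvPolynomial (Fin n) ℤ) ^ j - 1).esymm r
      - (j : MvPolynomial (Fin n) ℤ) ^ r * MvPolynomial.esymm (Fin n) ℤ r with hp
  have hsym : p.IsSymmetric := by
    intro σ
    rw [hp, map_sub, map_mul, map_pow, map_natCast, MvPolynomial.rename_esymm]
    congr 1
    change (MvPolynomial.rename σ : MvPolynomial (Fin n) ℤ →ₐ[ℤ] _).toRingHom _ = _
    rw [map_esymm', Multiset.map_map]
    simp only [AlgHom.toRingHom_eq_coe, RingHom.coe_coe, Function.comp_def, map_sub, map_pow, map_add,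
      map_one, MvPolynomial.rename_X]
    rw [map_univ_perm σ (fun a => (1 + MvPolynomial.X a : MvPolynomial (Fin n) ℤ) ^ j - 1)]
  obtain ⟨q, hq⟩ := exists_eHom_eq (σ := Fin n) (n := n) (by simp) hsym
  have hlow : ∀ w, w < r + 1 →
      MvPolynomial.weightedHomogeneousComponent (fun k : Fin n => (k : ℕ) + 1) w q = 0 := by
    intro w hw
    apply eHom_injective (R := ℤ) (σ := Fin n) (n := n) (by simp)
    rw [← homT_eHom, hq, hp, homT_congr j r w (by omega), map_zero]
  have hmem := aeval_gamma_mem (P := P) (aug_sub_natCast he) q (r + 1) hlow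
  obtain ⟨L, f, hf, h⟩ := exists_splitting hK [e] (by simpa using he)
  obtain ⟨s, hs, hsum⟩ := h e (by simp)
  have hc : Multiset.card s = n := by
    rw [hn, ← hf.aug_comp, ← hsum, aug_sum_lines hs, Int.toNat_natCast]
  obtain ⟨g, hg⟩ := exists_family hc
  suffices H : LambdaRing.adams P j (gamma r (e - (n : K))) - (j : K) ^ r * gamma r (e - (n : K))
      = MvPolynomial.aeval (fun k : Fin n => gamma ((k : ℕ) + 1) (e - (n : K))) q by
    rw [H]; exact hmem
  apply hf.injective
  have hfx : ∀ k, f (gamma k (e - (n : K))) = (s.map fun u => u - 1).esymm k := by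
    intro k
    rw [map_gamma hf, map_sub, map_natCast, ← hsum, ← hc, gamma_lines hs]
  rw [map_aeval_int]
  have hval : (fun i : Fin n => f (gamma ((i : ℕ) + 1) (e - (n : K))))
      = fun i : Fin n => MvPolynomial.aeval (fun a => g a - 1) (MvPolynomial.esymm (Fin n) ℤ ((i : ℕ) + 1)) := by
    funext i
    rw [hfx, aeval_esymm_fin, ← hg, Multiset.map_map]
    rfl
  rw [hval, ← MvPolynomial.comp_aeval_apply]
  change _ = MvPolynomial.aeval (fun a => g a - 1) (eHom (Fin n) n q)
  have hl : ∀ a, L.posStr.IsLine (g a) := fun a => hs _ (by rw [← hg]; exact Multiset.mem_map_of_mem _ (Finset.mem_univ a))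
  rw [hq, hp, map_sub, map_sub, map_mul, map_mul, map_pow, map_pow, map_natCast, map_natCast,
    map_adams hf, hfx, aeval_esymm_fin]
  congr 1
  · -- the Adams operation on the split side
    rw [show (s.map fun u => u - 1).esymm r = MvPolynomial.aeval g
        ((((Finset.univ : Finset (Fin n)).val.map fun a => (MvPolynomial.X a - 1 : MvPolynomial (Fin n) ℤ))).esymm r) from ?_,
      adams_aeval_lines g hl]
    · change (MvPolynomial.aeval (fun a => g a ^ j) : MvPolynomial (Fin n) ℤ →ₐ[ℤ] L.carrier).toRingHom _
        = (MvPolynomial.aeval (fun a => g a - 1) : MvPolynomial (Fin n) ℤ →ₐ[ℤ] L.carrier).toRingHom _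
      rw [map_esymm', map_esymm', Multiset.map_map, Multiset.map_map]
      congr 1
      exact Multiset.map_congr rfl fun a _ => by simp
    · change _ = (MvPolynomial.aeval g : MvPolynomial (Fin n) ℤ →ₐ[ℤ] L.carrier).toRingHom _
      rw [map_esymm', Multiset.map_map, ← hg, Multiset.map_map]
      congr 1
      exact Multiset.map_congr rfl fun a _ => by simp
  · rw [← hg, Multiset.map_map]
    rfl

/-- `ψ^j γ^r(x) ≡ j^r γ^r(x)` modulo `F_(r+1)`, for `ε(x) = 0` -/
theorem adams_gamma_congr (hK : HasSplitting K P) (j : ℕ) {x : K} (hx : P.aug x = 0) (r : ℕ) :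
    LambdaRing.adams P j (gamma r x) - (j : K) ^ r * gamma r x ∈ gammaFiltration P (r + 1) := by
  let Q : K → Prop := fun y => ∀ r,
    LambdaRing.adams P j (gamma r y) - (j : K) ^ r * gamma r y ∈ gammaFiltration P (r + 1)
  have hmem : ∀ (y : K), P.aug y = 0 → Q y → ∀ r,
      adamsRingHom hK j (gamma r y) ∈ gammaFiltration P r := by
    intro y hy hQ r
    have := add_mem (antitone_filtration (Nat.le_succ r) (hQ r)) (mul_mem_left' r ((j : K) ^ r) (gamma_mem hy r))
    rwa [sub_add_cancel] at this
  have hprod : ∀ (y z : K), P.aug y = 0 → P.aug z = 0 → ∀ i k,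
      (LambdaRing.adams P j (gamma i y) - (j : K) ^ i * gamma i y ∈ gammaFiltration P (i + 1)) →
      (LambdaRing.adams P j (gamma k z) - (j : K) ^ k * gamma k z ∈ gammaFiltration P (k + 1)) →
      adamsRingHom hK j (gamma i y * gamma k z) - (j : K) ^ (i + k) * (gamma i y * gamma k z)
        ∈ gammaFiltration P (i + k + 1) := by
    intro y z hy hz i k h1 h2
    have ha : adamsRingHom hK j (gamma k z) ∈ gammaFiltration P k := by
      have := add_mem (antitone_filtration (Nat.le_succ k) h2) (mul_mem_left' k ((j : K) ^ k) (gamma_mem hz k))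
      rwa [sub_add_cancel] at this
    have e1 : (LambdaRing.adams P j (gamma i y) - (j : K) ^ i * gamma i y) * adamsRingHom hK j (gamma k z)
        ∈ gammaFiltration P (i + k + 1) := by
      rw [show i + k + 1 = i + 1 + k by omega]; exact mul_mem' h1 ha
    have e2 : ((j : K) ^ i * gamma i y) * (LambdaRing.adams P j (gamma k z) - (j : K) ^ k * gamma k z)
        ∈ gammaFiltration P (i + k + 1) := by
      rw [add_assoc]; exact mul_mem' (mul_mem_left' i _ (gamma_mem hy i)) h2
    have := add_mem e1 e2
    have e : adamsRingHom hK j (gamma i y * gamma k z) - (j : K) ^ (i + k) * (gamma i y * gamma k z)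
        = (LambdaRing.adams P j (gamma i y) - (j : K) ^ i * gamma i y) * adamsRingHom hK j (gamma k z)
          + ((j : K) ^ i * gamma i y) * (LambdaRing.adams P j (gamma k z) - (j : K) ^ k * gamma k z) := by
      rw [map_mul, pow_add]
      show LambdaRing.adams P j (gamma i y) * LambdaRing.adams P j (gamma k z) - _ =
        _ * LambdaRing.adams P j (gamma k z) + _
      ring
    rw [e]; exact this
  have hsum : ∀ y z : K, P.aug y = 0 → P.aug z = 0 → Q y → Q z → Q (y + z) := by
    intro y z hy hz h1 h2 r
    rw [gamma_add']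
    change adamsRingHom hK j _ - _ ∈ _
    rw [map_sum, Finset.mul_sum, ← Finset.sum_sub_distrib]
    refine sum_mem fun i hi => ?_
    have hi' : i + (r - i) = r := by simp at hi; omega
    have := hprod y z hy hz i (r - i) (h1 i) (h2 (r - i))
    rwa [hi'] at this
  have hneg : ∀ y : K, P.aug y = 0 → Q y → Q (-y) := by
    intro y hy h1 r
    induction r using Nat.strong_induction_on with
    | _ r ih =>
      rcases r with _ | r
      · rw [gamma_zero, pow_zero, one_mul]
        change adamsRingHom hK j 1 - 1 ∈ _
        rw [map_one, sub_self]; exact zero_mem _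
      · have h0 : ∑ i ∈ range (r + 1 + 1), gamma i y * gamma (r + 1 - i) (-y) = 0 := by
          rw [← gamma_add', add_neg_cancel, ← coeff_gamSeries, gamSeries_zero]
          simp
        rw [Finset.sum_range_succ'] at h0
        have h0' : gamma (r + 1) (-y)
            = -∑ i ∈ range (r + 1), gamma (i + 1) y * gamma (r + 1 - (i + 1)) (-y) := by
          rw [gamma_zero, one_mul, Nat.sub_zero] at h0
          linear_combination h0
        rw [h0']
        change adamsRingHom hK j _ - _ ∈ _
        rw [map_neg, mul_neg, sub_neg_eq_add, neg_add_eq_sub, ← neg_sub, map_sum, Finset.mul_sum,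
          ← Finset.sum_sub_distrib]
        refine neg_mem (sum_mem fun i hi => ?_)
        have hi' : i + 1 + (r + 1 - (i + 1)) = r + 1 := by simp at hi; omega
        have := hprod y (-y) hy (by simp [hy]) (i + 1) (r + 1 - (i + 1)) (h1 _) (ih _ (by omega))
        rwa [hi'] at this
  obtain ⟨e, g, he, hg, rfl⟩ := P.exists_sub x
  have hne : (P.aug e).toNat = (P.aug g).toNat := by
    rw [map_sub, sub_eq_zero] at hx; rw [hx]
  have : e - g = (e - ((P.aug e).toNat : K)) + -(g - ((P.aug g).toNat : K)) := by
    rw [hne]; ring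
  rw [this]
  refine hsum _ _ (aug_sub_natCast he) (by rw [map_neg, aug_sub_natCast hg, neg_zero])
    (fun r => adams_gamma_pos he hK j r) ?_ r
  exact hneg _ (aug_sub_natCast hg) fun r => adams_gamma_pos hg hK j r

theorem adams_congr (hK : HasSplitting K P) (j n : ℕ) {x : K} (hx : x ∈ gammaFiltration P n) :
    LambdaRing.adams P j x - (j : K) ^ n * x ∈ gammaFiltration P (n + 1) := by
  have key : ∀ l : List (ℕ × K), (∀ p ∈ l, P.aug p.2 = 0) →
      adamsRingHom hK j (l.map fun p => gamma p.1 p.2).prod
        - (j : K) ^ (l.map Prod.fst).sum * (l.map fun p => gamma p.1 p.2).prod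
      ∈ gammaFiltration P ((l.map Prod.fst).sum + 1) := by
    intro l hl
    induction l with
    | nil => simp
    | cons a l ih =>
      have h2 := ih fun p hp => hl p (List.mem_cons_of_mem _ hp)
      have h1 := adams_gamma_congr hK j (hl a List.mem_cons_self) a.1
      have hpl := prod_mem (P := P) (n := (l.map Prod.fst).sum) l (fun p hp => hl p (List.mem_cons_of_mem _ hp)) le_rfl
      simp only [List.map_cons, List.prod_cons, List.sum_cons, map_mul, pow_add]
      have e : adamsRingHom hK j (gamma a.1 a.2) * adamsRingHom hK j (l.map fun p => gamma p.1 p.2).prod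
          - (j : K) ^ a.1 * (j : K) ^ (l.map Prod.fst).sum * (gamma a.1 a.2 * (l.map fun p => gamma p.1 p.2).prod)
          = (LambdaRing.adams P j (gamma a.1 a.2) - (j : K) ^ a.1 * gamma a.1 a.2)
              * adamsRingHom hK j (l.map fun p => gamma p.1 p.2).prod
            + (j : K) ^ a.1 * (gamma a.1 a.2 * (adamsRingHom hK j (l.map fun p => gamma p.1 p.2).prod
              - (j : K) ^ (l.map Prod.fst).sum * (l.map fun p => gamma p.1 p.2).prod)) := by
        show LambdaRing.adams P j (gamma a.1 a.2) * _ - _ = _
        ring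
      rw [e]
      refine add_mem ?_ ?_
      · rw [show a.1 + (l.map Prod.fst).sum + 1 = a.1 + 1 + (l.map Prod.fst).sum by omega]
        refine mul_mem' h1 ?_
        have := add_mem (antitone_filtration (Nat.le_succ _) h2) (mul_mem_left' _ ((j : K) ^ (l.map Prod.fst).sum) hpl)
        rwa [sub_add_cancel] at this
      · rw [add_assoc]
        exact mul_mem_left' _ _ (mul_mem' (gamma_mem (hl a List.mem_cons_self) a.1) h2)
  rcases eq_or_ne n 0 with rfl | hn
  · -- degree zero: reduce to augmentation zero
    rw [pow_zero, one_mul, zero_add]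
    have h : x - (P.aug x : K) ∈ gammaFiltration P 1 := by
      simpa [gamma_one] using gamma_mem (P := P) (x := x - (P.aug x : K)) (by simp) 1
    have h1 := adams_gamma_congr hK j (x := x - (P.aug x : K)) (by simp) 1
    rw [gamma_one, pow_one] at h1
    have h2 : LambdaRing.adams P j (x - (P.aug x : K)) ∈ gammaFiltration P 1 := by
      have := add_mem (antitone_filtration (show 1 ≤ 1 + 1 by omega) h1) (mul_mem_left' 1 (j : K) h)
      rwa [sub_add_cancel] at this
    have := sub_mem h2 h
    rwa [← adamsAdd_apply, map_sub, adamsAdd_apply, adamsAdd_apply, adams_intCast, sub_sub_sub_cancel_right] at this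
  refine mem_induction (motive := fun z => LambdaRing.adams P j z - (j : K) ^ n * z ∈ gammaFiltration P (n + 1))
    hn hx (fun l hl hle => ?_) ?_ (fun p q hp hq => ?_) (fun p hp => ?_)
  · rcases hle.eq_or_lt with he | hlt
    · subst he; exact key l hl
    · have hm := prod_mem (P := P) (n := n + 1) l hl hlt
      have := key l hl
      have h' : LambdaRing.adams P j (l.map fun p => gamma p.1 p.2).prod ∈ gammaFiltration P (n + 1) := by
        have := add_mem (antitone_filtration (show n + 1 ≤ _ by omega) this) (mul_mem_left' (n + 1) ((j : K) ^ (l.map Prod.fst).sum) hm)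
        rwa [sub_add_cancel] at this
      exact sub_mem h' (mul_mem_left' _ _ hm)
  · change adamsRingHom hK j 0 - _ ∈ _
    rw [map_zero, mul_zero, sub_zero]; exact zero_mem _
  · have := add_mem hp hq
    rw [adams_add, mul_add]
    convert this using 1
    ring
  · rw [← adamsAdd_apply, map_neg, adamsAdd_apply, mul_neg]
    have := neg_mem hp
    convert this using 1
    ring

end Groth.Agent.Lam
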