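import Groth.Prelude.Def_KRR
import Groth.Agent.Lam.Filtration
import Mathlib.Algebra.Group.ForwardDiff
import Mathlib.RingTheory.Nilpotent.Basic
import Mathlib.RingTheory.AdjoinRoot

/-!
Purely algebraic facts on `σ`, the elementary extension and Bott classes.
-/

universe u

open Finset

namespace Groth.Agent.Lam

open _root_.LambdaRing

variable {K : Type u} [CommRing K] [LambdaOps K] {P : PosStructure K}

/-- the coefficients of `λ_{-t}` -/
def cAlt (x : K) (i : ℕ) : K := (-1 : K) ^ i * LambdaOps.lam i x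

theorem coeff_rescale_lam (x : K) (i : ℕ) :
    PowerSeries.coeff i (PowerSeries.rescale (-1 : K) (lamSeries x)) = cAlt x i := by
  rw [PowerSeries.coeff_rescale, coeff_lamSeries, cAlt]

theorem rescale_mul_sigma (x : K) :
    PowerSeries.rescale (-1 : K) (lamSeries x) * KRR.sigmaSeries x = 1 := by
  refine PowerSeries.mul_invOfUnit _ 1 ?_
  rw [← PowerSeries.coeff_zero_eq_constantCoeff_apply, coeff_rescale_lam, cAlt]
  simp [LambdaOps.lam_zero]

theorem sigma_rec (x : K) (k : ℕ) :
    ∑ i ∈ range (k + 1), cAlt x i * KRR.sigma (k - i) x = if k = 0 then 1 else 0 := by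
  have h := congrArg (PowerSeries.coeff k) (rescale_mul_sigma x)
  rw [PowerSeries.coeff_mul, Finset.Nat.sum_antidiagonal_eq_sum_range_succ_mk, PowerSeries.coeff_one] at h
  simp only [coeff_rescale_lam] at h
  exact h

theorem cAlt_eq_zero {e : K} (he : e ∈ P.pos) {i : ℕ} (hi : (P.aug e).toNat < i) : cAlt e i = 0 := by
  rw [cAlt, P.lam_eq_zero e he i (by have := P.aug_pos e he; omega), mul_zero]

theorem sigma_rec_pos {e : K} (he : e ∈ P.pos) {n : ℕ} (hn : (P.aug e).toNat = n) {k : ℕ} (hk : 1 ≤ k) :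
    ∑ i ∈ range (n + 1), cAlt e i * (if i ≤ k then KRR.sigma (k - i) e else 0) = 0 := by
  have h := sigma_rec e k
  rw [if_neg (by omega)] at h
  refine Eq.trans ?_ h
  simp only [mul_ite, mul_zero]
  rw [← Finset.sum_filter]
  refine Finset.sum_subset ?_ ?_
  · intro i hi
    simp only [Finset.mem_filter, Finset.mem_range] at hi ⊢
    omega
  · intro i hi hni
    simp only [Finset.mem_filter, Finset.mem_range] at hi hni
    rw [cAlt_eq_zero he (by omega), zero_mul]

theorem sum_sum_sub {M : Type*} [AddCommMonoid M] (F : ℕ → ℕ → M) (N : ℕ) :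
    ∑ i ∈ range N, ∑ k ∈ range (i + 1), F k (i - k) = ∑ k ∈ range N, ∑ j ∈ range (N - k), F k j := by
  induction N with
  | zero => simp
  | succ N ih =>
    rw [Finset.sum_range_succ, ih, Finset.sum_range_succ (fun k => ∑ j ∈ range (N + 1 - k), F k j),
      Finset.sum_range_succ (fun k => F k (N - k)), ← add_assoc, ← Finset.sum_add_distrib]
    congr 1
    · refine Finset.sum_congr rfl fun k hk => ?_
      rw [show N + 1 - k = N - k + 1 by simp at hk; omega, Finset.sum_range_succ]
    · simp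

theorem sum_alt_esymm {R : Type*} [CommRing R] (s : Multiset R) :
    ∑ j ∈ range (Multiset.card s + 1), (-1 : R) ^ j * s.esymm j = (s.map fun a => 1 - a).prod := by
  have h := congrArg (Polynomial.eval (1 : R)) (Multiset.prod_X_add_C_eq_sum_esymm (s.map fun a => a * -1))
  simp only [Polynomial.eval_multiset_prod, Multiset.map_map, Function.comp_def, Polynomial.eval_add,
    Polynomial.eval_X, Polynomial.eval_C, Polynomial.eval_finset_sum, Polynomial.eval_mul,
    Polynomial.eval_pow, one_pow, mul_one, Multiset.card_map, esymm_map_mul] at h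
  simp only [mul_comm ((-1 : R) ^ _), h.symm]
  congr 1
  exact Multiset.map_congr rfl fun a _ => by ring

/-! ### augmentation of λ -/

theorem aug_lamSeries_pos (hK : HasSplitting K P) {e : K} (he : e ∈ P.pos) :
    PowerSeries.map P.aug (lamSeries e) = (1 + PowerSeries.X) ^ (P.aug e).toNat := by
  obtain ⟨L, f, hf, h⟩ := exists_splitting hK [e] (by simpa using he)
  obtain ⟨s, hs, hsum⟩ := h e (by simp)
  have h1 : PowerSeries.map P.aug (lamSeries e) = PowerSeries.map L.posStr.aug (lamSeries (f e)) := by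
    ext i
    simp only [PowerSeries.coeff_map, coeff_lamSeries]
    rw [← hf.isLambdaHom, hf.aug_comp]
  have hc : (P.aug e).toNat = Multiset.card s := by
    rw [← hf.aug_comp, ← hsum, aug_sum_lines hs, Int.toNat_natCast]
  rw [h1, ← hsum, lamSeries_lines hs, map_splitSeries,
    Multiset.map_congr (g := fun _ => (1 : ℤ)) rfl (fun u hu => (hs u hu).2), hc]
  simp [splitSeries]

theorem aug_sigma (hK : HasSplitting K P) {e : K} (he : e ∈ P.pos) {r : ℕ} (hr : P.aug e = r + 1) (j : ℕ) :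
    P.aug (KRR.sigma j e) = ((r + j).choose j : ℤ) := by
  have hres : PowerSeries.map P.aug (PowerSeries.rescale (-1 : K) (lamSeries e))
      = (1 - PowerSeries.X) ^ (r + 1) := by
    have h2 : PowerSeries.map P.aug (PowerSeries.rescale (-1 : K) (lamSeries e))
        = PowerSeries.rescale (-1 : ℤ) (PowerSeries.map P.aug (lamSeries e)) := by
      ext i
      simp [PowerSeries.coeff_rescale]
    rw [h2, aug_lamSeries_pos hK he, show (P.aug e).toNat = r + 1 by omega, map_pow, map_add, map_one,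
      PowerSeries.rescale_X]
    simp [sub_eq_add_neg]
  have h := congrArg (PowerSeries.map P.aug) (rescale_mul_sigma e)
  rw [map_mul, map_one, hres] at h
  have h' : PowerSeries.map P.aug (KRR.sigmaSeries e) = (PowerSeries.invOneSubPow ℤ (r + 1) : PowerSeries ℤ) := by
    have hu : (1 - PowerSeries.X : PowerSeries ℤ) ^ (r + 1) = ((PowerSeries.invOneSubPow ℤ (r + 1))⁻¹ : (PowerSeries ℤ)ˣ) :=
      (PowerSeries.invOneSubPow_inv_eq_one_sub_pow ℤ (r + 1)).symm
    rw [hu] at h
    exact (Units.inv_mul_eq_one.mp h).symm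
  have := congrArg (PowerSeries.coeff j) h'
  rw [PowerSeries.coeff_map, PowerSeries.invOneSubPow_val_succ_eq_mk_add_choose, PowerSeries.coeff_mk] at this
  rw [KRR.sigma, this, Nat.choose_symm_add]

/-! ### nilpotence -/

theorem gamma_pos_vanish {e : K} (he : e ∈ P.pos) {n k : ℕ} (hn : P.aug e = n) (hk : n < k) :
    gamma k (e - (n : K)) = 0 := by
  rw [gamma_eq_lam (lam_one_pos P)]
  have hpos : e - (n : K) + (k : K) - 1 ∈ P.pos ∧ P.aug (e - (n : K) + (k : K) - 1) = (k : ℤ) - 1 := by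
    obtain ⟨m, rfl⟩ := Nat.exists_eq_add_of_le (Nat.succ_le_of_lt hk)
    have e1 : e - (n : K) + ((n.succ + m : ℕ) : K) - 1 = e + (m : K) := by push_cast; ring
    rw [e1]
    refine ⟨?_, by rw [map_add, map_natCast, hn]; push_cast; ring⟩
    rcases eq_or_ne m 0 with rfl | hm
    · simpa using he
    · exact P.add_mem _ _ he (P.natCast_mem m (Nat.pos_of_ne_zero hm))
  exact P.lam_eq_zero _ hpos.1 k (by rw [hpos.2]; omega)

theorem isNilpotent_of_pos {v : K} (hv : P.IsLine v) {m : ℕ} (he : (m : K) - v ∈ P.pos) :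
    IsNilpotent (v - 1) := by
  have haug : P.aug ((m : K) - v) = (m : ℤ) - 1 := by rw [map_sub, map_natCast, hv.2]
  have hm : 1 ≤ m := by have := P.aug_pos _ he; omega
  have hg : gamSeries (1 - v) * (1 + PowerSeries.C (v - 1) * PowerSeries.X) = 1 := by
    rw [← gamSeries_sub_one (lam_one_pos P) (lam_line hv), ← gamSeries_add]
    simp [gamSeries_zero]
  have hinv := mk_neg_pow_mul (v - 1)
  have heq : gamSeries (1 - v) = PowerSeries.mk fun k => (-(v - 1)) ^ k := by
    calc gamSeries (1 - v) = gamSeries (1 - v) * ((1 + PowerSeries.C (v - 1) * PowerSeries.X) *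
          PowerSeries.mk fun k => (-(v - 1)) ^ k) := by rw [hinv, mul_one]
      _ = _ := by rw [← mul_assoc, hg, one_mul]
  refine ⟨m, ?_⟩
  have h := congrArg (PowerSeries.coeff m) heq
  rw [coeff_gamSeries, PowerSeries.coeff_mk] at h
  have h0 : gamma m (1 - v) = 0 := by
    have := gamma_pos_vanish he (n := m - 1) (k := m) (by omega) (by omega)
    rw [Nat.cast_sub hm] at this
    rwa [show (m : K) - v - ((m : K) - ((1 : ℕ) : K)) = 1 - v by push_cast; ring] at this
  rw [h0] at h
  have := h.symm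
  rwa [neg_pow, IsUnit.mul_right_eq_zero (IsUnit.pow m isUnit_one.neg)] at this

theorem isNilpotent_line_sub_one {u w : K} (hu : KRR.IsAmpleElt P u) (hw : P.IsLine w) :
    IsNilpotent (w - 1) := by
  obtain ⟨n₀, h₀⟩ := hu.2 (-1)
  obtain ⟨n₁, h₁⟩ := hu.2 (-w)
  have key : ∀ n, n₀ ≤ n → IsNilpotent (u ^ n - 1) := fun n hn => by
    obtain ⟨e, m, he, h⟩ := h₀ n hn
    refine isNilpotent_of_pos (m := m) (isLine_pow hu.1 n) ?_
    rwa [show (m : K) - u ^ n = e by linear_combination h]
  obtain ⟨e, m, he, h⟩ := h₁ (n₀ + n₁) (by omega)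
  have h2 : IsNilpotent (u ^ (n₀ + n₁) * w - 1) := by
    refine isNilpotent_of_pos (m := m) (isLine_mul (isLine_pow hu.1 _) hw) ?_
    rwa [show (m : K) - u ^ (n₀ + n₁) * w = e by linear_combination h]
  have hU : IsUnit (u ^ (n₀ + n₁)) := by
    have := P.isUnit_lam u hu.1.1
    rw [hu.1.2, show (1 : ℤ).toNat = 1 from rfl, LambdaOps.lam_one] at this
    exact this.pow _
  have h3 : IsNilpotent ((u ^ (n₀ + n₁) * w - 1) - (u ^ (n₀ + n₁) - 1)) :=
    Commute.isNilpotent_sub (Commute.all _ _) h2 (key _ (by omega))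
  rw [show (u ^ (n₀ + n₁) * w - 1) - (u ^ (n₀ + n₁) - 1) = u ^ (n₀ + n₁) * (w - 1) by ring] at h3
  obtain ⟨N, hN⟩ := h3
  rw [mul_pow] at hN
  exact ⟨N, (hU.pow N).mul_right_eq_zero.mp hN⟩

/-! ### rational filtration -/

theorem exists_mul_mem_of_adams (hK : HasSplitting K P) {j : ℕ} (hj : 2 ≤ j) (n : ℕ) {x : K}
    (hx : ∃ N : ℕ, 1 ≤ N ∧ (N : K) * (LambdaRing.adams P j x - (j : K) ^ n * x) ∈ gammaFiltration P (n + 1)) :
    ∃ N : ℕ, 1 ≤ N ∧ (N : K) * x ∈ gammaFiltration P n := by
  obtain ⟨M, hM1, hM⟩ := hx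
  suffices H : ∀ i, i ≤ n → ∃ N : ℕ, 1 ≤ N ∧ (N : K) * x ∈ gammaFiltration P i from H n le_rfl
  intro i
  induction i with
  | zero => exact fun _ => ⟨1, le_rfl, by rw [gammaFiltration_zero]; trivial⟩
  | succ i ih =>
    intro hi
    obtain ⟨N, hN1, hN⟩ := ih (by omega)
    have hlt : j ^ i < j ^ n := Nat.pow_lt_pow_right (by omega) (by omega)
    have hc := adams_congr hK j i hN
    rw [show LambdaRing.adams P j ((N : K) * x) = (N : K) * LambdaRing.adams P j x from
      (map_mul (adamsRingHom hK j) _ _).trans (congrArg (· * _) (map_natCast _ _))] at hc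
    refine ⟨M * N * (j ^ n - j ^ i), Nat.one_le_iff_ne_zero.mpr (Nat.mul_ne_zero
      (Nat.mul_ne_zero (by omega) (by omega)) (by omega)), ?_⟩
    have h1 := mul_mem_left' (P := P) _ (M : K) hc
    have h2 := antitone_filtration (show i + 1 ≤ n + 1 by omega) (mul_mem_left' (P := P) _ (N : K) hM)
    have := sub_mem h1 h2
    convert this using 1
    push_cast [Nat.cast_sub hlt.le]
    ring

/-! ### Bott class -/

theorem eHom_bottPoly (j m : ℕ) : eHom (Fin m) m (KRR.bottPoly j m) = KRR.bottSym j m := by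
  rw [eHom, ← MvPolynomial.esymmAlgHom_apply]
  exact congrArg Subtype.val ((MvPolynomial.esymmAlgEquiv (Fin m) ℤ (Fintype.card_fin m)).apply_symm_apply
    ⟨KRR.bottSym j m, KRR.bottSym_isSymmetric j m⟩)

theorem adams_lamAlt (hK : HasSplitting K P) {e : K} (he : e ∈ P.pos) (j : ℕ) :
    LambdaRing.adams P j (KRR.lamAlt P e) = KRR.lamAlt P e * KRR.bott P j e := by
  obtain ⟨L, f, hf, h⟩ := exists_splitting hK [e] (by simpa using he)
  obtain ⟨s, hs, hsum⟩ := h e (by simp)
  have hc : Multiset.card s = (P.aug e).toNat := by rw [← hf.aug_comp, ← hsum, aug_sum_lines hs, Int.toNat_natCast]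
  obtain ⟨g, hg⟩ := exists_family hc
  have hl : ∀ a, L.posStr.IsLine (g a) := fun a => hs _ (by rw [← hg]; exact Multiset.mem_map_of_mem _ (Finset.mem_univ a))
  have hl' : ∀ i, f (LambdaOps.lam i e) = s.esymm i := fun i => by rw [hf.isLambdaHom, ← hsum, lam_lines hs]
  have h1 : f (KRR.lamAlt P e) = MvPolynomial.aeval g (∏ a, (1 - MvPolynomial.X a : MvPolynomial (Fin (P.aug e).toNat) ℤ)) := by
    simp only [KRR.lamAlt, map_sum, map_mul, map_pow, map_neg, map_one, hl']
    rw [show range ((P.aug e).toNat + 1) = range (Multiset.card s + 1) by rw [hc], sum_alt_esymm, ← hg, Multiset.map_map, map_prod]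
    simp only [Function.comp_def, map_sub, map_one, MvPolynomial.aeval_X]
    rfl
  have h2 : f (KRR.bott P j e) = MvPolynomial.aeval g (KRR.bottSym j (P.aug e).toNat) := by
    rw [KRR.bott, map_aeval_int, ← eHom_bottPoly, eHom, MvPolynomial.comp_aeval_apply]
    congr 2
    funext i
    rw [hf.isLambdaHom, aeval_esymm_fin, hg, ← hsum, lam_lines hs]
  apply hf.injective
  rw [map_mul, map_adams hf, h1, h2, adams_aeval_lines g hl, ← map_mul, KRR.bottSym,
    ← Finset.prod_mul_distrib, map_prod, map_prod]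
  refine Finset.prod_congr rfl fun a _ => ?_
  simp [mul_neg_geom_sum]

/-! ### the elementary extension -/

section Ext

open Polynomial

variable {e : K}

theorem extPoly_eq {n : ℕ} (hn : (P.aug e).toNat = n) :
    KRR.extPoly P e = ∑ i ∈ range (n + 1), C (cAlt e i) * X ^ (n - i) := by
  subst hn; rfl

theorem root_relation {n : ℕ} (hn : (P.aug e).toNat = n) :
    ∑ i ∈ range (n + 1), AdjoinRoot.of (KRR.extPoly P e) (cAlt e i)
      * AdjoinRoot.root (KRR.extPoly P e) ^ (n - i) = 0 := by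
  have h := AdjoinRoot.eval₂_root (KRR.extPoly P e)
  have h' : (KRR.extPoly P e).eval₂ (AdjoinRoot.of (KRR.extPoly P e)) (AdjoinRoot.root _)
      = (∑ i ∈ range (n + 1), C (cAlt e i) * X ^ (n - i)).eval₂ (AdjoinRoot.of _) (AdjoinRoot.root _) :=
    congrArg _ (extPoly_eq hn)
  rw [h', eval₂_finsetSum] at h
  simpa using h

theorem map_of_mul (f : AdjoinRoot (KRR.extPoly P e) →ₗ[K] K) (c : K) (x : AdjoinRoot (KRR.extPoly P e)) :
    f (AdjoinRoot.of _ c * x) = c * f x := by
  rw [← AdjoinRoot.algebraMap_eq, ← Algebra.smul_def, map_smul, smul_eq_mul]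

theorem functional_pow (he : e ∈ P.pos) {r : ℕ} (hr : P.aug e = r + 1)
    (f : AdjoinRoot (KRR.extPoly P e) →ₗ[K] K)
    (hf : ∀ i : ℕ, i ≤ r → f (AdjoinRoot.root (KRR.extPoly P e) ^ i) = KRR.sigma i e) (i : ℕ) :
    f (AdjoinRoot.root (KRR.extPoly P e) ^ i) = KRR.sigma i e := by
  have hn : (P.aug e).toNat = r + 1 := by omega
  induction i using Nat.strong_induction_on with
  | _ k ih =>
    rcases le_or_gt k r with hk | hk
    · exact hf k hk
    have h1 := congrArg (fun x => f (x * AdjoinRoot.root (KRR.extPoly P e) ^ (k - (r + 1)))) (root_relation hn)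
    simp only [zero_mul, map_zero, Finset.sum_mul, map_sum, mul_assoc, ← pow_add, map_of_mul] at h1
    have h2 := sigma_rec_pos he hn (k := k) (by omega)
    rw [Finset.sum_range_succ'] at h1 h2
    have hsum : ∑ i ∈ range (r + 1), cAlt e (i + 1) * f (AdjoinRoot.root (KRR.extPoly P e) ^ (r + 1 - (i + 1) + (k - (r + 1))))
        = ∑ i ∈ range (r + 1), cAlt e (i + 1) * (if i + 1 ≤ k then KRR.sigma (k - (i + 1)) e else 0) := by
      refine Finset.sum_congr rfl fun i hi => ?_
      have : i < r + 1 := Finset.mem_range.mp hi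
      rw [ih _ (by omega), if_pos (by omega), show r + 1 - (i + 1) + (k - (r + 1)) = k - (i + 1) by omega]
    rw [hsum] at h1
    have h3 : cAlt e 0 = 1 := by simp [cAlt, LambdaOps.lam_zero]
    simp only [h3, one_mul, Nat.zero_le, if_true, Nat.sub_zero] at h1 h2
    rw [show r + 1 + (k - (r + 1)) = k by omega] at h1
    linear_combination h1 - h2

theorem functional_inv_pow (he : e ∈ P.pos) {r : ℕ} (hr : P.aug e = r + 1)
    (f : AdjoinRoot (KRR.extPoly P e) →ₗ[K] K)
    (hf : ∀ i : ℕ, i ≤ r → f (AdjoinRoot.root (KRR.extPoly P e) ^ i) = KRR.sigma i e)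
    (v : AdjoinRoot (KRR.extPoly P e)) (hv : v * AdjoinRoot.root (KRR.extPoly P e) = 1)
    (n : ℕ) (h1 : 1 ≤ n) (h2 : n ≤ r) : f (v ^ n) = 0 := by
  have hn : (P.aug e).toNat = r + 1 := by omega
  set ℓ := AdjoinRoot.root (KRR.extPoly P e) with hℓ
  have hcancel : ∀ a m, m ≤ a → ℓ ^ a * v ^ m = ℓ ^ (a - m) := fun a m h => by
    conv_lhs => rw [← Nat.sub_add_cancel h, pow_add, mul_assoc, ← mul_pow, mul_comm ℓ v, hv, one_pow, mul_one]
  induction n using Nat.strong_induction_on with
  | _ m ih =>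
    have e1 := congrArg (fun x => f (x * v ^ m)) (root_relation hn)
    simp only [zero_mul, map_zero, Finset.sum_mul, map_sum, mul_assoc, map_of_mul] at e1
    have e2 := sigma_rec_pos he hn (k := r + 1 - m) (by omega)
    rw [Finset.sum_range_succ] at e1 e2
    have hsum : ∑ i ∈ range (r + 1), cAlt e i * f (ℓ ^ (r + 1 - i) * v ^ m)
        = ∑ i ∈ range (r + 1), cAlt e i * (if i ≤ r + 1 - m then KRR.sigma (r + 1 - m - i) e else 0) := by
      refine Finset.sum_congr rfl fun i hi => ?_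
      have hi' : i < r + 1 := Finset.mem_range.mp hi
      by_cases hc : i ≤ r + 1 - m
      · rw [if_pos hc, hcancel _ _ (by omega), functional_pow he hr f hf,
          show r + 1 - i - m = r + 1 - m - i by omega]
      · rw [if_neg hc]
        congr 1
        rw [show m = (r + 1 - i) + (m - (r + 1 - i)) by omega, pow_add, ← mul_assoc,
          hcancel _ _ le_rfl, Nat.sub_self, pow_zero, one_mul]
        exact ih _ (by omega) (by omega) (by omega)
    rw [hsum] at e1
    rw [Nat.sub_self, pow_zero, one_mul] at e1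
    rw [if_neg (by omega : ¬ r + 1 ≤ r + 1 - m), mul_zero, add_zero] at e2
    rw [e2, zero_add] at e1
    have hu : IsUnit (cAlt e (r + 1)) := by
      have := P.isUnit_lam e he
      rw [hn] at this
      exact (isUnit_one.neg.pow _).mul this
    exact hu.mul_right_eq_zero.mp e1

theorem lamSeries_sub_root {inst : LambdaOps (AdjoinRoot (KRR.extPoly P e))}
    (hext : ∀ (i : ℕ) (x : K), inst.lam i (AdjoinRoot.of (KRR.extPoly P e) x)
      = AdjoinRoot.of (KRR.extPoly P e) (LambdaOps.lam i x))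
    (hroot : ∀ i : ℕ, 2 ≤ i → inst.lam i (AdjoinRoot.root (KRR.extPoly P e)) = 0) (i : ℕ) :
    inst.lam i (AdjoinRoot.of (KRR.extPoly P e) e - AdjoinRoot.root (KRR.extPoly P e)) =
      ∑ k ∈ range (i + 1), AdjoinRoot.of (KRR.extPoly P e) (LambdaOps.lam k e)
        * (-AdjoinRoot.root (KRR.extPoly P e)) ^ (i - k) := by
  letI := inst
  set ℓ := AdjoinRoot.root (KRR.extPoly P e)
  have h1 : lamSeries (AdjoinRoot.of (KRR.extPoly P e) e - ℓ) * (1 + PowerSeries.C ℓ * PowerSeries.X)
      = PowerSeries.map (AdjoinRoot.of (KRR.extPoly P e)) (lamSeries e) := by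
    rw [← lamSeries_linear hroot, ← lamSeries_add, sub_add_cancel]
    ext k
    rw [PowerSeries.coeff_map, coeff_lamSeries, coeff_lamSeries]
    exact hext k e
  have h2 : lamSeries (AdjoinRoot.of (KRR.extPoly P e) e - ℓ)
      = PowerSeries.map (AdjoinRoot.of (KRR.extPoly P e)) (lamSeries e) * PowerSeries.mk fun n => (-ℓ) ^ n := by
    rw [← h1, mul_assoc, mk_neg_pow_mul, mul_one]
  have h3 := congrArg (PowerSeries.coeff i) h2
  rw [coeff_lamSeries, PowerSeries.coeff_mul, Finset.Nat.sum_antidiagonal_eq_sum_range_succ_mk] at h3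
  simp only [PowerSeries.coeff_map, coeff_lamSeries, PowerSeries.coeff_mk] at h3
  exact h3

theorem functional_lam_sub_root (he : e ∈ P.pos) {r : ℕ} (hr : P.aug e = r + 1)
    {inst : LambdaOps (AdjoinRoot (KRR.extPoly P e))}
    (hext : ∀ (i : ℕ) (x : K), inst.lam i (AdjoinRoot.of (KRR.extPoly P e) x)
      = AdjoinRoot.of (KRR.extPoly P e) (LambdaOps.lam i x))
    (hroot : ∀ i : ℕ, 2 ≤ i → inst.lam i (AdjoinRoot.root (KRR.extPoly P e)) = 0)
    (f : AdjoinRoot (KRR.extPoly P e) →ₗ[K] K)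
    (hf : ∀ i : ℕ, i ≤ r → f (AdjoinRoot.root (KRR.extPoly P e) ^ i) = KRR.sigma i e) (i : ℕ) :
    f (inst.lam i (AdjoinRoot.of (KRR.extPoly P e) e - AdjoinRoot.root (KRR.extPoly P e))) =
      if i = 0 then 1 else 0 := by
  rw [lamSeries_sub_root hext hroot, map_sum]
  have h : ∀ k ∈ range (i + 1), f (AdjoinRoot.of (KRR.extPoly P e) (LambdaOps.lam k e)
      * (-AdjoinRoot.root (KRR.extPoly P e)) ^ (i - k)) = (-1 : K) ^ i * (cAlt e k * KRR.sigma (i - k) e) := by
    intro k hk
    have hk' : k ≤ i := by simpa [Nat.lt_succ_iff] using hk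
    rw [neg_pow, show ((-1 : AdjoinRoot (KRR.extPoly P e)) ^ (i - k)) = AdjoinRoot.of _ ((-1) ^ (i - k)) by simp,
      map_of_mul, map_of_mul, functional_pow he hr f hf, cAlt,
      show (-1 : K) ^ i = (-1) ^ k * (-1) ^ (i - k) by rw [← pow_add]; congr 1; omega]
    have : ((-1 : K) ^ k) * (-1) ^ k = 1 := by rw [← mul_pow]; simp
    linear_combination -(LambdaOps.lam k e * (-1) ^ (i - k) * KRR.sigma (i - k) e) * this
  rw [Finset.sum_congr rfl h, ← Finset.mul_sum, sigma_rec]
  split
  · next h => subst h; simp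
  · simp

theorem mem_annihilator_one_sub_root (he : e ∈ P.pos) {r : ℕ} (hr : P.aug e = r + 1)
    {inst : LambdaOps (AdjoinRoot (KRR.extPoly P e))} (Pc : @PosStructure _ _ inst)
    (hext : ∀ (i : ℕ) (x : K), inst.lam i (AdjoinRoot.of (KRR.extPoly P e) x)
      = AdjoinRoot.of (KRR.extPoly P e) (LambdaOps.lam i x))
    (hroot : ∀ i : ℕ, 2 ≤ i → inst.lam i (AdjoinRoot.root (KRR.extPoly P e)) = 0)
    (haug : Pc.aug (AdjoinRoot.of (KRR.extPoly P e) e - AdjoinRoot.root (KRR.extPoly P e)) = r)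
    (f : AdjoinRoot (KRR.extPoly P e) →ₗ[K] K)
    (hf : ∀ i : ℕ, i ≤ r → f (AdjoinRoot.root (KRR.extPoly P e) ^ i) = KRR.sigma i e)
    (z : AdjoinRoot (KRR.extPoly P e)) (hz : z * (1 - AdjoinRoot.root (KRR.extPoly P e)) = 0) :
    z = AdjoinRoot.of (KRR.extPoly P e) (f z) *
      @KRR.lamAlt _ _ inst Pc (AdjoinRoot.of (KRR.extPoly P e) e - AdjoinRoot.root (KRR.extPoly P e)) := by
  have hn : (P.aug e).toNat = r + 1 := by omega
  haveI : Nontrivial K := P.aug.domain_nontrivial
  obtain ⟨g₀, rfl⟩ := AdjoinRoot.mk_surjective z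
  let G : K[X] := ∑ k ∈ range (r + 1), ∑ j ∈ range (r + 1 - k), C (cAlt e k) * X ^ j
  let s : K := ∑ k ∈ range (r + 1 + 1), cAlt e k
  have hpG : (KRR.extPoly P e) = (X - 1) * G + C s := by
    rw [extPoly_eq hn]
    simp only [G, s, Finset.mul_sum, map_sum]
    rw [Finset.sum_range_succ, Finset.sum_range_succ (fun k => C (cAlt e k)), ← add_assoc,
      ← Finset.sum_add_distrib]
    simp only [Nat.sub_self, pow_zero, mul_one]
    congr 1
    refine Finset.sum_congr rfl fun k _ => ?_
    rw [← Finset.mul_sum, show ∑ i ∈ range (r + 1 - k), (C (cAlt e k) * X ^ i)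
      = C (cAlt e k) * ∑ i ∈ range (r + 1 - k), X ^ i from (Finset.mul_sum _ _ _).symm, mul_left_comm,
      mul_geom_sum]
    ring
  have hpd : (KRR.extPoly P e).natDegree ≤ r + 1 := by
    rw [extPoly_eq hn]
    refine natDegree_sum_le_of_forall_le _ _ fun i _ => ?_
    exact (natDegree_C_mul_X_pow_le _ _).trans (by omega)
  have hpc : (KRR.extPoly P e).coeff (r + 1) = 1 := by
    rw [extPoly_eq hn, finset_sum_coeff, Finset.sum_eq_single 0]
    · simp [cAlt, LambdaOps.lam_zero]
    · intro i hi h0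
      rw [coeff_C_mul_X_pow, if_neg (by simp at hi; omega)]
    · simp
  have hpm : (KRR.extPoly P e).Monic := monic_of_natDegree_le_of_coeff_eq_one _ hpd hpc
  have hpn : (KRR.extPoly P e).natDegree = r + 1 := le_antisymm hpd (le_natDegree_of_ne_zero (by rw [hpc]; exact one_ne_zero))
  have hmk : AdjoinRoot.mk (KRR.extPoly P e) g₀ = AdjoinRoot.mk (KRR.extPoly P e) (g₀ %ₘ (KRR.extPoly P e)) := by
    rw [AdjoinRoot.mk_eq_mk]
    exact ⟨g₀ /ₘ (KRR.extPoly P e), by linear_combination -(modByMonic_add_div g₀ (KRR.extPoly P e))⟩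
  rw [hmk] at hz ⊢
  set g := g₀ %ₘ (KRR.extPoly P e) with hg
  have hgd : g.natDegree < r + 1 := by
    rw [← hpn]
    exact natDegree_modByMonic_lt g₀ hpm (fun h => by rw [h] at hpn; simp at hpn)
  have hdvd : (KRR.extPoly P e) ∣ (X - 1) * g := by
    rw [← AdjoinRoot.mk_eq_zero, map_mul, map_sub, AdjoinRoot.mk_X, map_one]
    linear_combination -hz
  obtain ⟨q, hq⟩ := hdvd
  obtain ⟨c, rfl⟩ : ∃ c, q = C c := by
    rcases eq_or_ne q 0 with rfl | hq0
    · exact ⟨0, by simp⟩
    refine ⟨q.coeff 0, eq_C_of_natDegree_le_zero ?_⟩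
    have h1 := hpm.natDegree_mul' hq0
    have h2 : ((X - 1) * g).natDegree ≤ 1 + g.natDegree :=
      natDegree_mul_le.trans (Nat.add_le_add_right (by rw [← C_1]; exact natDegree_X_sub_C_le 1) _)
    rw [hq, h1] at h2
    omega
  have hcs : c * s = 0 := by
    have := congrArg (Polynomial.eval 1) hq
    simp [hpG] at this
    linear_combination -this
  have hgG : g = C c * G := by
    refine (monic_X_sub_C (1 : K)).isRegular.left ?_
    show (X - C 1) * g = (X - C 1) * (C c * G)
    rw [C_1, hq, hpG]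
    have : C s * C c = 0 := by rw [← C_mul, mul_comm, hcs, C_0]
    linear_combination this
  have hG : AdjoinRoot.mk (KRR.extPoly P e) G = @KRR.lamAlt _ _ inst Pc (AdjoinRoot.of (KRR.extPoly P e) e - AdjoinRoot.root (KRR.extPoly P e)) := by
    simp only [KRR.lamAlt, haug, Int.toNat_natCast, lamSeries_sub_root hext hroot, Finset.mul_sum]
    simp only [G, map_sum, map_mul, map_pow, AdjoinRoot.mk_X, AdjoinRoot.mk_C]
    rw [← sum_sum_sub (fun k j => AdjoinRoot.of (KRR.extPoly P e) (cAlt e k) * AdjoinRoot.root (KRR.extPoly P e) ^ j) (r + 1)]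
    refine Finset.sum_congr rfl fun i _ => Finset.sum_congr rfl fun k hk => ?_
    have hk' : k ≤ i := by simpa [Nat.lt_succ_iff] using hk
    rw [cAlt, map_mul, map_pow, map_neg, map_one, neg_pow (AdjoinRoot.root (KRR.extPoly P e)) (i - k),
      show (-1 : AdjoinRoot (KRR.extPoly P e)) ^ i = (-1) ^ k * (-1) ^ (i - k) by rw [← pow_add]; congr 1; omega]
    have : ((-1 : AdjoinRoot (KRR.extPoly P e)) ^ (i - k)) * (-1) ^ (i - k) = 1 := by rw [← mul_pow]; simp
    linear_combination -((-1 : AdjoinRoot (KRR.extPoly P e)) ^ k * AdjoinRoot.of (KRR.extPoly P e) (LambdaOps.lam k e) * AdjoinRoot.root (KRR.extPoly P e) ^ (i - k)) * this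
  have hfG : f (@KRR.lamAlt _ _ inst Pc (AdjoinRoot.of (KRR.extPoly P e) e - AdjoinRoot.root (KRR.extPoly P e))) = 1 := by
    simp only [KRR.lamAlt, haug, Int.toNat_natCast, map_sum]
    rw [Finset.sum_eq_single 0]
    · simpa using functional_lam_sub_root he hr hext hroot f hf 0
    · intro i _ hi
      rw [show (-1 : AdjoinRoot (KRR.extPoly P e)) ^ i = AdjoinRoot.of (KRR.extPoly P e) ((-1) ^ i) by simp, map_of_mul,
        functional_lam_sub_root he hr hext hroot f hf i, if_neg hi, mul_zero]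
    · simp
  rw [hgG, map_mul, AdjoinRoot.mk_C, hG, map_of_mul, hfG, mul_one]

theorem aug_functional_pow (hK : HasSplitting K P) (he : e ∈ P.pos) {r : ℕ} (hr : P.aug e = r + 1)
    (f : AdjoinRoot (KRR.extPoly P e) →ₗ[K] K)
    (hf : ∀ i : ℕ, i ≤ r → f (AdjoinRoot.root (KRR.extPoly P e) ^ i) = KRR.sigma i e) :
    P.aug (f ((AdjoinRoot.root (KRR.extPoly P e) - 1) ^ r)) = 1 := by
  have hd := congrFun (fwdDiff_iter_choose 0 r) r
  rw [fwdDiff_iter_eq_sum_shift] at hd
  simp only [Nat.choose_zero_right, Nat.cast_one, add_zero, smul_eq_mul, mul_one] at hd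
  rw [sub_eq_add_neg, add_pow, map_sum, map_sum, ← hd]
  refine Finset.sum_congr rfl fun i hi => ?_
  have hi' : i ≤ r := by simpa [Nat.lt_succ_iff] using hi
  rw [show AdjoinRoot.root (KRR.extPoly P e) ^ i * (-1) ^ (r - i) * ((r.choose i : ℕ) : AdjoinRoot (KRR.extPoly P e))
    = AdjoinRoot.of (KRR.extPoly P e) ((-1) ^ (r - i) * ((r.choose i : ℕ) : K)) * AdjoinRoot.root (KRR.extPoly P e) ^ i by
      rw [map_mul, map_pow, map_neg, map_one, map_natCast]; ring,
    map_of_mul, hf i hi', map_mul, map_mul, map_pow, map_neg, map_one, map_natCast, aug_sigma hK he hr,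
    Nat.choose_symm_add]

end Ext

end Groth.Agent.Lam
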