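import Groth.Agent.Lam.Bridge
import Groth.Agent.Lam.GammaFilFree
import Groth.Agent.Lam.KRRBasic

/-!
The γ-filtration of the elementary extension `K[T]/(p_e)`.
-/

universe u v

open Finset Polynomial

namespace Groth.Agent.Lam

open _root_.LambdaRing

attribute [local instance] binomialLambdaOps

variable {K : Type u} [CommRing K] [LambdaOps K] {P : PosStructure K} {e : K}

/-- `p_e` in the variable `X - 1` -/
theorem extPoly_gamma (hK : HasSplitting K P) (he : e ∈ P.pos) {r : ℕ} (hr : P.aug e = r + 1) :
    KRR.extPoly P e = ∑ i ∈ range (r + 2),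
      C ((-1) ^ i * gamma i (e - ((r + 1 : ℕ) : K))) * (X - 1) ^ (r + 1 - i) := by
  have hn : (P.aug e).toNat = r + 1 := by omega
  obtain ⟨L, g, hg, h⟩ := exists_splitting hK [e] (by simpa using he)
  obtain ⟨s, hs, hsum⟩ := h e (by simp)
  have hc : Multiset.card s = r + 1 := by
    have := congrArg L.posStr.aug hsum
    rw [aug_sum_lines hs, hg.aug_comp, hr] at this
    omega
  apply Polynomial.map_injective g hg.injective
  have h1 := Multiset.prod_X_add_C_eq_sum_esymm (s.map fun u => u * (-1 : L.carrier))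
  have h2 := congrArg (fun q : L.carrier[X] => q.comp (X - 1))
    (Multiset.prod_X_add_C_eq_sum_esymm (s.map fun u => (u - 1) * (-1 : L.carrier)))
  simp only [multiset_prod_comp, Multiset.map_map, Function.comp_def, add_comp, X_comp, C_comp, Polynomial.sum_comp,
    mul_comp, pow_comp, Multiset.card_map, hc] at h2
  rw [Multiset.map_map, Multiset.card_map, hc] at h1
  rw [extPoly_eq hn, Polynomial.map_sum, Polynomial.map_sum]
  have e1 : (s.map fun u => (X : L.carrier[X]) - 1 + C ((u - 1) * -1))
      = s.map ((fun t => X + C t) ∘ fun u => u * (-1 : L.carrier)) := by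
    refine Multiset.map_congr rfl fun u _ => ?_
    simp only [Function.comp_apply, map_mul, map_sub, map_neg, map_one]
    ring
  rw [e1, h1] at h2
  refine Eq.trans ?_ (h2.trans ?_)
  · refine Finset.sum_congr rfl fun i _ => ?_
    rw [Polynomial.map_mul, map_C, Polynomial.map_pow, map_X, cAlt, map_mul, map_pow, map_neg, map_one,
      hg.isLambdaHom, ← hsum, lam_lines hs, esymm_map_mul, mul_comm ((-1 : L.carrier) ^ i)]
  · refine Finset.sum_congr rfl fun i _ => ?_
    rw [Polynomial.map_mul, map_C, Polynomial.map_pow, Polynomial.map_sub, map_X, Polynomial.map_one, map_mul,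
      map_pow, map_neg, map_one, map_gamma hg, map_sub, map_natCast, ← hsum, ← hc, gamma_lines hs, hc]
    rw [show (s.map fun u => (u - 1) * (-1 : L.carrier)) = (s.map fun u => u - 1).map fun a => a * -1 by
      rw [Multiset.map_map]; rfl, esymm_map_mul, mul_comm ((-1 : L.carrier) ^ i)]

theorem extFil_eq (hK : HasSplitting K P) (he : e ∈ P.pos) {r : ℕ} (hr : P.aug e = r + 1)
    (inst : LambdaOps (AdjoinRoot (KRR.extPoly P e))) (Pe : @PosStructure _ _ inst)
    (hext : @IsExtension K _ _ _ _ inst P Pe (AdjoinRoot.of (KRR.extPoly P e)))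
    (hroot : ∀ i : ℕ, 2 ≤ i → @LambdaOps.lam _ _ inst i (AdjoinRoot.root (KRR.extPoly P e)) = 0)
    (hline : @PosStructure.IsLine _ _ inst Pe (AdjoinRoot.root (KRR.extPoly P e)))
    (hsplit : @HasSplitting _ _ inst Pe) (k : ℕ) :
    @gammaFiltration _ _ inst Pe k =
      ⨆ i ∈ Finset.range (r + 1), AddSubgroup.map
        ((AddMonoidHom.mulRight ((AdjoinRoot.root (KRR.extPoly P e) - 1) ^ i)).comp
          (AdjoinRoot.of (KRR.extPoly P e)).toAddMonoidHom)
        (gammaFiltration P (k - i)) := by
  set ℓ := AdjoinRoot.root (KRR.extPoly P e) with hℓ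
  set y := ℓ - 1 with hy
  have hB := isSpecial_of_hasSplitting hsplit
  have h1 : ∀ m, 2 ≤ m → gamma m y = 0 := fun m hm => by
    have := gamma_rank_vanish hB.lam_one_eq_zero (N := ℓ) (d := 1) (fun i hi => hroot i hi) hm
    rwa [Nat.cast_one] at this
  have hx : augAlg Pe y = 0 := by rw [augAlg_apply, hy, map_sub, hline.2, map_one, sub_self]
  have hgen : Algebra.adjoin K (Set.range fun j : ℕ => gamma (j + 1) y) = ⊤ := by
    rw [eq_top_iff, ← AdjoinRoot.adjoinRoot_eq_top, Algebra.adjoin_le_iff]
    intro z hz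
    rw [Set.mem_singleton_iff.mp hz, SetLike.mem_coe, show AdjoinRoot.root (KRR.extPoly P e) = y + 1 by rw [hy]; ring]
    refine add_mem (Algebra.subset_adjoin ⟨0, ?_⟩) (one_mem _)
    simp [gamma_one]
  have hF : ∀ z, z ∈ gammaFiltration Pe k ↔ z ∈ freeFil (augAlg P) y k := fun z => by
    rw [mem_gammaFiltration_iff, freeFil_eq (A := K) isBinomial_int (isAug_int hK) hB
      (fun n a => hext.isLambdaHom n a) (isAug_int hsplit) (fun a => hext.aug_comp a) y hx hgen]
  set S : AddSubgroup (AdjoinRoot (KRR.extPoly P e)) := ⨆ i ∈ Finset.range (r + 1), AddSubgroup.map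
        ((AddMonoidHom.mulRight (y ^ i)).comp (AdjoinRoot.of (KRR.extPoly P e)).toAddMonoidHom)
        (gammaFiltration P (k - i)) with hS
  have hrel : ∀ i, r + 1 ≤ i → y ^ i = -∑ t ∈ range (r + 1),
      AdjoinRoot.of (KRR.extPoly P e) ((-1) ^ (t + 1) * gamma (t + 1) (e - ((r + 1 : ℕ) : K))) * y ^ (i - (t + 1)) := by
    intro i hi
    have h0 := congrArg (AdjoinRoot.mk (KRR.extPoly P e)) (extPoly_gamma hK he hr)
    rw [AdjoinRoot.mk_self] at h0
    replace h0 := h0.symm
    simp only [map_sum, map_mul (AdjoinRoot.mk _), map_pow (AdjoinRoot.mk _), map_sub, map_one, AdjoinRoot.mk_C,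
      AdjoinRoot.mk_X] at h0
    rw [Finset.sum_range_succ', pow_zero, gamma_zero, mul_one, map_one, one_mul, Nat.sub_zero] at h0
    rw [show AdjoinRoot.root (KRR.extPoly P e) - 1 = y from rfl] at h0
    have h3 := congrArg (· * y ^ (i - (r + 1))) h0
    simp only [zero_mul, add_mul, Finset.sum_mul, mul_assoc, ← pow_add] at h3
    rw [show r + 1 + (i - (r + 1)) = i by omega] at h3
    rw [eq_neg_iff_add_eq_zero, add_comm, ← h3]
    congr 1
    refine Finset.sum_congr rfl fun t ht => ?_
    have : r + 1 - (t + 1) + (i - (r + 1)) = i - (t + 1) := by simp at ht; omega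
    rw [this]
  have hone : ∀ i, ∀ a ∈ gammaFiltration P (k - i), AdjoinRoot.of (KRR.extPoly P e) a * y ^ i ∈ S := by
    intro i
    induction i using Nat.strong_induction_on with
    | _ i ih =>
      intro a ha
      by_cases hir : i < r + 1
      · exact le_biSup (fun i => AddSubgroup.map
          ((AddMonoidHom.mulRight (y ^ i)).comp (AdjoinRoot.of (KRR.extPoly P e)).toAddMonoidHom)
          (gammaFiltration P (k - i))) (Finset.mem_range.mpr hir) ⟨a, ha, rfl⟩
      · rw [hrel i (by omega), mul_neg, Finset.mul_sum]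
        refine neg_mem (sum_mem fun t ht => ?_)
        rw [← mul_assoc, ← map_mul]
        refine ih _ (by omega) _ (antitone_filtration (m := k - i + (t + 1)) (by simp at ht; omega) ?_)
        refine mul_mem' ha (mul_mem_left' _ _ (gamma_mem ?_ _))
        rw [map_sub, map_natCast, hr]; push_cast; ring
  have hmul : ∀ z, ∀ x ∈ S, z * x ∈ S := by
    have hK' : ∀ c : K, ∀ i, ∀ x ∈ S, AdjoinRoot.of (KRR.extPoly P e) c * ℓ ^ i * x ∈ S := by
      intro c i
      induction i with
      | zero =>
        intro x hxS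
        rw [pow_zero, mul_one]
        refine (iSup₂_le (a := S.comap (AddMonoidHom.mulLeft (AdjoinRoot.of (KRR.extPoly P e) c))) ?_) hxS
        rintro m hm _ ⟨a, ha, rfl⟩
        show AdjoinRoot.of (KRR.extPoly P e) c * (AdjoinRoot.of (KRR.extPoly P e) a * y ^ m) ∈ S
        rw [← mul_assoc, ← map_mul]
        exact hone m _ (mul_mem_left' _ _ ha)
      | succ i ih =>
        intro x hxS
        rw [show AdjoinRoot.of (KRR.extPoly P e) c * ℓ ^ (i + 1) * x
          = AdjoinRoot.of (KRR.extPoly P e) c * ℓ ^ i * (ℓ * x) by ring]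
        refine ih _ ((iSup₂_le (a := S.comap (AddMonoidHom.mulLeft ℓ)) ?_) hxS)
        rintro m hm _ ⟨a, ha, rfl⟩
        show ℓ * (AdjoinRoot.of (KRR.extPoly P e) a * y ^ m) ∈ S
        rw [show ℓ * (AdjoinRoot.of (KRR.extPoly P e) a * y ^ m) = AdjoinRoot.of (KRR.extPoly P e) a * y ^ m
          + AdjoinRoot.of (KRR.extPoly P e) a * y ^ (m + 1) by rw [hy]; ring]
        exact add_mem (hone m a ha) (hone (m + 1) a (antitone_filtration (by omega) ha))
    intro z x hxS
    obtain ⟨q, rfl⟩ := AdjoinRoot.mk_surjective z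
    induction q using Polynomial.induction_on' with
    | add p q hp hq => rw [map_add, add_mul]; exact add_mem hp hq
    | monomial n c =>
      rw [← C_mul_X_pow_eq_monomial, map_mul, map_pow, AdjoinRoot.mk_C, AdjoinRoot.mk_X]
      exact hK' c n x hxS
  ext z
  rw [hF]
  constructor
  · intro hz
    rw [freeFil] at hz
    induction hz using Submodule.span_induction with
    | zero => exact zero_mem _
    | add a b _ _ ha hb => exact add_mem ha hb
    | smul c a _ ha => exact hmul c a ha
    | mem b hb =>
      obtain ⟨f, a, ha, rfl⟩ := hb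
      by_cases hsup : ∃ j ∈ f.support, j ≠ 0
      · obtain ⟨j, hj, hj0⟩ := hsup
        rw [Finsupp.prod, Finset.prod_eq_zero hj (by
          rw [h1 (j + 1) (by omega), zero_pow (Finsupp.mem_support_iff.mp hj)]), mul_zero]
        exact zero_mem _
      · push_neg at hsup
        have hf : f = Finsupp.single 0 (f 0) := by
          ext j
          rcases eq_or_ne j 0 with rfl | hj
          · simp
          · rw [Finsupp.single_eq_of_ne hj]
            by_contra h
            exact hj (hsup j (Finsupp.mem_support_iff.mpr h))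
        rw [hf] at ha ⊢
        rw [Finsupp.sum_single_index (by simp)] at ha
        rw [Finsupp.prod_single_index (by simp), gamma_one, AdjoinRoot.algebraMap_eq]
        refine hone _ a ?_
        rw [mem_gammaFiltration_iff]
        simpa using ha
  · intro hz
    refine (iSup₂_le (a := (freeFil (augAlg P) y k).toAddSubgroup) ?_) hz
    rintro i hi _ ⟨a, ha, rfl⟩
    refine Ideal.subset_span ⟨Finsupp.single 0 i, a, ?_, ?_⟩
    · rw [← mem_gammaFiltration_iff, Finsupp.sum_single_index (by simp)]
      simpa using ha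
    · rw [Finsupp.prod_single_index (by simp), gamma_one]
      rfl

end Groth.Agent.Lam
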