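import Groth.Agent.Lam.SplitRing

/-!
Families of γ-coefficients: universal expressions, split specialisations, weights.
-/

universe u v w

open Finset

namespace Groth.Agent.Lam

open _root_.LambdaRing

/-! ### the substitution inverse to `t/(1-t)` -/

section TLam

variable {R : Type u} [CommRing R]

/-- `t/(1+t)` -/
noncomputable def tLam (R : Type u) [CommRing R] : PowerSeries R :=
  PowerSeries.X * PowerSeries.mk fun n => (-1 : R) ^ n

theorem tLam_mul : tLam R * (1 + PowerSeries.X) = PowerSeries.X := by
  have h := mk_neg_pow_mul (1 : R)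
  rw [map_one, one_mul, mul_comm] at h
  rw [tLam, mul_assoc, h, mul_one]

theorem hasSubst_tLam : PowerSeries.HasSubst (tLam R) :=
  PowerSeries.HasSubst.of_constantCoeff_zero' (by simp [tLam])

theorem tGam_subst_tLam : (tGam R).subst (tLam R) = PowerSeries.X := by
  have h := congrArg (PowerSeries.substAlgHom (R := R) (hasSubst_tLam (R := R))) (tGam_mul_one_sub (K := R))
  rw [map_mul, map_sub, map_one, PowerSeries.substAlgHom_X] at h
  rw [← PowerSeries.coe_substAlgHom (hasSubst_tLam (R := R))]
  have h' := congrArg (· * (1 + PowerSeries.X)) h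
  simp only [mul_assoc, sub_mul, one_mul, tLam_mul, add_sub_cancel_right, mul_one] at h'
  exact h'

theorem map_tLam {S : Type v} [CommRing S] (φ : R →+* S) : PowerSeries.map φ (tLam R) = tLam S := by
  rw [tLam, tLam, map_mul, PowerSeries.map_X]
  congr 1
  refine PowerSeries.ext fun n => ?_
  simp

theorem map_tGam {S : Type v} [CommRing S] (φ : R →+* S) : PowerSeries.map φ (tGam R) = tGam S := by
  refine PowerSeries.ext fun k => ?_
  rw [PowerSeries.coeff_map]
  rw [← pow_one (tGam R), ← pow_one (tGam S), coeff_tGam_pow_succ, coeff_tGam_pow_succ]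
  split <;> simp

theorem lamSeries_eq_subst {A : Type u} [CommRing A] [LambdaOps A] (x : A) :
    lamSeries x = (gamSeries x).subst (tLam A) := by
  rw [gamSeries_eq, PowerSeries.subst_comp_subst_apply hasSubst_tGam hasSubst_tLam, tGam_subst_tLam,
    PowerSeries.X_subst]

end TLam

/-! ### universal expressions -/

section Universal

variable (ι : Type w)

/-- polynomials in the γ-coefficients of a family of elements -/
abbrev GB : Type w := MvPolynomial (ι × ℕ) ℤ

variable {ι}

/-- the generic γ-series -/
noncomputable def genGam (i : ι) : PowerSeries (GB ι) :=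
  PowerSeries.mk fun n => if n = 0 then 1 else MvPolynomial.X (i, n - 1)

/-- the λ-series of a generator -/
noncomputable def serVar (p : ι × ℕ) : PowerSeries (GB ι) :=
  compSer ((genGam p.1).subst (tLam (GB ι)) * (1 + PowerSeries.X) ^ p.2) (p.2 + 1)

/-- the λ-series of a monomial -/
noncomputable def serMon (c : (ι × ℕ) →₀ ℕ) : PowerSeries (GB ι) :=
  c.toMultiset.toList.foldr (fun p acc => mulSer (serVar p) acc) (1 + PowerSeries.X)

theorem constantCoeff_serMon (c : (ι × ℕ) →₀ ℕ) : PowerSeries.constantCoeff (serMon c) = 1 := by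
  unfold serMon
  cases c.toMultiset.toList with
  | nil => simp
  | cons a l => simp [constantCoeff_mulSer]

/-- the λ-series of a universal expression -/
noncomputable def serOf : GB ι →+ Additive (PowerSeries (GB ι))ˣ :=
  ((MvPolynomial.basisMonomials (ι × ℕ) ℤ).constr ℤ fun c =>
    Additive.ofMul (unitOf (serMon c) (constantCoeff_serMon c))).toAddMonoidHom

theorem serOf_monomial (c : (ι × ℕ) →₀ ℕ) :
    serOf (MvPolynomial.monomial c 1 : GB ι) = Additive.ofMul (unitOf (serMon c) (constantCoeff_serMon c)) := by
  show ((MvPolynomial.basisMonomials (ι × ℕ) ℤ).constr ℤ _) _ = _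
  rw [show (MvPolynomial.monomial c 1 : GB ι) = MvPolynomial.basisMonomials (ι × ℕ) ℤ c by
    rw [MvPolynomial.coe_basisMonomials], Module.Basis.constr_basis]

/-- the universal expression for `γ^r` of a universal expression -/
noncomputable def gOp (r : ℕ) (P : GB ι) : GB ι :=
  PowerSeries.coeff r (((serOf P).toMul : PowerSeries (GB ι)).subst (tGam (GB ι)))

/-- the universal expression for `γ^r` of the `i`-th element -/
noncomputable def gVar (i : ι) (r : ℕ) : GB ι := if r = 0 then 1 else MvPolynomial.X (i, r - 1)

/-- the weight of a variable -/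
def wtG (p : ι × ℕ) : ℕ := p.2 + 1

variable {A : Type u} [CommRing A] [LambdaOps A]

/-- evaluation at a family of elements -/
noncomputable def gEval (x : ι → A) : GB ι →ₐ[ℤ] A :=
  MvPolynomial.aeval fun p => gamma (p.2 + 1) (x p.1)

theorem gEval_X (x : ι → A) (p : ι × ℕ) :
    gEval x (MvPolynomial.X p) = gamma (p.2 + 1) (x p.1) := by simp [gEval]

theorem gEval_gVar (x : ι → A) (i : ι) (r : ℕ) : gEval x (gVar i r) = gamma r (x i) := by
  rcases r with _ | r
  · simp [gVar, gamma_zero]
  · simp [gVar, gEval_X]

theorem map_genGam (x : ι → A) (i : ι) :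
    PowerSeries.map (gEval x).toRingHom (genGam i) = gamSeries (x i) := by
  refine PowerSeries.ext fun n => ?_
  rcases n with _ | n
  · simp [genGam, coeff_gamSeries, gamma_zero]
  · simp [genGam, coeff_gamSeries, gEval_X]

theorem map_serVar (hA : IsSpecial A) (x : ι → A) (p : ι × ℕ) :
    PowerSeries.map (gEval x).toRingHom (serVar p) = lamSeries (gamma (p.2 + 1) (x p.1)) := by
  have h : PowerSeries.map (gEval x).toRingHom
      ((genGam p.1).subst (tLam (GB ι)) * (1 + PowerSeries.X) ^ p.2) = lamSeries (x p.1 + (p.2 : A)) := by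
    rw [lamSeries_add, lamSeries_natCast hA.lam_one_eq_zero, lamSeries_eq_subst, ← map_genGam x p.1, map_mul,
      map_pow, map_add, map_one, PowerSeries.map_X]
    congr 1
    refine (PowerSeries.map_subst hasSubst_tLam _).trans ?_
    show PowerSeries.subst (PowerSeries.map (gEval x).toRingHom (tLam (GB ι))) _ = _
    rw [map_tLam]
  rw [serVar, map_compSer, h, ← lamSeries_lam hA, gamma_eq_lam hA.lam_one_eq_zero]
  congr 2
  push_cast
  ring

theorem map_serMon (hA : IsSpecial A) (x : ι → A) (c : (ι × ℕ) →₀ ℕ) :
    PowerSeries.map (gEval x).toRingHom (serMon c) = lamSeries (gEval x (MvPolynomial.monomial c 1)) := by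
  have e : gEval x (MvPolynomial.monomial c 1) = (c.toMultiset.toList.map fun p => gamma (p.2 + 1) (x p.1)).prod := by
    rw [gEval, MvPolynomial.aeval_monomial, map_one, one_mul]
    rw [← Multiset.prod_coe, ← Multiset.map_coe, Multiset.coe_toList, Finsupp.toMultiset_map,
      Finsupp.prod_toMultiset, Finsupp.prod_mapDomain_index (by simp) (by simp [pow_add])]
  rw [e, serMon]
  induction c.toMultiset.toList with
  | nil =>
    simp only [List.foldr_nil, List.map_nil, List.prod_nil, map_add, map_one, PowerSeries.map_X]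
    rw [lamSeries_linear hA.lam_one_eq_zero, map_one, one_mul]
  | cons a l ih =>
    simp only [List.foldr_cons, List.map_cons, List.prod_cons]
    rw [map_mulSer, ih, map_serVar hA, ← lamSeries_mul hA]

/-- the units-valued λ-series -/
noncomputable def lamUnitHom (A : Type u) [CommRing A] [LambdaOps A] : A →+ Additive (PowerSeries A)ˣ :=
  AddMonoidHom.mk' (fun x => Additive.ofMul (unitOf (lamSeries x) (constantCoeff_lamSeries x))) fun x y => by
    apply Additive.toMul.injective
    apply Units.ext
    exact lamSeries_add x y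

theorem map_serOf (hA : IsSpecial A) (x : ι → A) (P : GB ι) :
    PowerSeries.map (gEval x).toRingHom ((serOf P).toMul : PowerSeries (GB ι)) = lamSeries (gEval x P) := by
  let φ : GB ι →+ Additive (PowerSeries A)ˣ :=
    (MonoidHom.toAdditive (Units.map (PowerSeries.map (gEval x).toRingHom).toMonoidHom)).comp serOf
  have : φ = (lamUnitHom A).comp (gEval x).toRingHom.toAddMonoidHom := by
    refine AddMonoidHom.ext fun P => ?_
    induction P using MvPolynomial.induction_on' with
    | monomial c z =>
      have : (MvPolynomial.monomial c z : GB ι) = z • MvPolynomial.monomial c 1 := by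
        rw [MvPolynomial.smul_monomial, smul_eq_mul, mul_one]
      rw [this, map_zsmul, map_zsmul]
      congr 1
      apply Additive.toMul.injective
      apply Units.ext
      show PowerSeries.map (gEval x).toRingHom ((serOf (MvPolynomial.monomial c 1 : GB ι)).toMul : PowerSeries (GB ι))
        = lamSeries (gEval x (MvPolynomial.monomial c 1))
      rw [serOf_monomial]
      exact map_serMon hA x c
    | add p q hp hq => rw [map_add, map_add, hp, hq]
  exact congrArg (fun a : Additive (PowerSeries A)ˣ => ((a.toMul : (PowerSeries A)ˣ) : PowerSeries A))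
    (DFunLike.congr_fun this P)

theorem gEval_gOp (hA : IsSpecial A) (x : ι → A) (r : ℕ) (P : GB ι) :
    gEval x (gOp r P) = gamma r (gEval x P) := by
  have h : PowerSeries.map (gEval x).toRingHom (((serOf P).toMul : PowerSeries (GB ι)).subst (tGam (GB ι)))
      = gamSeries (gEval x P) := by
    rw [gamSeries_eq, ← map_serOf hA]
    refine (PowerSeries.map_subst hasSubst_tGam _).trans ?_
    show PowerSeries.subst (PowerSeries.map (gEval x).toRingHom (tGam (GB ι))) _ = _
    rw [map_tGam]
  rw [← coeff_gamSeries, ← h, PowerSeries.coeff_map]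
  rfl

end Universal

/-! ### split specialisation -/

section Split

variable {ι : Type w}

/-- roots of the split specialisation -/
abbrev Roots (N : ι → ℕ) : Type w := Σ i : ι, Fin (N i)

attribute [local instance] splitOps

/-- the split family: the sum of the roots -/
noncomputable def splitFam (N : ι → ℕ) (i : ι) : SR (Roots N) := ∑ l : Fin (N i), MvPolynomial.X ⟨i, l⟩

theorem splitFam_mem (N : ι → ℕ) (i : ι) : splitFam N i ∈ OI (Roots N) 1 :=
  sum_mem fun _ _ => X_mem_OI _

theorem gamma_splitFam (N : ι → ℕ) (i : ι) (r : ℕ) :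
    gamma r (splitFam N i) = ((Finset.univ : Finset (Fin (N i))).val.map
      fun l => (MvPolynomial.X ⟨i, l⟩ : SR (Roots N))).esymm r := by
  have : gamSeries (splitFam N i) = splitSeries ((Finset.univ : Finset (Fin (N i))).val.map
      fun l => (MvPolynomial.X ⟨i, l⟩ : SR (Roots N))) := by
    rw [splitFam, show (∑ l : Fin (N i), (MvPolynomial.X ⟨i, l⟩ : SR (Roots N))) =
      ((Finset.univ : Finset (Fin (N i))).val.map fun l => (MvPolynomial.X ⟨i, l⟩ : SR (Roots N))).sum from rfl,
      gamSeries_multiset_sum, splitSeries, Multiset.map_map, Multiset.map_map]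
    congr 1
    refine Multiset.map_congr rfl fun l _ => ?_
    refine PowerSeries.ext fun n => ?_
    simp only [Function.comp_apply, coeff_gamSeries, gamma_X]
    rcases n with _ | _ | n <;> simp [PowerSeries.coeff_one, PowerSeries.coeff_X]
  rw [← coeff_gamSeries, this, coeff_splitSeries]

theorem gamma_splitFam_eq_zero (N : ι → ℕ) (i : ι) {r : ℕ} (hr : N i < r) : gamma r (splitFam N i) = 0 := by
  rw [gamma_splitFam, Multiset.esymm, Multiset.powersetCard_eq_empty r (by simpa using hr)]
  simp

/-- the polynomial does not involve coefficients beyond the bounds `N` -/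
def VarsBelow (N : ι → ℕ) (P : GB ι) : Prop := ∀ p ∈ P.vars, p.2 < N p.1

theorem sum_injective {α β α' β' : Type*} {f : α → MvPolynomial α' ℤ} {g : β → MvPolynomial β' ℤ}
    (hf : Function.Injective (MvPolynomial.aeval (fun a => MvPolynomial.map (algebraMap ℤ (MvPolynomial β' ℤ)) (f a)) :
      MvPolynomial α (MvPolynomial β' ℤ) →ₐ[MvPolynomial β' ℤ] MvPolynomial α' (MvPolynomial β' ℤ)))
    (hg : Function.Injective (MvPolynomial.aeval g : MvPolynomial β ℤ →ₐ[ℤ] MvPolynomial β' ℤ)) :
    Function.Injective (MvPolynomial.aeval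
      (Sum.elim (fun a => MvPolynomial.rename Sum.inl (f a)) (fun b => MvPolynomial.rename Sum.inr (g b))) :
      MvPolynomial (α ⊕ β) ℤ →ₐ[ℤ] MvPolynomial (α' ⊕ β') ℤ) := by
  have key : ∀ p, MvPolynomial.sumAlgEquiv ℤ α' β' (MvPolynomial.aeval
      (Sum.elim (fun a => MvPolynomial.rename Sum.inl (f a)) (fun b => MvPolynomial.rename Sum.inr (g b))) p)
      = MvPolynomial.aeval (fun a => MvPolynomial.map (algebraMap ℤ (MvPolynomial β' ℤ)) (f a))
        (MvPolynomial.map (MvPolynomial.aeval g : MvPolynomial β ℤ →ₐ[ℤ] _).toRingHom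
          (MvPolynomial.sumAlgEquiv ℤ α β p)) := by
    intro p
    induction p using MvPolynomial.induction_on with
    | C r => simp
    | add p q hp hq => simp only [map_add, hp, hq]
    | mul_X p i hp =>
      simp only [map_mul, hp]
      congr 1
      rcases i with k | k <;> simp [sumAlgEquiv_rename_inl, sumAlgEquiv_rename_inr]
  intro p q h
  apply (MvPolynomial.sumAlgEquiv ℤ α β).injective
  apply MvPolynomial.map_injective _ hg
  apply hf
  rw [← key, ← key, h]

/-- the row-wise elementary symmetric functions -/
noncomputable def rowVals (N : ι → ℕ) (p : Roots N) : SR (Roots N) :=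
  MvPolynomial.rename (fun l : Fin (N p.1) => (⟨p.1, l⟩ : Roots N))
    (MvPolynomial.esymm (Fin (N p.1)) ℤ ((p.2 : ℕ) + 1))

theorem rows_injective [Fintype ι] (N : ι → ℕ) :
    Function.Injective (MvPolynomial.aeval (rowVals N) : SR (Roots N) →ₐ[ℤ] SR (Roots N)) := by
  classical
  revert N
  refine Fintype.induction_empty_option (P := fun α _ => ∀ N : α → ℕ,
    Function.Injective (MvPolynomial.aeval (rowVals N) : SR (Roots N) →ₐ[ℤ] SR (Roots N))) ?_ ?_ ?_ ι
  · intro α β _ e ih N
    let E : Roots (fun a => N (e a)) ≃ Roots N := Equiv.sigmaCongrLeft (β := fun b => Fin (N b)) e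
    have key : ∀ p : SR (Roots (fun a => N (e a))), MvPolynomial.aeval (rowVals N) (MvPolynomial.rename E p)
        = MvPolynomial.rename E (MvPolynomial.aeval (rowVals (fun a => N (e a))) p) := by
      intro p
      rw [MvPolynomial.aeval_rename, MvPolynomial.comp_aeval_apply]
      congr 2
      funext q
      simp only [Function.comp_apply, rowVals, E, MvPolynomial.rename_rename]
      rfl
    intro p q h
    obtain ⟨p, rfl⟩ := (MvPolynomial.renameEquiv ℤ E).surjective p
    obtain ⟨q, rfl⟩ := (MvPolynomial.renameEquiv ℤ E).surjective q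
    rw [MvPolynomial.renameEquiv_apply, MvPolynomial.renameEquiv_apply, key, key] at h
    exact congrArg _ (ih _ (MvPolynomial.rename_injective E E.injective h))
  · intro N p q h
    have hp : ∀ r : SR (Roots N), MvPolynomial.aeval (rowVals N) r = r := fun r =>
      DFunLike.congr_fun (show (MvPolynomial.aeval (rowVals N) : SR (Roots N) →ₐ[ℤ] _) = AlgHom.id ℤ _ from
        MvPolynomial.algHom_ext fun x => x.1.elim) r
    rwa [hp, hp] at h
  · intro α _ ih N
    let E : Fin (N none) ⊕ Roots (fun a : α => N (some a)) ≃ Roots N :=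
      { toFun := Sum.elim (fun l => ⟨none, l⟩) (fun q => ⟨some q.1, q.2⟩)
        invFun := fun q => match q with
          | ⟨none, l⟩ => Sum.inl l
          | ⟨some a, l⟩ => Sum.inr ⟨a, l⟩
        left_inv := by rintro (l | ⟨a, l⟩) <;> rfl
        right_inv := by rintro ⟨_ | a, l⟩ <;> rfl }
    have hinj := sum_injective (f := fun l : Fin (N none) => MvPolynomial.esymm (Fin (N none)) ℤ ((l : ℕ) + 1))
      (g := rowVals (fun a : α => N (some a))) ?_ (ih _)
    · have key : ∀ p : MvPolynomial (Fin (N none) ⊕ Roots (fun a : α => N (some a))) ℤ, MvPolynomial.aeval (rowVals N) (MvPolynomial.rename E p)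
          = MvPolynomial.rename E (MvPolynomial.aeval (Sum.elim
              (fun l : Fin (N none) => MvPolynomial.rename Sum.inl (MvPolynomial.esymm (Fin (N none)) ℤ ((l : ℕ) + 1)))
              (fun b => MvPolynomial.rename Sum.inr (rowVals (fun a : α => N (some a)) b))) p) := by
        intro p
        rw [MvPolynomial.aeval_rename, MvPolynomial.comp_aeval_apply]
        congr 2
        funext q
        rcases q with l | q
        · simp only [Function.comp_apply, rowVals, Sum.elim_inl, MvPolynomial.rename_rename]
          rfl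
        · simp only [Function.comp_apply, rowVals, Sum.elim_inr, MvPolynomial.rename_rename]
          rfl
      intro p q h
      obtain ⟨p, rfl⟩ := (MvPolynomial.renameEquiv ℤ E).surjective p
      obtain ⟨q, rfl⟩ := (MvPolynomial.renameEquiv ℤ E).surjective q
      rw [MvPolynomial.renameEquiv_apply, MvPolynomial.renameEquiv_apply, key, key] at h
      exact congrArg _ (hinj (MvPolynomial.rename_injective E E.injective h))
    · intro p q h
      refine eHom_injective (R := MvPolynomial (Roots (fun a : α => N (some a))) ℤ) (σ := Fin (N none)) (n := N none)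
        (by simp) ?_
      simpa [eHom, MvPolynomial.map_esymm] using h

/-- the specialisation restricted to roots -/
noncomputable def inRange (N : ι → ℕ) (q : Roots N) : ι × ℕ := (q.1, (q.2 : ℕ))

theorem inRange_injective (N : ι → ℕ) : Function.Injective (inRange N) := by
  rintro ⟨i, l⟩ ⟨i', l'⟩ h
  simp only [inRange, Prod.mk.injEq] at h
  obtain ⟨rfl, h⟩ := h
  rw [Fin.ext h]

theorem gEval_splitFam_rename (N : ι → ℕ) (p : SR (Roots N)) :
    gEval (splitFam N) (MvPolynomial.rename (inRange N) p) = MvPolynomial.aeval (rowVals N) p := by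
  rw [gEval, MvPolynomial.aeval_rename]
  congr 2
  funext q
  simp only [Function.comp_apply, inRange, gamma_splitFam, rowVals]
  rw [MvPolynomial.rename_eq_aeval, MvPolynomial.aeval_esymm_eq_multiset_esymm]
  rfl

theorem exists_inRange (N : ι → ℕ) {P : GB ι} (hP : VarsBelow N P) :
    ∃ p : SR (Roots N), MvPolynomial.rename (inRange N) p = P :=
  MvPolynomial.exists_rename_eq_of_vars_subset_range P (inRange N) (inRange_injective N) fun t ht =>
    ⟨⟨t.1, ⟨t.2, hP t ht⟩⟩, rfl⟩

theorem eq_zero_of_splitFam [Fintype ι] {N : ι → ℕ} {P : GB ι} (hP : VarsBelow N P)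
    (h : gEval (splitFam N) P = 0) : P = 0 := by
  obtain ⟨p, rfl⟩ := exists_inRange N hP
  rw [gEval_splitFam_rename] at h
  rw [rows_injective N (h.trans (map_zero _).symm), map_zero]

theorem isWeightedHomogeneous_splitVal (N : ι → ℕ) (p : ι × ℕ) :
    MvPolynomial.IsWeightedHomogeneous (fun _ : Roots N => (1 : ℕ)) (gamma (p.2 + 1) (splitFam N p.1)) (wtG p) := by
  rw [gamma_splitFam]
  have := isWeightedHomogeneous_multiset_esymm (v := fun _ : Roots N => (1 : ℕ)) (d := 1)
    ((Finset.univ : Finset (Fin (N p.1))).val.map fun l => (MvPolynomial.X ⟨p.1, l⟩ : SR (Roots N)))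
    (fun a ha => by
      obtain ⟨l, -, rfl⟩ := Multiset.mem_map.mp ha
      exact MvPolynomial.isWeightedHomogeneous_X ℤ _ _) (p.2 + 1)
  simpa [wtG] using this

/-- all monomials have weight at least `d` -/
def WtGE (d : ℕ) (P : GB ι) : Prop := ∀ c ∈ P.support, d ≤ Finsupp.weight (wtG (ι := ι)) c

theorem wtGE_of_split [Fintype ι] {N : ι → ℕ} {P : GB ι} (hP : VarsBelow N P) {d : ℕ}
    (h : gEval (splitFam N) P ∈ OI (Roots N) d) : WtGE d P := by
  classical
  have hcomp : ∀ e, e < d → MvPolynomial.weightedHomogeneousComponent (wtG (ι := ι)) e P = 0 := by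
    intro e he
    refine eq_zero_of_splitFam (N := N) (fun p hp => hP p ?_) ?_
    · rw [MvPolynomial.mem_vars] at hp ⊢
      obtain ⟨c, hc, hpc⟩ := hp
      refine ⟨c, ?_, hpc⟩
      rw [MvPolynomial.mem_support_iff, MvPolynomial.coeff_weightedHomogeneousComponent] at hc
      rw [MvPolynomial.mem_support_iff]
      by_contra h0
      rw [h0, ite_self] at hc
      exact hc rfl
    · have hw := weightedHomogeneousComponent_aeval (R := ℤ) (v := fun _ : Roots N => (1 : ℕ))
        (g := fun p : ι × ℕ => gamma (p.2 + 1) (splitFam N p.1)) (w := wtG (ι := ι))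
        (isWeightedHomogeneous_splitVal N) e P
      refine hw.symm.trans ?_
      refine MvPolynomial.ext _ _ fun c => ?_
      rw [MvPolynomial.coeff_weightedHomogeneousComponent, MvPolynomial.coeff_zero]
      split
      · next hc =>
        refine mem_OI.mp h c ?_
        rw [Finsupp.degree_eq_weight_one]
        refine lt_of_eq_of_lt ?_ he
        exact hc
      · rfl
  intro c hc
  by_contra hlt
  have := congrArg (MvPolynomial.coeff c) (hcomp _ (not_le.mp hlt))
  rw [MvPolynomial.coeff_weightedHomogeneousComponent, if_pos rfl, MvPolynomial.coeff_zero] at this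
  exact MvPolynomial.mem_support_iff.mp hc this

theorem exists_bound (P : GB ι) : ∃ M : ℕ, ∀ p ∈ P.vars, p.2 < M :=
  ⟨P.vars.sup Prod.snd + 1, fun _ hp => Nat.lt_succ_of_le (Finset.le_sup (f := Prod.snd) hp)⟩

/-- kill the coefficients beyond the bounds -/
noncomputable def cutVars (N : ι → WithTop ℕ) : GB ι →ₐ[ℤ] GB ι :=
  open Classical in MvPolynomial.aeval fun p => if (p.2 : WithTop ℕ) < N p.1 then MvPolynomial.X p else 0

theorem gEval_cutVars {A : Type u} [CommRing A] [LambdaOps A] {N : ι → WithTop ℕ} {x : ι → A}
    (hx : ∀ i (k : ℕ), N i < (k : WithTop ℕ) → gamma k (x i) = 0) (P : GB ι) :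
    gEval x (cutVars N P) = gEval x P := by
  classical
  rw [cutVars, MvPolynomial.comp_aeval_apply, gEval]
  congr 2
  funext p
  split
  · simp
  · next h =>
    rw [map_zero]
    refine (hx _ _ ?_).symm
    exact lt_of_le_of_lt (not_lt.mp h) (by exact_mod_cast Nat.lt_succ_self _)

theorem vars_cutVars {N : ι → WithTop ℕ} {P : GB ι} {p : ι × ℕ} (hp : p ∈ (cutVars N P).vars) :
    (p.2 : WithTop ℕ) < N p.1 := by
  classical
  let s : Set (ι × ℕ) := {q | (q.2 : WithTop ℕ) < N q.1}
  have hrange : ∀ Q : GB ι, cutVars N Q ∈ (MvPolynomial.supported ℤ s) := fun Q => by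
    induction Q using MvPolynomial.induction_on with
    | C r => rw [MvPolynomial.algHom_C]; exact Subalgebra.algebraMap_mem _ r
    | add a b ha hb => rw [map_add]; exact add_mem ha hb
    | mul_X a q ha =>
      rw [map_mul]
      refine mul_mem ha ?_
      rw [cutVars, MvPolynomial.aeval_X]
      split
      · next h => exact MvPolynomial.X_mem_supported.mpr h
      · exact zero_mem _
  exact MvPolynomial.mem_supported.mp (hrange P) hp

end Split

end Groth.Agent.Lam
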