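import Groth.Agent.Lam.Family
import Mathlib.RingTheory.Binomial
import Mathlib.Algebra.MvPolynomial.CommRing

/-!
The γ-filtration of an augmented special λ-algebra over a binomial ring.
-/

universe u v w

open Finset

namespace Groth.Agent.Lam

open _root_.LambdaRing

/-! ### multiplication by scalars -/

section Scalar

variable {K : Type u} [CommRing K] [BinomialRing K]

/-- `(1+t)^c` -/
noncomputable def binS (c : K) : PowerSeries K := PowerSeries.mk fun n => Ring.choose c n

/-- `F^c` for a series `F` with constant coefficient one -/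
noncomputable def powU {R : Type v} [CommRing R] [Algebra K R] (c : K) (F : PowerSeries R) : PowerSeries R :=
  (PowerSeries.map (algebraMap K R) (binS c)).subst (F - 1)

theorem constantCoeff_binS (c : K) : PowerSeries.constantCoeff (binS c) = 1 := by
  rw [← PowerSeries.coeff_zero_eq_constantCoeff_apply, binS, PowerSeries.coeff_mk, Ring.choose_zero_right]

theorem derivative_binS (c : K) :
    PowerSeries.derivative K (binS c) * (1 + PowerSeries.X) = PowerSeries.C c * binS c := by
  ext n
  have hstep : ∀ m : ℕ, Ring.choose c (m + 1) * ((m : K) + 1) = Ring.choose c m * (c - (m : K)) := by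
    intro m
    letI : IsAddTorsionFree K := BinomialRing.toIsAddTorsionFree
    apply nsmul_right_injective m.factorial_ne_zero
    show m.factorial • (_ : K) = m.factorial • (_ : K)
    have a := Ring.descPochhammer_eq_factorial_smul_choose c (m + 1)
    have b := Ring.descPochhammer_eq_factorial_smul_choose c m
    rw [descPochhammer_succ_right, Polynomial.smeval_mul, Polynomial.smeval_sub, Polynomial.smeval_X,
      Polynomial.smeval_natCast, b, Nat.factorial_succ] at a
    simp only [nsmul_eq_mul, npow_one, npow_zero, mul_one, Nat.cast_mul, Nat.cast_succ] at a ⊢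
    linear_combination -a
  rw [mul_add, mul_one, map_add, PowerSeries.coeff_C_mul, PowerSeries.coeff_derivative, binS, PowerSeries.coeff_mk,
    PowerSeries.coeff_mk, hstep]
  rcases n with _ | n
  · rw [PowerSeries.coeff_zero_mul_X]
    simp [mul_comm]
  · rw [PowerSeries.coeff_succ_mul_X, PowerSeries.coeff_derivative, PowerSeries.coeff_mk, hstep]
    rw [← hstep n]
    push_cast
    linear_combination

theorem psOp_binS (c : K) (k : ℕ) : psOp (binS c) k = c := by
  have h2 := mk_neg_pow_mul (1 : K)
  rw [map_one, one_mul] at h2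
  have h : logD (binS c) = PowerSeries.C c * (PowerSeries.mk fun n => (-1 : K) ^ n) := by
    refine logD_eq_of_mul (constantCoeff_binS c) ?_
    calc PowerSeries.C c * (PowerSeries.mk fun n => (-1 : K) ^ n) * binS c
        = (PowerSeries.C c * binS c) * (PowerSeries.mk fun n => (-1 : K) ^ n) := by ring
      _ = _ := by rw [← derivative_binS, mul_assoc, h2, mul_one]
  rw [psOp, h, PowerSeries.coeff_C_mul, PowerSeries.coeff_mk, mul_left_comm, ← mul_pow]
  simp

variable {R : Type v} [CommRing R] [Algebra K R]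

theorem hasSubst_sub_one {F : PowerSeries R} (hF : PowerSeries.constantCoeff F = 1) :
    PowerSeries.HasSubst (F - 1) :=
  PowerSeries.HasSubst.of_constantCoeff_zero' (by rw [map_sub, hF, map_one, sub_self])

theorem constantCoeff_powU (c : K) {F : PowerSeries R} (hF : PowerSeries.constantCoeff F = 1) :
    PowerSeries.constantCoeff (powU c F) = 1 := by
  rw [← PowerSeries.coeff_zero_eq_constantCoeff_apply, powU, PowerSeries.coeff_subst' (hasSubst_sub_one hF),
    finsum_eq_single _ 0]
  · simp [binS]
  · intro j hj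
    rw [PowerSeries.coeff_zero_eq_constantCoeff_apply, map_pow, map_sub, hF, map_one, sub_self, zero_pow hj,
      smul_zero]

theorem psOp_powU (c : K) {F : PowerSeries R} (hF : PowerSeries.constantCoeff F = 1) (k : ℕ) :
    psOp (powU c F) k = algebraMap K R c * psOp F k := by
  have hs := hasSubst_sub_one hF
  have hB : PowerSeries.derivative R (PowerSeries.map (algebraMap K R) (binS c)) * (1 + PowerSeries.X)
      = PowerSeries.C (algebraMap K R c) * PowerSeries.map (algebraMap K R) (binS c) := by
    rw [← PowerSeries.map_C, ← map_mul, ← derivative_binS, map_mul, map_add, map_one, PowerSeries.map_X]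
    congr 1
    refine PowerSeries.ext fun n => ?_
    simp [PowerSeries.coeff_derivative]
  have hB' := congrArg (PowerSeries.substAlgHom (R := R) hs) hB
  rw [map_mul, map_mul, map_add, map_one, PowerSeries.substAlgHom_X, add_sub_cancel] at hB'
  rw [show PowerSeries.substAlgHom (R := R) hs (PowerSeries.C (algebraMap K R c)) = PowerSeries.C (algebraMap K R c)
    from ((PowerSeries.substAlgHom (R := R) hs).commutes _).trans (by simp)] at hB'
  rw [PowerSeries.coe_substAlgHom] at hB'
  have hL : logD (powU c F) = PowerSeries.C (algebraMap K R c) * logD F := by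
    refine logD_eq_of_mul (constantCoeff_powU c hF) ?_
    rw [powU, PowerSeries.derivative_subst hs]
    have e : PowerSeries.derivative R (F - 1) = logD F * F := by
      rw [logD_mul_self hF, map_sub, PowerSeries.derivative_one, sub_zero]
    rw [e, mul_right_comm, ← hB']
    ring
  rw [psOp, psOp, hL, PowerSeries.coeff_C_mul]
  ring

theorem map_powU {S : Type w} [CommRing S] [Algebra K S] (φ : R →ₐ[K] S) (c : K) {F : PowerSeries R}
    (hF : PowerSeries.constantCoeff F = 1) :
    PowerSeries.map φ.toRingHom (powU c F) = powU c (PowerSeries.map φ.toRingHom F) := by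
  refine (PowerSeries.map_subst (hasSubst_sub_one hF) _).trans ?_
  show PowerSeries.subst (PowerSeries.map φ.toRingHom (F - 1)) _ = _
  rw [map_sub, map_one, powU]
  congr 1
  refine PowerSeries.ext fun n => ?_
  simp

variable [LambdaOps K] {A : Type v} [CommRing A] [LambdaOps A] [Algebra K A]

theorem lamSeries_scalar_mul (hKb : IsBinomial K) (hA : IsSpecial A) (hAlg : IsLambdaAlg K A) (c : K) (x : A) :
    lamSeries (algebraMap K A c * x) = powU c (lamSeries x) := by
  letI : IsAddTorsionFree K := BinomialRing.toIsAddTorsionFree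
  haveI : IsAddTorsionFree (MvPolynomial ℕ K) := ⟨fun n hn a b h => MvPolynomial.ext _ _ fun m =>
    nsmul_right_injective hn (by
      have h' : n • a = n • b := h
      have := congrArg (MvPolynomial.coeff m) h'
      rwa [MvPolynomial.coeff_smul, MvPolynomial.coeff_smul] at this)⟩
  let F : PowerSeries (MvPolynomial ℕ K) := PowerSeries.mk fun n => if n = 0 then 1 else MvPolynomial.X (n - 1)
  have hF : PowerSeries.constantCoeff F = 1 := by
    rw [← PowerSeries.coeff_zero_eq_constantCoeff_apply, PowerSeries.coeff_mk, if_pos rfl]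
  have key : mulSer (PowerSeries.map (algebraMap K (MvPolynomial ℕ K)) (binS c)) F = powU c F :=
    eq_of_psOp_eq (constantCoeff_mulSer _ _) (constantCoeff_powU c hF) fun k => by
      rw [psOp_mulSer (constantCoeff_map_one _ (constantCoeff_binS c)) hF, psOp_powU c hF,
        ← map_psOp _ (constantCoeff_binS c), psOp_binS]
  let φ : MvPolynomial ℕ K →ₐ[K] A := MvPolynomial.aeval (cf (lamSeries x))
  have hφ : PowerSeries.map φ.toRingHom F = lamSeries x := by
    refine PowerSeries.ext fun n => ?_
    rcases n with _ | n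
    · simp [F, φ, coeff_lamSeries, LambdaOps.lam_zero]
    · simp [F, φ, coeff_lamSeries, cf]
  have hc : lamSeries (algebraMap K A c) = PowerSeries.map (algebraMap K A) (binS c) := by
    refine PowerSeries.ext fun n => ?_
    rw [coeff_lamSeries, PowerSeries.coeff_map, binS, PowerSeries.coeff_mk, ← hKb, hAlg]
  have h := congrArg (PowerSeries.map φ.toRingHom) key
  rw [map_mulSer, map_powU φ c hF, hφ] at h
  rw [lamSeries_mul hA, hc, ← h]
  congr 1
  refine PowerSeries.ext fun n => ?_
  simp

theorem gamSeries_scalar_mul (hKb : IsBinomial K) (hA : IsSpecial A) (hAlg : IsLambdaAlg K A) (c : K) (x : A) :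
    gamSeries (algebraMap K A c * x)
      = (PowerSeries.map (algebraMap K A) (binS c)).subst (gamSeries x - 1) := by
  rw [gamSeries_eq, lamSeries_scalar_mul hKb hA hAlg, powU,
    PowerSeries.subst_comp_subst_apply (hasSubst_sub_one (constantCoeff_lamSeries x)) hasSubst_tGam]
  congr 1
  rw [gamSeries_eq, ← PowerSeries.coe_substAlgHom hasSubst_tGam, map_sub, map_one]

theorem gamma_scalar_mul (hKb : IsBinomial K) (hA : IsSpecial A) (hAlg : IsLambdaAlg K A) (c : K) (x : A) (a : ℕ) :
    gamma a (algebraMap K A c * x)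
      = ∑ j ∈ range (a + 1), algebraMap K A (Ring.choose c j) * PowerSeries.coeff a ((gamSeries x - 1) ^ j) := by
  have h0 : PowerSeries.constantCoeff (gamSeries x) = 1 := by
    rw [← PowerSeries.coeff_zero_eq_constantCoeff_apply, coeff_gamSeries, gamma_zero]
  rw [← coeff_gamSeries, gamSeries_scalar_mul hKb hA hAlg, PowerSeries.coeff_subst' (hasSubst_sub_one h0),
    finsum_eq_sum_of_support_subset _ (s := range (a + 1)) ?_]
  · simp [binS]
  · intro j hj
    simp only [Function.mem_support, smul_eq_mul, ne_eq] at hj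
    simp only [Finset.coe_range, Set.mem_Iio]
    by_contra hja
    apply hj
    rw [PowerSeries.coeff_of_lt_order a, mul_zero]
    refine lt_of_lt_of_le (show (a : ℕ∞) < (j : ℕ∞) by exact_mod_cast (by omega)) ?_
    exact PowerSeries.le_order_pow_of_constantCoeff_eq_zero j (by rw [map_sub, h0, map_one, sub_self])

end Scalar

/-! ### filtrations by ideals -/

section Fil

variable {A : Type u} [CommRing A]

/-- a multiplicative filtration by ideals -/
structure IsMulFil (G : ℕ → Ideal A) : Prop where
  top : G 0 = ⊤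
  anti : ∀ {a b : ℕ}, a ≤ b → G b ≤ G a
  mul_mem : ∀ {a b : ℕ} {x y : A}, x ∈ G a → y ∈ G b → x * y ∈ G (a + b)

theorem IsMulFil.pow_mem {G : ℕ → Ideal A} (hG : IsMulFil G) {a : ℕ} {x : A} (hx : x ∈ G a) (k : ℕ) :
    x ^ k ∈ G (k * a) := by
  induction k with
  | zero => rw [Nat.zero_mul, hG.top]; trivial
  | succ k ih => rw [pow_succ, Nat.succ_mul]; exact hG.mul_mem ih hx

theorem isMulFil_OI (σ : Type u) : IsMulFil (OI σ) := ⟨OI_zero, OI_anti, OI_mul⟩

variable [LambdaOps A] {ι : Type w}

theorem gEval_mem {G : ℕ → Ideal A} (hG : IsMulFil G) {x : ι → A}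
    (hx : ∀ i k, gamma (k + 1) (x i) ∈ G (k + 1)) {d : ℕ} {P : GB ι} (hP : WtGE d P) :
    gEval x P ∈ G d := by
  classical
  rw [P.as_sum, map_sum]
  refine sum_mem fun c hc => hG.anti (hP c hc) ?_
  rw [gEval, MvPolynomial.aeval_monomial]
  refine Ideal.mul_mem_left _ _ ?_
  rw [Finsupp.weight_apply]
  clear hc
  induction c using Finsupp.induction with
  | zero => simp [hG.top]
  | single_add k b c hk hb ih =>
    rw [Finsupp.prod_add_index' (fun i => pow_zero _) (fun i a b => pow_add _ a b),
      Finsupp.sum_add_index' (h := fun (i : ι × ℕ) (c : ℕ) => c • wtG i) (fun i => zero_smul ℕ _)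
        (fun i a b => add_smul a b _),
      Finsupp.prod_single_index (h := fun (i : ι × ℕ) (c : ℕ) => gamma (i.2 + 1) (x i.1) ^ c) (pow_zero _),
      Finsupp.sum_single_index (h := fun (i : ι × ℕ) (c : ℕ) => c • wtG i) (zero_smul ℕ _)]
    exact hG.mul_mem (hG.pow_mem (hx k.1 k.2) b) ih

theorem gamma_zero_right {r : ℕ} (hr : 1 ≤ r) : gamma r (0 : A) = 0 := by
  rw [← coeff_gamSeries, gamSeries_zero, PowerSeries.coeff_one, if_neg (by omega)]

end Fil

/-! ### division by `γ^d` of an element of rank `d` -/

section Divide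

attribute [local instance] splitOps

variable {ι : Type w}

open Classical in
/-- bounds: `d` for the distinguished element, none for the others -/
noncomputable def bndTop (v : ι) (d : ℕ) (i : ι) : WithTop ℕ := if i = v then (d : WithTop ℕ) else ⊤

open Classical in
/-- bounds: `d` for the distinguished element, `M` for the others -/
noncomputable def bndNat (v : ι) (d M : ℕ) (i : ι) : ℕ := if i = v then d else M

theorem splitFam_bnd (v : ι) (d M : ℕ) (i : ι) (k : ℕ) (h : bndTop v d i < (k : WithTop ℕ)) :
    gamma k (splitFam (bndNat v d M) i) = 0 := by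
  refine gamma_splitFam_eq_zero _ _ ?_
  unfold bndTop at h
  unfold bndNat
  split at h
  · next hi => rw [if_pos hi]; exact_mod_cast h
  · exact absurd h (not_top_lt)

theorem varsBelow_cut (v : ι) (d : ℕ) {M : ℕ} {P : GB ι} (hM : ∀ p ∈ P.vars, p.2 < M) :
    VarsBelow (bndNat v d M) (cutVars (bndTop v d) P) := by
  classical
  intro p hp
  have h := vars_cutVars hp
  unfold bndTop at h
  unfold bndNat
  split
  · next hi => rw [if_pos hi] at h; exact_mod_cast h
  · next hi =>
    let s : Set (ι × ℕ) := {q | q.2 < M}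
    have hP : P ∈ MvPolynomial.supported ℤ s := MvPolynomial.mem_supported.mpr fun q hq => hM q hq
    have : ∀ Q ∈ MvPolynomial.supported ℤ s, cutVars (bndTop v d) Q ∈ MvPolynomial.supported ℤ s := by
      intro Q hQ
      rw [MvPolynomial.supported_eq_adjoin_X] at hQ
      induction hQ using Algebra.adjoin_induction with
      | mem y hy =>
        obtain ⟨q, hq, rfl⟩ := hy
        rw [cutVars, MvPolynomial.aeval_X]
        split
        · exact MvPolynomial.X_mem_supported.mpr hq
        · exact zero_mem _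
      | algebraMap r => rw [AlgHom.commutes]; exact Subalgebra.algebraMap_mem _ r
      | add a b _ _ ha hb => rw [map_add]; exact add_mem ha hb
      | mul a b _ _ ha hb => rw [map_mul]; exact mul_mem ha hb
    exact MvPolynomial.mem_supported.mp (this P hP) hp

variable [Fintype ι] {A : Type u} [CommRing A] [LambdaOps A]

theorem exists_cut_wtGE (x : ι → A) (v : ι) (d : ℕ) (hv : ∀ k, d < k → gamma k (x v) = 0) (T : GB ι) :
    gEval x (cutVars (bndTop v d) T) = gEval x T := by
  refine gEval_cutVars (fun i k h => ?_) T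
  unfold bndTop at h
  split at h
  · next hi => subst hi; exact hv k (by exact_mod_cast h)
  · exact absurd h not_top_lt

theorem divide (x : ι → A) (v : ι) (d : ℕ) (hv : ∀ k, d < k → gamma k (x v) = 0) (T : GB ι)
    (h1 : 1 ≤ d → ∀ M : ℕ, gEval (splitFam (bndNat v (d - 1) M)) T = 0) :
    ∃ Q : GB ι, gEval x T = gamma d (x v) * gEval x Q ∧
      ∀ l, (∀ M : ℕ, gEval (splitFam (bndNat v d M)) T ∈ OI _ l) → WtGE (l - d) Q := by
  classical
  obtain ⟨M, hM⟩ := exists_bound T
  have hC : ∀ e, VarsBelow (bndNat v e M) (cutVars (bndTop v e) T) := fun e => varsBelow_cut v e hM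
  have hw : ∀ l, (∀ M : ℕ, gEval (splitFam (bndNat v d M)) T ∈ OI _ l) → WtGE l (cutVars (bndTop v d) T) :=
    fun l h => wtGE_of_split (hC d) (by rw [gEval_cutVars (splitFam_bnd v d M)]; exact h M)
  rcases Nat.eq_zero_or_pos d with hd | hd
  · subst hd
    exact ⟨cutVars (bndTop v 0) T, by rw [gamma_zero, one_mul, exists_cut_wtGE x v 0 hv], fun l h => by
      simpa using hw l h⟩
  have h0 : cutVars (bndTop v (d - 1)) T = 0 :=
    eq_zero_of_splitFam (hC (d - 1)) (by rw [gEval_cutVars (splitFam_bnd v (d - 1) M)]; exact h1 hd M)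
  set I : Ideal (GB ι) := Ideal.span {MvPolynomial.X (v, d - 1)} with hI
  have hcongr : (Ideal.Quotient.mk I).comp (cutVars (bndTop v d)).toRingHom
      = (Ideal.Quotient.mk I).comp (cutVars (bndTop v (d - 1))).toRingHom := by
    refine MvPolynomial.ringHom_ext (by simp) fun p => ?_
    simp only [RingHom.comp_apply, AlgHom.toRingHom_eq_coe, RingHom.coe_coe, cutVars, MvPolynomial.aeval_X]
    unfold bndTop
    by_cases hi : p.1 = v
    · rw [if_pos hi, if_pos hi]
      by_cases hp : p.2 = d - 1
      · rw [if_pos (by rw [hp]; exact_mod_cast (by omega : d - 1 < d)),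
          if_neg (by rw [hp]; exact lt_irrefl _), map_zero, Ideal.Quotient.eq_zero_iff_mem, hI]
        exact Ideal.subset_span (by rw [Set.mem_singleton_iff, ← hi, ← hp])
      · by_cases hlt : p.2 < d
        · rw [if_pos (by exact_mod_cast hlt), if_pos (by exact_mod_cast (by omega : p.2 < d - 1))]
        · rw [if_neg (by exact_mod_cast hlt), if_neg (by exact_mod_cast (by omega : ¬ p.2 < d - 1))]
    · rw [if_neg hi, if_neg hi]
  have hmem : cutVars (bndTop v d) T ∈ I := by
    have := DFunLike.congr_fun hcongr T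
    simp only [RingHom.comp_apply, AlgHom.toRingHom_eq_coe, RingHom.coe_coe, h0, map_zero] at this
    exact Ideal.Quotient.eq_zero_iff_mem.mp this
  obtain ⟨Q, hQ⟩ := Ideal.mem_span_singleton.mp hmem
  refine ⟨Q, ?_, fun l h c hc => ?_⟩
  · rw [← exists_cut_wtGE x v d hv T, hQ, map_mul, gEval_X, show d - 1 + 1 = d by omega]
  · have hcmem : Finsupp.single (v, d - 1) 1 + c ∈ (cutVars (bndTop v d) T).support := by
      rw [hQ, MvPolynomial.mem_support_iff, MvPolynomial.coeff_X_mul]
      exact MvPolynomial.mem_support_iff.mp hc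
    have := hw l h _ hcmem
    rw [map_add, Finsupp.weight_single, one_smul, wtG] at this
    simp only at this
    omega

end Divide

/-! ### the γ-filtration by ideals -/

section GammaFil

variable {K : Type u} [CommRing K] [LambdaOps K] [BinomialRing K] {A : Type v} [CommRing A] [LambdaOps A]
  [Algebra K A] {ε : A →ₐ[K] K}

theorem map_gammaAlg {R : Type w} [CommRing R] [LambdaOps R] {S : Type u} [CommRing S] [LambdaOps S]
    (f : R →+* S) (h : ∀ n x, f (LambdaOps.lam n x) = LambdaOps.lam n (f x)) (k : ℕ) (x : R) :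
    f (gamma k x) = gamma k (f x) := by
  simp only [gamma]
  split
  · simp
  · rw [map_sum]
    refine Finset.sum_congr rfl fun j _ => ?_
    rw [map_mul, map_natCast]
    split
    · simp
    · rw [h]

theorem gammaFil_prod_mem (f : A →+* K) {n : ℕ} (l : List (ℕ × A)) (hl : ∀ p ∈ l, f p.2 = 0)
    (hn : n ≤ (l.map Prod.fst).sum) : (l.map fun p => gamma p.1 p.2).prod ∈ gammaFil f n :=
  Ideal.subset_span ⟨l, hl, hn, rfl⟩

theorem isMulFil_gammaFil (f : A →+* K) : IsMulFil (gammaFil f) := by
  refine ⟨?_, ?_, ?_⟩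
  · rw [Ideal.eq_top_iff_one]
    simpa using gammaFil_prod_mem f (n := 0) [] (by simp) (by simp)
  · intro a b hab
    refine Ideal.span_mono ?_
    rintro y ⟨l, hl, hn, rfl⟩
    exact ⟨l, hl, hab.trans hn, rfl⟩
  · intro a b x y hx hy
    have h : gammaFil f a * gammaFil f b ≤ gammaFil f (a + b) := by
      rw [gammaFil, gammaFil, Ideal.span_mul_span', Ideal.span_le]
      rintro _ ⟨p, ⟨l, hl, hn, rfl⟩, q, ⟨l', hl', hn', rfl⟩, rfl⟩
      refine Ideal.subset_span ⟨l ++ l', fun r hr => (List.mem_append.mp hr).elim (hl r) (hl' r), ?_, ?_⟩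
      · simp only [List.map_append, List.sum_append]; omega
      · simp only [List.map_append, List.prod_append]
    exact h (Ideal.mul_mem_mul hx hy)

theorem gamma_mem_gammaFil (f : A →+* K) {x : A} (hx : f x = 0) (r : ℕ) : gamma r x ∈ gammaFil f r := by
  simpa using gammaFil_prod_mem f (n := r) [(r, x)] (by simpa using hx) (by simp)

variable (ε) in
/-- the values of `γ^a` allowed on multiples of `L` -/
noncomputable def Jset (L : A) (d i a : ℕ) : Ideal A :=
  Ideal.span {L} * (gammaFil (ε : A →+* K) (a - d) ⊓ gammaFil (ε : A →+* K) i)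

/-- the leading coefficient -/
def kap (A : Type v) [CommRing A] (p : ℕ) : A := (-1 : A) ^ (p - 1) * ((p - 1).factorial : A)

variable (ε) in
/-- the main property -/
def MainProp (L : A) (d i : ℕ) (z : A) : Prop :=
  (∀ a, 1 ≤ a → gamma a (z * L) ∈ Jset ε L d i a) ∧
    gamma (d + i) (z * L) - kap A (d + i) * (z * L) ∈ Ideal.span {L} * gammaFil (ε : A →+* K) (i + 1)

variable {L : A} {d i : ℕ}

theorem jset_mul (hL : L ∈ gammaFil (ε : A →+* K) d) (hdi : 1 ≤ d + i) {a b : ℕ}
    {x y : A} (hx : x ∈ Jset ε L d i a) (hy : y ∈ Jset ε L d i b) :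
    x * y ∈ Jset ε L d i (a + b) ∧ x * y ∈ Ideal.span {L} * gammaFil (ε : A →+* K) (i + 1) := by
  obtain ⟨q, ⟨hq1, hq2⟩, rfl⟩ := Ideal.mem_span_singleton_mul.mp hx
  obtain ⟨q', ⟨hq1', hq2'⟩, rfl⟩ := Ideal.mem_span_singleton_mul.mp hy
  have hF := isMulFil_gammaFil (ε : A →+* K)
  rw [show L * q * (L * q') = L * (L * (q * q')) by ring]
  refine ⟨Ideal.mul_mem_mul (Ideal.mem_span_singleton_self L) ⟨?_, ?_⟩,
    Ideal.mul_mem_mul (Ideal.mem_span_singleton_self L) ?_⟩
  · exact hF.anti (by omega) (hF.mul_mem hL (hF.mul_mem hq1 hq1'))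
  · exact hF.anti (by omega) (hF.mul_mem hL (hF.mul_mem hq2 hq2'))
  · exact hF.anti (by omega) (hF.mul_mem hL (hF.mul_mem hq2 hq2'))

theorem mainProp_zero (hdi : 1 ≤ d + i) : MainProp ε L d i 0 := by
  refine ⟨fun a ha => ?_, ?_⟩
  · rw [zero_mul, gamma_zero_right ha]; exact zero_mem _
  · rw [zero_mul, gamma_zero_right hdi, mul_zero, sub_zero]; exact zero_mem _

theorem mainProp_add (hL : L ∈ gammaFil (ε : A →+* K) d) (hdi : 1 ≤ d + i) {z w : A}
    (hz : MainProp ε L d i z) (hw : MainProp ε L d i w) : MainProp ε L d i (z + w) := by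
  have key : ∀ a, 1 ≤ a → ∃ r, gamma a ((z + w) * L) = gamma a (z * L) + gamma a (w * L) + r ∧
      r ∈ Jset ε L d i a ∧ r ∈ Ideal.span {L} * gammaFil (ε : A →+* K) (i + 1) := by
    intro a ha
    refine ⟨∑ k ∈ range (a - 1), gamma (k + 1) (z * L) * gamma (a - (k + 1)) (w * L), ?_, ?_, ?_⟩
    · obtain ⟨a, rfl⟩ : ∃ b, a = b + 1 := ⟨a - 1, by omega⟩
      rw [add_mul, gamma_add', Finset.sum_range_succ', Finset.sum_range_succ]
      simp only [Nat.sub_self, gamma_zero, mul_one, one_mul, Nat.sub_zero, Nat.add_sub_cancel]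
      ring
    · refine sum_mem fun k hk => ?_
      have hk' : k + 1 < a := by simp at hk; omega
      have := (jset_mul hL hdi (hz.1 (k + 1) (by omega)) (hw.1 (a - (k + 1)) (by omega))).1
      rwa [show k + 1 + (a - (k + 1)) = a by omega] at this
    · refine sum_mem fun k hk => ?_
      have hk' : k + 1 < a := by simp at hk; omega
      exact (jset_mul hL hdi (hz.1 (k + 1) (by omega)) (hw.1 (a - (k + 1)) (by omega))).2
  refine ⟨fun a ha => ?_, ?_⟩
  · obtain ⟨r, e, h1, -⟩ := key a ha
    rw [e]
    exact add_mem (add_mem (hz.1 a ha) (hw.1 a ha)) h1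
  · obtain ⟨r, e, -, h2⟩ := key (d + i) hdi
    rw [e]
    convert add_mem (add_mem hz.2 hw.2) h2 using 1
    ring

theorem mainProp_scalar (hKb : IsBinomial K) (hA : IsSpecial A) (hAlg : IsLambdaAlg K A)
    (hL : L ∈ gammaFil (ε : A →+* K) d) (hdi : 1 ≤ d + i) (c : K) {z : A} (hz : MainProp ε L d i z) :
    MainProp ε L d i (algebraMap K A c * z) := by
  have hpow : ∀ j a, PowerSeries.coeff a ((gamSeries (z * L) - 1) ^ (j + 1)) ∈ Jset ε L d i a ∧
      (1 ≤ j → PowerSeries.coeff a ((gamSeries (z * L) - 1) ^ (j + 1))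
        ∈ Ideal.span {L} * gammaFil (ε : A →+* K) (i + 1)) := by
    have h1 : ∀ a, PowerSeries.coeff a (gamSeries (z * L) - 1) ∈ Jset ε L d i a := by
      intro a
      rcases Nat.eq_zero_or_pos a with rfl | ha
      · rw [map_sub, coeff_gamSeries, gamma_zero, PowerSeries.coeff_one, if_pos rfl, sub_self]; exact zero_mem _
      · rw [map_sub, coeff_gamSeries, PowerSeries.coeff_one, if_neg (by omega), sub_zero]
        exact hz.1 a ha
    intro j
    induction j with
    | zero => exact fun a => ⟨by rw [zero_add, pow_one]; exact h1 a, fun h => absurd h (by omega)⟩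
    | succ j ih =>
      intro a
      rw [pow_succ, PowerSeries.coeff_mul]
      refine ⟨sum_mem fun p hp => ?_, fun _ => sum_mem fun p _ => ?_⟩
      · have := (jset_mul hL hdi (ih p.1).1 (h1 p.2)).1
        rwa [Finset.mem_antidiagonal.mp hp] at this
      · exact (jset_mul hL hdi (ih p.1).1 (h1 p.2)).2
  have e : ∀ a, 1 ≤ a → gamma a (algebraMap K A c * z * L)
      = ∑ j ∈ range a, algebraMap K A (Ring.choose c (j + 1)) * PowerSeries.coeff a ((gamSeries (z * L) - 1) ^ (j + 1)) := by
    intro a ha
    rw [mul_assoc, gamma_scalar_mul hKb hA hAlg, Finset.sum_range_succ', pow_zero, PowerSeries.coeff_one,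
      if_neg (by omega), mul_zero, add_zero]
  refine ⟨fun a ha => ?_, ?_⟩
  · rw [e a ha]
    exact sum_mem fun j _ => Ideal.mul_mem_left _ _ (hpow j a).1
  · obtain ⟨p, hp⟩ : ∃ p, d + i = p + 1 := ⟨d + i - 1, by omega⟩
    rw [e _ hdi, hp, Finset.sum_range_succ', zero_add, pow_one, Ring.choose_one_right, map_sub, coeff_gamSeries,
      PowerSeries.coeff_one, if_neg (Nat.succ_ne_zero p), sub_zero]
    have h2 := hz.2
    rw [hp] at h2
    have h3 := Ideal.mul_mem_left (Ideal.span {L} * gammaFil (ε : A →+* K) (i + 1)) (algebraMap K A c) h2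
    have h4 : ∑ j ∈ range p, algebraMap K A (Ring.choose c (j + 1 + 1))
          * PowerSeries.coeff (p + 1) ((gamSeries (z * L) - 1) ^ (j + 1 + 1))
        ∈ Ideal.span {L} * gammaFil (ε : A →+* K) (i + 1) :=
      sum_mem fun j _ => Ideal.mul_mem_left _ _ ((hpow (j + 1) (p + 1)).2 (by omega))
    convert add_mem h4 h3 using 1
    ring

theorem mainProp_univ (hA : IsSpecial A) (hdi : 1 ≤ d + i) {ι : Type w} [Fintype ι] (x : ι → A)
    (hx : ∀ j, ε (x j) = 0) (v : ι) (hv : ∀ k, d < k → gamma k (x v) = 0) {P : GB ι} (hP : WtGE i P) :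
    MainProp ε (gamma d (x v)) d i (gEval x P) := by
  have hxF : ∀ j k, gamma (k + 1) (x j) ∈ gammaFil (ε : A →+* K) (k + 1) :=
    fun j k => gamma_mem_gammaFil _ (hx j) _
  set Pd := P * gVar v d with hPd
  have hPdA : gEval x Pd = gEval x P * gamma d (x v) := by rw [hPd, map_mul, gEval_gVar]
  letI : ∀ N : ι → ℕ, LambdaOps (SR (Roots N)) := fun N => splitOps (Roots N)
  have hzero : 1 ≤ d → ∀ M, gEval (splitFam (bndNat v (d - 1) M)) Pd = 0 := by
    intro hd M
    rw [hPd, map_mul, gEval_gVar, gamma_splitFam_eq_zero, mul_zero]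
    unfold bndNat
    rw [if_pos rfl]
    omega
  have hord : ∀ M, gEval (splitFam (bndNat v d M)) Pd ∈ OI (Roots (bndNat v d M)) (d + i) := by
    intro M
    rw [hPd, map_mul, gEval_gVar, add_comm]
    exact OI_mul (gEval_mem (isMulFil_OI _) (fun j k => gamma_mem_OI_self _ (splitFam_mem _ j)) hP)
      (gamma_mem_OI_self _ (splitFam_mem _ v))
  refine ⟨fun a ha => ?_, ?_⟩
  · obtain ⟨Q, hQ, hQw⟩ := divide x v d hv (gOp a Pd) fun hd M => by
      rw [gEval_gOp isSpecial_split, hzero hd M, gamma_zero_right ha]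
    rw [← hPdA, ← gEval_gOp hA, hQ]
    have hF := isMulFil_gammaFil (ε : A →+* K)
    refine Ideal.mul_mem_mul (Ideal.mem_span_singleton_self _) ⟨?_, ?_⟩
    · refine gEval_mem hF hxF (hQw a fun M => ?_)
      rw [gEval_gOp isSpecial_split]
      exact gamma_mem_OI_self a (OI_anti hdi (hord M))
    · have := gEval_mem hF hxF (hQw (d + i) fun M => by
        rw [gEval_gOp isSpecial_split]; exact gamma_mem_OI ha (hord M))
      rwa [Nat.add_sub_cancel_left] at this
  · obtain ⟨Q, hQ, hQw⟩ := divide x v d hv (gOp (d + i) Pd - kap (GB ι) (d + i) * Pd) fun hd M => by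
      rw [map_sub, map_mul, gEval_gOp isSpecial_split, hzero hd M, gamma_zero_right hdi, mul_zero, sub_zero]
    have e : gEval x (gOp (d + i) Pd - kap (GB ι) (d + i) * Pd)
        = gamma (d + i) (gEval x P * gamma d (x v)) - kap A (d + i) * (gEval x P * gamma d (x v)) := by
      simp only [kap, map_sub, map_mul, map_pow, map_neg, map_one, map_natCast, gEval_gOp hA, hPdA]
    rw [← e, hQ]
    refine Ideal.mul_mem_mul (Ideal.mem_span_singleton_self _) ?_
    have := gEval_mem (isMulFil_gammaFil (ε : A →+* K)) hxF (hQw (d + i + 1) fun M => by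
      have e2 : gEval (splitFam (bndNat v d M)) (gOp (d + i) Pd - kap (GB ι) (d + i) * Pd)
          = gamma (d + i) (gEval (splitFam (bndNat v d M)) Pd)
            - (-1) ^ (d + i - 1) * ((d + i - 1).factorial : SR (Roots (bndNat v d M))) * gEval (splitFam (bndNat v d M)) Pd := by
        simp only [kap, map_sub, map_mul, map_pow, map_neg, map_one, map_natCast, gEval_gOp isSpecial_split]
      rw [e2]
      exact gamma_congr_OI hdi (hord M))
    rwa [show d + i + 1 - d = i + 1 by omega] at this

theorem wtGE_gVar {ι : Type w} (j : ι) (r : ℕ) : WtGE r (gVar j r : GB ι) := by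
  intro c hc
  rcases r with _ | r
  · exact Nat.zero_le _
  · simp only [gVar, if_neg (Nat.succ_ne_zero r), Nat.add_sub_cancel, MvPolynomial.support_X,
      Finset.mem_singleton] at hc
    subst hc
    simp [Finsupp.weight_single, wtG]

theorem wtGE_mul {ι : Type w} {a b : ℕ} {P Q : GB ι} (hP : WtGE a P) (hQ : WtGE b Q) : WtGE (a + b) (P * Q) := by
  classical
  intro c hc
  obtain ⟨c₁, h₁, c₂, h₂, rfl⟩ := Finset.mem_add.mp (MvPolynomial.support_mul P Q hc)
  rw [map_add]
  exact add_le_add (hP c₁ h₁) (hQ c₂ h₂)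

theorem wtGE_prod {ι : Type w} {k : ℕ} (f : Fin k → GB ι) (r : Fin k → ℕ) (h : ∀ j, WtGE (r j) (f j)) :
    WtGE (∑ j, r j) (∏ j, f j) := by
  induction k with
  | zero => intro c _; simp
  | succ k ih =>
    rw [Fin.sum_univ_succ, Fin.prod_univ_succ]
    exact wtGE_mul (h 0) (ih _ _ fun j => h j.succ)

/-- The main theorem: `γ^a` of `z · γ^d(v)` for `z` in the `i`-th step, `v` of rank `d`. -/
theorem mainProp_of_mem (hKb : IsBinomial K) (hA : IsSpecial A) (hε : IsAugLambdaAlg K A ε)
    (hdi : 1 ≤ d + i) {v : A} (hv0 : ε v = 0) (hv : ∀ k, d < k → gamma k v = 0) {z : A}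
    (hz : z ∈ gammaFil (ε : A →+* K) i) : MainProp ε (gamma d v) d i z := by
  have hL : gamma d v ∈ gammaFil (ε : A →+* K) d := gamma_mem_gammaFil _ hv0 _
  suffices H : ∀ s, MainProp ε (gamma d v) d i (s * z) by simpa using H 1
  induction hz using Submodule.span_induction with
  | mem y hy =>
    obtain ⟨l, hl, hn, rfl⟩ := hy
    intro s
    let x : Option (Option (Fin l.length)) → A :=
      fun o => match o with
      | none => v
      | some none => s - algebraMap K A (ε s)
      | some (some j) => (l.get j).2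
    have hx : ∀ o, ε (x o) = 0 := by
      rintro (_ | _ | j)
      · exact hv0
      · show ε (s - algebraMap K A (ε s)) = 0
        rw [map_sub, AlgHom.commutes, Algebra.algebraMap_self, RingHom.id_apply, sub_self]
      · exact hl _ (List.get_mem l j)
    let Pl : GB (Option (Option (Fin l.length))) := ∏ j : Fin l.length, gVar (some (some j)) (l.get j).1
    have hPl : WtGE i Pl := by
      have h := wtGE_prod (fun j : Fin l.length => (gVar (some (some j)) (l.get j).1 : GB (Option (Option (Fin l.length)))))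
        (fun j => (l.get j).1) (fun j => wtGE_gVar _ _)
      intro c hc
      refine le_trans ?_ (h c hc)
      refine hn.trans (le_of_eq ?_)
      rw [← List.sum_ofFn]
      congr 1
      exact List.ext_get (by simp) (by simp)
    have hEl : gEval x Pl = (l.map fun p => gamma p.1 p.2).prod := by
      rw [map_prod, ← List.prod_ofFn]
      congr 1
      refine List.ext_get (by simp) fun n h₁ h₂ => ?_
      simp [gEval_gVar, x]
    have h1 := mainProp_univ hA hdi x hx none hv hPl
    have hP' : WtGE i (gVar (some none) 1 * Pl) := fun c hc => by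
      have := wtGE_mul (wtGE_gVar (some none : Option (Option (Fin l.length))) 1) hPl c hc
      omega
    have h2 := mainProp_univ hA hdi x hx none hv hP'
    rw [map_mul, gEval_gVar, gamma_one, hEl] at h2
    rw [hEl] at h1
    have := mainProp_add hL hdi (mainProp_scalar hKb hA hε.isLambdaAlg hL hdi (ε s) h1) h2
    convert this using 1
    show s * _ = algebraMap K A (ε s) * _ + (s - algebraMap K A (ε s)) * _
    ring
  | zero => intro s; rw [mul_zero]; exact mainProp_zero hdi
  | add a b _ _ ha hb => intro s; rw [mul_add]; exact mainProp_add hL hdi (ha s) (hb s)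
  | smul r a _ ha => intro s; rw [smul_eq_mul, ← mul_assoc]; exact ha (s * r)

end GammaFil

end Groth.Agent.Lam
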