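import Groth.Agent.Lam.GammaFilFree
import Mathlib.RingTheory.MvPolynomial.Homogeneous

/-!
Graded class maps of a filtered λ-ring, Chern series and their power sums.
-/

universe u v w

open Finset

namespace Groth.Agent.Lam

open _root_.LambdaRing

/-- a multiplicative filtration with a graded class map -/
structure GrMap (A : Type u) [CommRing A] (T : Type v) [CommRing T] where
  /-- the filtration -/
  G : ℕ → Ideal A
  hG : IsMulFil G
  /-- the class in degree `n` -/
  cls : ℕ → A → T
  cls_add : ∀ {n : ℕ} {x y : A}, x ∈ G n → y ∈ G n → cls n (x + y) = cls n x + cls n y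
  cls_mul : ∀ {a b : ℕ} {x y : A}, x ∈ G a → y ∈ G b → cls (a + b) (x * y) = cls a x * cls b y
  cls_one : cls 0 1 = 1
  cls_succ : ∀ {n : ℕ} {x : A}, x ∈ G (n + 1) → cls n x = 0

namespace GrMap

variable {A : Type u} [CommRing A] {T : Type v} [CommRing T] (g : GrMap A T)

theorem cls_zero (n : ℕ) : g.cls n 0 = 0 := g.cls_succ (zero_mem _)

theorem cls_eq_zero {n m : ℕ} (h : n < m) {x : A} (hx : x ∈ g.G m) : g.cls n x = 0 :=
  g.cls_succ (g.hG.anti h hx)

theorem cls_neg {n : ℕ} {x : A} (hx : x ∈ g.G n) : g.cls n (-x) = -g.cls n x := by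
  have := g.cls_add hx (neg_mem hx)
  rw [add_neg_cancel, g.cls_zero] at this
  exact eq_neg_of_add_eq_zero_right this.symm

theorem cls_sum {ι : Type*} (s : Finset ι) {n : ℕ} (f : ι → A) (hf : ∀ i ∈ s, f i ∈ g.G n) :
    g.cls n (∑ i ∈ s, f i) = ∑ i ∈ s, g.cls n (f i) := by
  classical
  induction s using Finset.induction_on with
  | empty => simp [g.cls_zero]
  | insert a s ha ih =>
    rw [Finset.sum_insert ha, Finset.sum_insert ha,
      g.cls_add (hf a (Finset.mem_insert_self a s)) (sum_mem fun i hi => hf i (Finset.mem_insert_of_mem hi)),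
      ih fun i hi => hf i (Finset.mem_insert_of_mem hi)]

theorem mem_zero (x : A) : x ∈ g.G 0 := by rw [g.hG.top]; trivial

/-- the class in degree `0` is a ring map -/
noncomputable def cls₀ : A →+* T where
  toFun := g.cls 0
  map_one' := g.cls_one
  map_mul' x y := g.cls_mul (g.mem_zero x) (g.mem_zero y)
  map_zero' := g.cls_zero 0
  map_add' x y := g.cls_add (g.mem_zero x) (g.mem_zero y)

theorem cls_pow {n : ℕ} {x : A} (hx : x ∈ g.G n) (k : ℕ) : g.cls (k * n) (x ^ k) = g.cls n x ^ k := by
  induction k with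
  | zero => rw [Nat.zero_mul, pow_zero, pow_zero, g.cls_one]
  | succ k ih => rw [Nat.succ_mul, pow_succ, pow_succ, g.cls_mul (g.hG.pow_mem hx k) hx, ih]

variable [LambdaOps A]

/-- the series of leading classes of `γ^n` -/
noncomputable def cs (x : A) : PowerSeries T := PowerSeries.mk fun n => g.cls n (gamma n x)

theorem coeff_cs (x : A) (n : ℕ) : PowerSeries.coeff n (g.cs x) = g.cls n (gamma n x) := by simp [cs]

theorem constantCoeff_cs (x : A) : PowerSeries.constantCoeff (g.cs x) = 1 := by
  rw [← PowerSeries.coeff_zero_eq_constantCoeff_apply, coeff_cs, gamma_zero, g.cls_one]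

theorem cs_zero : g.cs (0 : A) = 1 := by
  refine PowerSeries.ext fun n => ?_
  rw [coeff_cs, PowerSeries.coeff_one]
  rcases n with _ | n
  · rw [gamma_zero, g.cls_one, if_pos rfl]
  · rw [gamma_zero_right (Nat.le_add_left 1 n), g.cls_zero, if_neg (Nat.succ_ne_zero n)]

theorem cs_add {x y : A} (hx : GammaGraded g.G x) (hy : GammaGraded g.G y) :
    g.cs (x + y) = g.cs x * g.cs y := by
  refine PowerSeries.ext fun n => ?_
  have hmem : ∀ i ∈ range (n + 1), gamma i x * gamma (n - i) y ∈ g.G n := fun i hi => by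
    have := g.hG.mul_mem (hx i) (hy (n - i))
    rwa [show i + (n - i) = n by simp at hi; omega] at this
  rw [coeff_cs, gamma_add', g.cls_sum _ _ hmem, PowerSeries.coeff_mul,
    Finset.Nat.sum_antidiagonal_eq_sum_range_succ_mk]
  refine Finset.sum_congr rfl fun i hi => ?_
  have := g.cls_mul (hx i) (hy (n - i))
  rw [show i + (n - i) = n by simp at hi; omega] at this
  rw [this, coeff_cs, coeff_cs]

/-- the power sums -/
noncomputable def q (x : A) (k : ℕ) : T := psOp (g.cs x) k

theorem q_zero (k : ℕ) : g.q (0 : A) k = 0 := by rw [q, cs_zero, psOp_one]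

theorem q_add {x y : A} (hx : GammaGraded g.G x) (hy : GammaGraded g.G y) (k : ℕ) :
    g.q (x + y) k = g.q x k + g.q y k := by
  rw [q, q, q, g.cs_add hx hy, psOp_mul (g.constantCoeff_cs x) (g.constantCoeff_cs y)]

theorem q_sum {ι : Type*} (s : Finset ι) (f : ι → A) (hf : ∀ i ∈ s, GammaGraded g.G (f i)) (k : ℕ) :
    g.q (∑ i ∈ s, f i) k = ∑ i ∈ s, g.q (f i) k ∧ GammaGraded g.G (∑ i ∈ s, f i) := by
  classical
  induction s using Finset.induction_on with
  | empty => simp [g.q_zero, gammaGraded_zero _ g.hG]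
  | insert a s ha ih =>
    obtain ⟨h1, h2⟩ := ih fun i hi => hf i (Finset.mem_insert_of_mem hi)
    have ha' := hf a (Finset.mem_insert_self a s)
    rw [Finset.sum_insert ha, Finset.sum_insert ha]
    exact ⟨by rw [g.q_add ha' h2, h1], gammaGraded_add g.hG ha' h2⟩

/-! ### universal expressions -/

variable {ι : Type w}

/-- the classes of the variables -/
noncomputable def Cv (x : ι → A) (p : ι × ℕ) : T := g.cls (p.2 + 1) (gamma (p.2 + 1) (x p.1))

theorem cls_gEval {x : ι → A} (hx : ∀ i k, gamma (k + 1) (x i) ∈ g.G (k + 1)) {d : ℕ} {P : GB ι}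
    (hP : WtGE d P) :
    g.cls d (gEval x P)
      = MvPolynomial.aeval (g.Cv x) (MvPolynomial.weightedHomogeneousComponent (wtG (ι := ι)) d P) := by
  classical
  have hmon : ∀ c : (ι × ℕ) →₀ ℕ,
      (c.prod fun p n => gamma (p.2 + 1) (x p.1) ^ n) ∈ g.G (Finsupp.weight (wtG (ι := ι)) c) ∧
      g.cls (Finsupp.weight (wtG (ι := ι)) c) (c.prod fun p n => gamma (p.2 + 1) (x p.1) ^ n)
        = c.prod fun p n => g.Cv x p ^ n := by
    intro c
    rw [Finsupp.weight_apply]
    induction c using Finsupp.induction with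
    | zero => simp [g.hG.top, g.cls_one]
    | single_add k b c hk hb ih =>
      rw [Finsupp.prod_add_index' (h := fun (p : ι × ℕ) (n : ℕ) => gamma (p.2 + 1) (x p.1) ^ n)
          (fun i => pow_zero _) (fun i a b => pow_add _ a b),
        Finsupp.prod_add_index' (h := fun (p : ι × ℕ) (n : ℕ) => g.Cv x p ^ n)
          (fun i => pow_zero _) (fun i a b => pow_add _ a b),
        Finsupp.sum_add_index' (h := fun (i : ι × ℕ) (c : ℕ) => c • wtG i) (fun i => zero_smul ℕ _)
          (fun i a b => add_smul a b _),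
        Finsupp.prod_single_index (h := fun (p : ι × ℕ) (n : ℕ) => gamma (p.2 + 1) (x p.1) ^ n) (pow_zero _),
        Finsupp.prod_single_index (h := fun (p : ι × ℕ) (n : ℕ) => g.Cv x p ^ n) (pow_zero _),
        Finsupp.sum_single_index (h := fun (i : ι × ℕ) (c : ℕ) => c • wtG i) (zero_smul ℕ _)]
      have hb' := g.hG.pow_mem (hx k.1 k.2) b
      refine ⟨g.hG.mul_mem hb' ih.1, ?_⟩
      show g.cls (b * (k.2 + 1) + _) _ = _
      rw [g.cls_mul hb' ih.1, ih.2, g.cls_pow (hx k.1 k.2)]
      rfl
  have hterm : ∀ c ∈ P.support, gEval x (MvPolynomial.monomial c (P.coeff c)) ∈ g.G d ∧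
      g.cls d (gEval x (MvPolynomial.monomial c (P.coeff c)))
        = MvPolynomial.aeval (g.Cv x)
          (MvPolynomial.weightedHomogeneousComponent (wtG (ι := ι)) d (MvPolynomial.monomial c (P.coeff c))) := by
    intro c hc
    obtain ⟨h1, h2⟩ := hmon c
    have hd := hP c hc
    rw [gEval, MvPolynomial.aeval_monomial]
    refine ⟨g.hG.anti hd (Ideal.mul_mem_left _ _ h1), ?_⟩
    rcases eq_or_lt_of_le hd with h | h
    · rw [(MvPolynomial.isWeightedHomogeneous_monomial _ c _ h.symm).weightedHomogeneousComponent_same,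
        MvPolynomial.aeval_monomial]
      have := g.cls_mul (g.mem_zero (algebraMap ℤ A (P.coeff c))) h1
      rw [Nat.zero_add, ← h] at this
      rw [this, ← h2, ← h]
      congr 1
      show g.cls₀ (algebraMap ℤ A (P.coeff c)) = _
      simp
    · rw [(MvPolynomial.isWeightedHomogeneous_monomial _ c _ rfl).weightedHomogeneousComponent_ne d h.ne,
        map_zero, g.cls_eq_zero h (Ideal.mul_mem_left _ _ h1)]
  conv_lhs => rw [P.as_sum, map_sum, g.cls_sum _ _ fun c hc => (hterm c hc).1]
  conv_rhs => rw [P.as_sum, map_sum, map_sum]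
  exact Finset.sum_congr rfl fun c hc => (hterm c hc).2

end GrMap

/-! ### universal series -/

section USer

variable {ι : Type} [Fintype ι]

theorem wtGE_gOp {P : GB ι} (hP : WtGE 1 P) (r : ℕ) : WtGE r (gOp r P) := by
  letI : ∀ N : ι → ℕ, LambdaOps (SR (Roots N)) := fun N => splitOps (Roots N)
  obtain ⟨M, hM⟩ := exists_bound (gOp r P)
  refine wtGE_of_split (N := fun _ => M) (fun p hp => hM p hp) ?_
  rw [gEval_gOp isSpecial_split]
  exact gamma_mem_OI_self r (gEval_mem (isMulFil_OI _) (fun j k => gamma_mem_OI_self _ (splitFam_mem _ j)) hP)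

/-- the universal series of leading classes -/
noncomputable def uSer (P : GB ι) : PowerSeries (GB ι) :=
  PowerSeries.mk fun n => MvPolynomial.weightedHomogeneousComponent (wtG (ι := ι)) n (gOp n P)

variable {A : Type u} [CommRing A] [LambdaOps A] {T : Type v} [CommRing T] (g : GrMap A T)

theorem cs_gEval (hA : IsSpecial A) {x : ι → A} (hx : ∀ i k, gamma (k + 1) (x i) ∈ g.G (k + 1)) {P : GB ι}
    (hP : WtGE 1 P) :
    g.cs (gEval x P) = PowerSeries.map (MvPolynomial.aeval (g.Cv x)).toRingHom (uSer P) := by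
  refine PowerSeries.ext fun n => ?_
  rw [GrMap.coeff_cs, ← gEval_gOp hA, g.cls_gEval hx (wtGE_gOp hP n), PowerSeries.coeff_map, uSer,
    PowerSeries.coeff_mk]
  rfl

theorem cs_eq_genGam (x : ι → A) (i : ι) :
    g.cs (x i) = PowerSeries.map (MvPolynomial.aeval (g.Cv x)).toRingHom (genGam i) := by
  refine PowerSeries.ext fun n => ?_
  rcases n with _ | n
  · simp [genGam, GrMap.coeff_cs, gamma_zero, g.cls_one]
  · simp [genGam, GrMap.coeff_cs, GrMap.Cv]

theorem constantCoeff_genGam {κ : Type w} (i : κ) : PowerSeries.constantCoeff (genGam i : PowerSeries (GB κ)) = 1 := by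
  rw [← PowerSeries.coeff_zero_eq_constantCoeff_apply, genGam, PowerSeries.coeff_mk, if_pos rfl]

end USer

/-! ### the split ring -/

section SplitGr

attribute [local instance] splitOps

variable (σ : Type u)

theorem sub_hc_mem {n : ℕ} {x : SR σ} (hx : x ∈ OI σ n) :
    x - MvPolynomial.homogeneousComponent n x ∈ OI σ (n + 1) := by
  rw [mem_OI]
  intro c hc
  rw [MvPolynomial.coeff_sub, MvPolynomial.coeff_homogeneousComponent]
  split
  · exact sub_self _
  · next h => rw [mem_OI.mp hx c (by omega), sub_zero]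

theorem hc_eq_zero {n : ℕ} {x : SR σ} (hx : x ∈ OI σ (n + 1)) : MvPolynomial.homogeneousComponent n x = 0 := by
  refine MvPolynomial.ext _ _ fun c => ?_
  rw [MvPolynomial.coeff_homogeneousComponent, MvPolynomial.coeff_zero]
  split
  · next h => exact mem_OI.mp hx c (by omega)
  · rfl

theorem hc_mem (n : ℕ) (x : SR σ) : MvPolynomial.homogeneousComponent n x ∈ OI σ n := by
  rw [mem_OI]
  intro c hc
  rw [MvPolynomial.coeff_homogeneousComponent, if_neg (by omega)]

/-- the homogeneous components as a class map -/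
noncomputable def splitGr : GrMap (SR σ) (SR σ) where
  G := OI σ
  hG := isMulFil_OI σ
  cls := fun n x => MvPolynomial.homogeneousComponent n x
  cls_add := fun _ _ => map_add _ _ _
  cls_mul := fun {a b x y} hx hy => by
    have e : x * y - MvPolynomial.homogeneousComponent a x * MvPolynomial.homogeneousComponent b y ∈ OI σ (a + b + 1) := by
      rw [show x * y - MvPolynomial.homogeneousComponent a x * MvPolynomial.homogeneousComponent b y
        = (x - MvPolynomial.homogeneousComponent a x) * y
          + MvPolynomial.homogeneousComponent a x * (y - MvPolynomial.homogeneousComponent b y) by ring]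
      refine add_mem ?_ (OI_anti (by omega) (OI_mul (hc_mem σ a x) (sub_hc_mem σ hy)))
      have := OI_mul (sub_hc_mem σ hx) hy
      rwa [show a + 1 + b = a + b + 1 by ring] at this
    have h := hc_eq_zero σ e
    rw [map_sub, sub_eq_zero] at h
    rw [h]
    exact MvPolynomial.homogeneousComponent_of_mem ((MvPolynomial.mem_homogeneousSubmodule _ _).mpr
      ((MvPolynomial.homogeneousComponent_isHomogeneous a x).mul (MvPolynomial.homogeneousComponent_isHomogeneous b y))) |>.trans (if_pos rfl)
  cls_one := by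
    show MvPolynomial.homogeneousComponent 0 (1 : SR σ) = 1
    rw [MvPolynomial.homogeneousComponent_zero]; simp
  cls_succ := fun hx => hc_eq_zero σ hx

theorem splitGr_graded {x : SR σ} (hx : x ∈ OI σ 1) : GammaGraded (splitGr σ).G x :=
  fun r => gamma_mem_OI_self r hx

theorem cls_X (j : σ) : (splitGr σ).cls 1 (MvPolynomial.X j) = MvPolynomial.X j :=
  (MvPolynomial.homogeneousComponent_of_mem ((MvPolynomial.mem_homogeneousSubmodule _ _).mpr
    (MvPolynomial.isHomogeneous_X ℤ j))).trans (if_pos rfl)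

theorem q_X (j : σ) (k : ℕ) : (splitGr σ).q (MvPolynomial.X j) k = MvPolynomial.X j ^ (k + 1) := by
  have : (splitGr σ).cs (MvPolynomial.X j) = 1 + PowerSeries.C (MvPolynomial.X j) * PowerSeries.X := by
    refine PowerSeries.ext fun n => ?_
    rw [GrMap.coeff_cs, gamma_X]
    rcases n with _ | _ | n
    · rw [if_pos rfl, (splitGr σ).cls_one]; simp
    · rw [if_neg (by omega), if_pos rfl, cls_X]; simp [PowerSeries.coeff_one]
    · rw [if_neg (by omega), if_neg (by omega), GrMap.cls_zero]; simp [PowerSeries.coeff_one, PowerSeries.coeff_X]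
  rw [GrMap.q, this, psOp_linear]

theorem q_X_mul_X (j l : σ) (k : ℕ) :
    (splitGr σ).q (MvPolynomial.X j * MvPolynomial.X l) k
      = ∑ a ∈ range k, ((k + 1).choose (a + 1) : SR σ) * (splitGr σ).q (MvPolynomial.X j) a
          * (splitGr σ).q (MvPolynomial.X l) (k - 1 - a) := by
  classical
  set g := splitGr σ with hg
  set X := (MvPolynomial.X j : SR σ) with hX
  set Y := (MvPolynomial.X l : SR σ) with hY
  have hu : lineU (Finsupp.single j 1 + Finsupp.single l 1) - 1 = X * Y + X + Y := by
    simp only [lineU, shiftU, MvPolynomial.monomial_add_single, hX, hY]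
    simp [MvPolynomial.aeval_monomial, Finsupp.prod_add_index', pow_add]
    ring
  have hcs : g.cs (X * Y + X + Y) = 1 + PowerSeries.C (X + Y) * PowerSeries.X := by
    refine PowerSeries.ext fun n => ?_
    rw [GrMap.coeff_cs, ← coeff_gamSeries, ← hu, gamSeries_sub_one lam_one_split (lam_lineU _), hu]
    rcases n with _ | _ | n
    · simp [g.cls_one]
    · simp only [map_add (PowerSeries.coeff _), PowerSeries.coeff_one, PowerSeries.coeff_C_mul,
        PowerSeries.coeff_one_X, zero_add, one_ne_zero, if_false, mul_one]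
      rw [g.cls_add (add_mem (OI_anti one_le_two (OI_mul (X_mem_OI j) (X_mem_OI l))) (X_mem_OI j)) (X_mem_OI l),
        g.cls_add (OI_anti one_le_two (OI_mul (X_mem_OI j) (X_mem_OI l))) (X_mem_OI j),
        g.cls_eq_zero one_lt_two (OI_mul (X_mem_OI j) (X_mem_OI l)), hg, cls_X, cls_X, zero_add]
    · simp [PowerSeries.coeff_one, PowerSeries.coeff_X, g.cls_zero]
  have h := congrArg (fun F => psOp F k) hcs
  have hXY : GammaGraded g.G (X * Y) := splitGr_graded σ (OI_anti one_le_two (OI_mul (X_mem_OI j) (X_mem_OI l)))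
  rw [psOp_linear, g.cs_add (gammaGraded_add g.hG hXY (splitGr_graded σ (X_mem_OI j))) (splitGr_graded σ (X_mem_OI l)),
    g.cs_add hXY (splitGr_graded σ (X_mem_OI j)),
    psOp_mul (by rw [map_mul, g.constantCoeff_cs, g.constantCoeff_cs, one_mul]) (g.constantCoeff_cs _),
    psOp_mul (g.constantCoeff_cs _) (g.constantCoeff_cs _)] at h
  change g.q (X * Y) k + g.q X k + g.q Y k = _ at h
  rw [add_pow, Finset.sum_range_succ, Finset.sum_range_succ'] at h
  rw [hg, q_X, q_X] at h
  simp only [Nat.sub_zero, pow_zero, Nat.choose_zero_right, Nat.sub_self, Nat.choose_self, Nat.cast_one, mul_one,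
    one_mul] at h
  rw [hg]
  simp only [hX, hY, q_X]
  simp only [← hX, ← hY]
  refine Eq.trans (b := ∑ i ∈ range k, X ^ (i + 1) * Y ^ (k + 1 - (i + 1)) * ((k + 1).choose (i + 1) : SR σ)) ?_
    (Finset.sum_congr rfl fun a ha => ?_)
  · linear_combination h
  · rw [show k - 1 - a + 1 = k + 1 - (a + 1) by simp at ha; omega]
    ring

end SplitGr

/-! ### the product formula and leading terms -/

section Formulas

variable {A : Type u} [CommRing A] [LambdaOps A] {T : Type v} [CommRing T] (g : GrMap A T)

theorem Cv_splitFam {ι : Type} (N : ι → ℕ) (p : ι × ℕ) :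
    letI := splitOps (Roots N)
    (splitGr (Roots N)).Cv (splitFam N) p = gamma (p.2 + 1) (splitFam N p.1) := by
  letI := splitOps (Roots N)
  refine (MvPolynomial.homogeneousComponent_of_mem ((MvPolynomial.mem_homogeneousSubmodule _ _).mpr ?_)).trans (if_pos rfl)
  exact isWeightedHomogeneous_splitVal N p

theorem aeval_Cv_splitFam {ι : Type} (N : ι → ℕ) :
    letI := splitOps (Roots N)
    (MvPolynomial.aeval ((splitGr (Roots N)).Cv (splitFam N)) : GB ι →ₐ[ℤ] SR (Roots N)) = gEval (splitFam N) := by
  letI := splitOps (Roots N)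
  rw [gEval]
  congr 1
  funext p
  exact Cv_splitFam N p

theorem q_mul (hA : IsSpecial A) {x y : A} (hx : GammaGraded g.G x) (hy : GammaGraded g.G y) (k : ℕ) :
    g.q (x * y) k = ∑ a ∈ range k, ((k + 1).choose (a + 1) : T) * g.q x a * g.q y (k - 1 - a)
      ∧ GammaGraded g.G (x * y) := by
  classical
  letI : ∀ M : Fin 2 → ℕ, LambdaOps (SR (Roots M)) := fun M => splitOps (Roots M)
  let P : GB (Fin 2) := gVar 0 1 * gVar 1 1
  have hP : WtGE 1 P := fun m hm => by
    have := wtGE_mul (wtGE_gVar (0 : Fin 2) 1) (wtGE_gVar (1 : Fin 2) 1) m hm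
    omega
  let F : GB (Fin 2) := psOp (uSer P) k - ∑ a ∈ range k,
    ((k + 1).choose (a + 1) : GB (Fin 2)) * psOp (genGam 0) a * psOp (genGam 1) (k - 1 - a)
  have huc : PowerSeries.constantCoeff (uSer P) = 1 := by
    rw [← PowerSeries.coeff_zero_eq_constantCoeff_apply, uSer, PowerSeries.coeff_mk]
    have : gOp 0 P = 1 := by
      obtain ⟨M, hM⟩ := exists_bound (gOp 0 P - 1)
      rw [← sub_eq_zero]
      refine eq_zero_of_splitFam (N := fun _ => M) (fun p hp => hM p hp) ?_
      rw [map_sub, gEval_gOp isSpecial_split, gamma_zero, map_one, sub_self]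
    rw [this]
    exact (MvPolynomial.isWeightedHomogeneous_one ℤ _).weightedHomogeneousComponent_same
  have heval : ∀ (B : Type u) [CommRing B] [LambdaOps B] (S : Type v) [CommRing S] (h : GrMap B S) (_ : IsSpecial B)
      (z : Fin 2 → B), (∀ i r, gamma (r + 1) (z i) ∈ h.G (r + 1)) →
      MvPolynomial.aeval (h.Cv z) F = h.q (z 0 * z 1) k
        - ∑ a ∈ range k, ((k + 1).choose (a + 1) : S) * h.q (z 0) a * h.q (z 1) (k - 1 - a) := by
    intro B _ _ S _ h hB z hz
    have e : gEval z P = z 0 * z 1 := by simp [P, gEval_gVar, gamma_one]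
    simp only [F, map_sub, map_sum, map_mul, map_natCast, GrMap.q, ← e, cs_gEval h hB hz hP, cs_eq_genGam h z]
    rw [← map_psOp _ huc]
    refine congrArg (fun r => _ - r) (Finset.sum_congr rfl fun a _ => ?_)
    rw [← map_psOp _ (constantCoeff_genGam _), ← map_psOp _ (constantCoeff_genGam _)]
    rfl
  have hF : F = 0 := by
    obtain ⟨M, hM⟩ := exists_bound F
    refine eq_zero_of_splitFam (N := fun _ => M) (fun p hp => hM p hp) ?_
    set N : Fin 2 → ℕ := fun _ => M
    have e : gEval (splitFam N) F = MvPolynomial.aeval ((splitGr (Roots N)).Cv (splitFam N)) F := by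
      rw [aeval_Cv_splitFam]
      rfl
    rw [e]
    have hz : ∀ i r, gamma (r + 1) (splitFam N i) ∈ (splitGr (Roots N)).G (r + 1) :=
      fun i r => gamma_mem_OI_self _ (splitFam_mem N i)
    have h1 : ∀ i, ∀ r, (splitGr (Roots N)).q (splitFam N i) r
        = ∑ l : Fin (N i), (splitGr (Roots N)).q (MvPolynomial.X ⟨i, l⟩) r := fun i r =>
      ((splitGr (Roots N)).q_sum _ _ (fun l _ => splitGr_graded _ (X_mem_OI _)) r).1
    have eP : gEval (splitFam N) P = splitFam N 0 * splitFam N 1 := by simp [P, gEval_gVar, gamma_one]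
    simp only [F, map_sub, map_sum, map_mul, map_natCast]
    rw [sub_eq_zero]
    have e1 : (MvPolynomial.aeval ((splitGr (Roots N)).Cv (splitFam N))) (psOp (uSer P) k)
        = (splitGr (Roots N)).q (splitFam N 0 * splitFam N 1) k := by
      rw [GrMap.q, ← eP, cs_gEval _ isSpecial_split hz hP, ← map_psOp _ huc]
      rfl
    have e2 : ∀ i r, (MvPolynomial.aeval ((splitGr (Roots N)).Cv (splitFam N))) (psOp (genGam i) r)
        = (splitGr (Roots N)).q (splitFam N i) r := fun i r => by
      rw [GrMap.q, cs_eq_genGam _ (splitFam N) i, ← map_psOp _ (constantCoeff_genGam _)]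
      rfl
    simp only [e1, e2, h1]
    simp only [splitFam, Finset.sum_mul, Finset.mul_sum]
    rw [((splitGr (Roots N)).q_sum _ _ (fun l _ => splitGr_graded _
      (sum_mem fun m _ => OI_anti one_le_two (OI_mul (X_mem_OI _) (X_mem_OI _)))) k).1]
    rw [Finset.sum_comm (s := range k)]
    refine Finset.sum_congr rfl fun l _ => ?_
    rw [((splitGr (Roots N)).q_sum _ _ (fun m _ => splitGr_graded _
      (OI_anti one_le_two (OI_mul (X_mem_OI _) (X_mem_OI _)))) k).1, Finset.sum_comm]
    exact Finset.sum_congr rfl fun m _ => q_X_mul_X _ _ _ k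
  have hz : ∀ i r, gamma (r + 1) (![x, y] i) ∈ g.G (r + 1) := by
    intro i r; fin_cases i
    · exact hx _
    · exact hy _
  refine ⟨?_, ?_⟩
  · have := heval A T g hA ![x, y] hz
    rw [hF, map_zero] at this
    exact (sub_eq_zero.mp this.symm)
  · have := gammaGraded_univ hA g.hG hz hP
    simpa [P, gEval_gVar, gamma_one] using this

/-- `x` lies in step `n` and the power sums below `n` vanish -/
structure Lead (n : ℕ) (x : A) : Prop where
  mem : x ∈ g.G n
  graded : GammaGraded g.G x
  low : ∀ k, k + 1 < n → g.q x k = 0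
  top : ∀ k, k + 1 = n → g.q x k = (n.factorial : T) * g.cls n x

theorem Lead.zero (n : ℕ) : Lead g n (0 : A) :=
  ⟨zero_mem _, gammaGraded_zero _ g.hG, fun _ _ => g.q_zero _, fun _ _ => by rw [g.q_zero, g.cls_zero, mul_zero]⟩

theorem Lead.add {n : ℕ} {x y : A} (hx : Lead g n x) (hy : Lead g n y) : Lead g n (x + y) :=
  ⟨add_mem hx.mem hy.mem, gammaGraded_add g.hG hx.graded hy.graded,
    fun k hk => by rw [g.q_add hx.graded hy.graded, hx.low k hk, hy.low k hk, add_zero],
    fun k hk => by rw [g.q_add hx.graded hy.graded, hx.top k hk, hy.top k hk, g.cls_add hx.mem hy.mem, mul_add]⟩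

theorem Lead.sum {ι : Type*} (s : Finset ι) {n : ℕ} (f : ι → A) (hf : ∀ i ∈ s, Lead g n (f i)) :
    Lead g n (∑ i ∈ s, f i) :=
  Finset.sum_induction f (Lead g n) (fun _ _ => Lead.add g) (Lead.zero g n) hf

theorem Lead.anti {m n : ℕ} (hn : n ≤ m) {x : A} (hx : Lead g m x) : Lead g n x := by
  rcases eq_or_lt_of_le hn with rfl | h
  · exact hx
  exact ⟨g.hG.anti hn hx.mem, hx.graded, fun k hk => hx.low k (by omega),
    fun k hk => by rw [hx.low k (by omega), g.cls_eq_zero h hx.mem, mul_zero]⟩

theorem Lead.mul (hA : IsSpecial A) {a b : ℕ} (ha : 1 ≤ a) (hb : 1 ≤ b) {x y : A} (hx : Lead g a x)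
    (hy : Lead g b y) : Lead g (a + b) (x * y) := by
  refine ⟨g.hG.mul_mem hx.mem hy.mem, (q_mul g hA hx.graded hy.graded 0).2, fun k hk => ?_, fun k hk => ?_⟩
  · rw [(q_mul g hA hx.graded hy.graded k).1]
    refine Finset.sum_eq_zero fun i hi => ?_
    by_cases h : i + 1 < a
    · rw [hx.low i h, mul_zero, zero_mul]
    · rw [hy.low (k - 1 - i) (by simp at hi; omega), mul_zero]
  · rw [(q_mul g hA hx.graded hy.graded k).1, Finset.sum_eq_single (a - 1)]
    · rw [hx.top (a - 1) (by omega), hy.top (k - 1 - (a - 1)) (by omega), g.cls_mul hx.mem hy.mem,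
        show a - 1 + 1 = a by omega, show k + 1 = a + b by omega, ← Nat.choose_mul_factorial_mul_factorial (Nat.le_add_right a b),
        Nat.add_sub_cancel_left]
      push_cast
      ring
    · intro i hi hne
      by_cases h : i + 1 < a
      · rw [hx.low i h, mul_zero, zero_mul]
      · rw [hy.low (k - 1 - i) (by simp at hi; omega), mul_zero]
    · intro h; simp at h; omega

theorem lead_gamma (hA : IsSpecial A) {r : ℕ} (hr : 1 ≤ r) {z : A} (hz : GammaGraded g.G z) :
    Lead g r (gamma r z) := by
  classical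
  letI : ∀ M : Fin 1 → ℕ, LambdaOps (SR (Roots M)) := fun M => splitOps (Roots M)
  let P : GB (Fin 1) := gVar 0 r
  have hP : WtGE 1 P := fun m hm => le_trans hr (wtGE_gVar (0 : Fin 1) r m hm)
  have hzv : ∀ i s, gamma (s + 1) ((fun _ : Fin 1 => z) i) ∈ g.G (s + 1) := fun _ s => hz _
  have hgr : GammaGraded g.G (gamma r z) := by
    have := gammaGraded_univ hA g.hG hzv hP
    simpa [P, gEval_gVar] using this
  have huc : PowerSeries.constantCoeff (uSer P) = 1 := by
    rw [← PowerSeries.coeff_zero_eq_constantCoeff_apply, uSer, PowerSeries.coeff_mk]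
    have : gOp 0 P = 1 := by
      obtain ⟨M, hM⟩ := exists_bound (gOp 0 P - 1)
      rw [← sub_eq_zero]
      refine eq_zero_of_splitFam (N := fun _ => M) (fun p hp => hM p hp) ?_
      rw [map_sub, gEval_gOp isSpecial_split, gamma_zero, map_one, sub_self]
    rw [this]
    exact (MvPolynomial.isWeightedHomogeneous_one ℤ _).weightedHomogeneousComponent_same
  let F : ℕ → GB (Fin 1) := fun k => psOp (uSer P) k - if k + 1 = r then (r.factorial : GB (Fin 1)) * gVar 0 r else 0
  have hF : ∀ k, k + 1 ≤ r → F k = 0 := by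
    intro k hk
    obtain ⟨M, hM⟩ := exists_bound (F k)
    refine eq_zero_of_splitFam (N := fun _ => M) (fun p hp => hM p hp) ?_
    set N : Fin 1 → ℕ := fun _ => M
    have hzN : ∀ i s, gamma (s + 1) (splitFam N i) ∈ (splitGr (Roots N)).G (s + 1) :=
      fun i s => gamma_mem_OI_self _ (splitFam_mem N i)
    have hL : Lead (splitGr (Roots N)) r (gamma r (splitFam N 0)) := by
      rw [gamma_splitFam, Finset.esymm_map_val]
      refine Lead.sum _ _ _ fun S hS => ?_
      have hc := (Finset.mem_powersetCard.mp hS).2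
      have : ∀ S : Finset (Fin (N 0)), S.Nonempty →
          Lead (splitGr (Roots N)) S.card (∏ l ∈ S, (MvPolynomial.X ⟨0, l⟩ : SR (Roots N))) := by
        intro S hne
        induction hne using Finset.Nonempty.cons_induction with
        | singleton a =>
          rw [Finset.prod_singleton, Finset.card_singleton]
          exact ⟨X_mem_OI _, splitGr_graded _ (X_mem_OI _), fun k hk => by omega, fun k hk => by
            obtain rfl : k = 0 := by omega
            rw [q_X, cls_X]; simp⟩
        | cons a s ha hs ih =>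
          rw [Finset.prod_cons, Finset.card_cons, Nat.add_comm]
          exact Lead.mul _ isSpecial_split le_rfl (Finset.card_pos.mpr hs)
            ⟨X_mem_OI _, splitGr_graded _ (X_mem_OI _), fun k hk => by omega, fun k hk => by
              obtain rfl : k = 0 := by omega
              rw [q_X, cls_X]; simp⟩ ih
      rw [← hc]
      exact this S (Finset.card_pos.mp (by omega))
    have e : gEval (splitFam N) (psOp (uSer P) k) = (splitGr (Roots N)).q (gamma r (splitFam N 0)) k := by
      rw [GrMap.q, ← gEval_gVar (splitFam N) 0 r, cs_gEval _ isSpecial_split hzN hP, ← map_psOp _ huc,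
        ← aeval_Cv_splitFam N]
      rfl
    simp only [F, map_sub, e]
    split
    · next h =>
      rw [map_mul, map_natCast, gEval_gVar, hL.top k h]
      obtain ⟨r', rfl⟩ : ∃ r', r = r' + 1 := ⟨r - 1, by omega⟩
      have := Cv_splitFam N ((0 : Fin 1), r')
      rw [GrMap.Cv] at this
      rw [this, sub_self]
    · next h => rw [map_zero, hL.low k (by omega), sub_self]
  have e : ∀ k, g.q (gamma r z) k = MvPolynomial.aeval (g.Cv fun _ : Fin 1 => z) (psOp (uSer P) k) := fun k => by
    rw [GrMap.q, show gamma r z = gEval (fun _ : Fin 1 => z) P by simp [P, gEval_gVar],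
      cs_gEval g hA hzv hP, ← map_psOp _ huc]
    rfl
  refine ⟨hz r, hgr, fun k hk => ?_, fun k hk => ?_⟩
  · have := hF k (by omega)
    simp only [F, if_neg (show k + 1 ≠ r by omega), sub_zero] at this
    rw [e, this, map_zero]
  · have := hF k (by omega)
    simp only [F, if_pos hk, sub_eq_zero] at this
    rw [e, this, map_mul, map_natCast]
    obtain ⟨r', rfl⟩ : ∃ r', r = r' + 1 := ⟨r - 1, by omega⟩
    simp [gVar, GrMap.Cv]

end Formulas

end Groth.Agent.Lam
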