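import Groth.Agent.Lam.Filtration
import Groth.Prelude.Def_W4bkmilneecrracsp2Inv

/-!
Involutions: reversal of λ-operations.
-/

universe u v

open Finset

namespace Groth.Agent.Lam

open _root_.LambdaRing

theorem esymm_reverse {R : Type u} [CommRing R] (v : R → R) (s : Multiset R)
    (hv : ∀ u ∈ s, v u * u = 1) (i k : ℕ) (h : i + k = Multiset.card s) :
    s.esymm i = (s.map v).esymm k * s.prod := by
  induction s using Multiset.induction_on generalizing i k with
  | empty =>
    simp at h
    obtain ⟨rfl, rfl⟩ := h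
    simp [esymm_zero_left]
  | cons a s ih =>
    have ih' := ih fun u hu => hv u (Multiset.mem_cons_of_mem hu)
    have ha := hv a (Multiset.mem_cons_self _ _)
    have hbig : ∀ (t : Multiset R) (n : ℕ), Multiset.card t < n → t.esymm n = 0 := fun t n hn => by
      simp [Multiset.esymm, Multiset.powersetCard_eq_empty n hn]
    rw [Multiset.card_cons] at h
    rw [Multiset.map_cons, Multiset.prod_cons]
    rcases i with _ | i
    · obtain ⟨k, rfl⟩ : ∃ k', k = k' + 1 := ⟨k - 1, by omega⟩
      have h0 := ih' 0 k (by omega)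
      rw [esymm_zero_right] at h0 ⊢
      rw [esymm_cons_succ, hbig (s.map v) (k + 1) (by rw [Multiset.card_map]; omega)]
      linear_combination h0 - ((s.map v).esymm k * s.prod) * ha
    · rcases k with _ | k
      · rw [esymm_zero_right, esymm_cons_succ, hbig s (i + 1) (by omega)]
        have h0 := ih' i 0 (by omega)
        rw [esymm_zero_right] at h0
        linear_combination a * h0
      · have h1 := ih' (i + 1) k (by omega)
        have h2 := ih' i (k + 1) (by omega)
        rw [esymm_cons_succ, esymm_cons_succ]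
        linear_combination h1 + a * h2 - ((s.map v).esymm k * s.prod) * ha

theorem esymm_card {R : Type u} [CommRing R] (s : Multiset R) : s.esymm (Multiset.card s) = s.prod := by
  induction s using Multiset.induction_on with
  | empty => simp [esymm_zero_left]
  | cons a s ih =>
    rw [Multiset.card_cons, esymm_cons_succ, ih, Multiset.prod_cons]
    simp [Multiset.esymm, Multiset.powersetCard_eq_empty _ (Nat.lt_succ_self (Multiset.card s))]

variable {K : Type u} [CommRing K] [LambdaOps K] {P : PosStructure K} {inv : K → K}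

theorem gamma_top (h1 : ∀ k : ℕ, 2 ≤ k → LambdaOps.lam k (1 : K) = 0) (e : K) (n : ℕ)
    (he : ∀ i : ℕ, n < i → LambdaOps.lam i e = 0) :
    gamma n (e - (n : K)) = (-1 : K) ^ n * ∑ i ∈ range (n + 1), (-1 : K) ^ i * LambdaOps.lam i e := by
  rw [← coeff_gamSeries, gamSeries_sub_natCast h1 e n he, map_sum, Finset.mul_sum]
  refine Finset.sum_congr rfl fun i hi => ?_
  have hi' : i ≤ n := by simpa [Nat.lt_succ_iff] using hi
  rw [mul_assoc (PowerSeries.C _), PowerSeries.coeff_C_mul, PowerSeries.coeff_X_pow_mul', if_pos hi']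
  rw [show ((1 : PowerSeries K) - PowerSeries.X) ^ (n - i)
      = (((((1 : Polynomial K) - Polynomial.X) ^ (n - i)) : Polynomial K) : PowerSeries K) by simp,
    Polynomial.coeff_coe,
    show ((1 : Polynomial K) - Polynomial.X) = Polynomial.C (-1 : K) * (Polynomial.X + Polynomial.C (-1)) by simp [sub_eq_add_neg],
    mul_pow, ← Polynomial.C_pow, Polynomial.coeff_C_mul, Polynomial.coeff_X_add_C_pow, Nat.sub_self,
    pow_zero, Nat.choose_self, Nat.cast_one, one_mul, mul_one, ← mul_assoc, ← pow_add]
  rw [show n + i = (n - i) + 2 * i by omega, pow_add, pow_mul]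
  simp [mul_comm]

theorem inv_split (hV : IsInvolution P inv) (hS : HasInvSplitting P inv) {e : K} (he : e ∈ P.pos) :
    (∀ i k, i + k = (P.aug e).toNat →
      LambdaOps.lam i e = LambdaOps.lam k (inv e) * LambdaOps.lam (P.aug e).toNat e) ∧
    (∀ i, (P.aug e).toNat < i → LambdaOps.lam i (inv e) = 0) := by
  obtain ⟨L, inv', f, hf, hV', hcomm, s, hs, hsum⟩ := hS e he
  have hn : (P.aug e).toNat = Multiset.card s := by
    rw [← hf.aug_comp, ← hsum, aug_sum_lines hs, Int.toNat_natCast]
  have hfi : f (inv e) = (s.map inv').sum := by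
    rw [hcomm, ← hsum]
    exact map_multiset_sum (AddMonoidHom.mk' inv' hV'.map_add) s
  have hs' : ∀ u ∈ s.map inv', L.posStr.IsLine u := by
    intro u hu
    obtain ⟨w, hw, rfl⟩ := Multiset.mem_map.mp hu
    exact hV'.inv_line w (hs w hw)
  refine ⟨fun i k h => hf.injective ?_, fun i hi => hf.injective ?_⟩
  · rw [map_mul, hf.isLambdaHom, hf.isLambdaHom, hf.isLambdaHom, hfi, ← hsum, lam_lines hs,
      lam_lines hs', lam_lines hs, hn,
      esymm_reverse inv' s (fun u hu => hV'.inv_mul_self u (hs u hu)) i k (h.trans hn)]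
    rw [esymm_card]
  · rw [map_zero, hf.isLambdaHom, hfi, lam_lines hs', Multiset.esymm,
      Multiset.powersetCard_eq_empty i (by rw [Multiset.card_map]; omega)]
    simp

theorem lamAlt_inv_mul (hV : IsInvolution P inv) (hS : HasInvSplitting P inv) {e : K} (he : e ∈ P.pos) :
    (∑ i ∈ range ((P.aug e).toNat + 1), (-1 : K) ^ i * LambdaOps.lam i (inv e))
        * LambdaOps.lam (P.aug e).toNat e
      = (-1 : K) ^ (P.aug e).toNat
        * ∑ i ∈ range ((P.aug e).toNat + 1), (-1 : K) ^ i * LambdaOps.lam i e := by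
  set n := (P.aug e).toNat with hn
  rw [Finset.sum_mul, Finset.mul_sum,
    ← Finset.sum_range_reflect (fun i => (-1 : K) ^ n * ((-1 : K) ^ i * LambdaOps.lam i e)) (n + 1)]
  refine Finset.sum_congr rfl fun i hi => ?_
  have hi' : i ≤ n := by simpa [Nat.lt_succ_iff] using hi
  simp only [show n + 1 - 1 - i = n - i by omega]
  rw [(inv_split hV hS he).1 (n - i) i (by omega), ← mul_assoc ((-1 : K) ^ n), ← pow_add,
    show n + (n - i) = i + 2 * (n - i) by omega, pow_add, pow_mul]
  simp [mul_assoc, hn]

end Groth.Agent.Lam
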