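import Groth.Agent.Lam.GrMap
import Groth.Agent.Lam.Bridge
import Groth.Prelude.Def_KGr
import Mathlib.RingTheory.Localization.BaseChange

/-!
The associated graded ring of the γ-filtration: classes, degree projections, Chern power sums.
-/

universe u v

open Finset LaurentPolynomial
open scoped TensorProduct

namespace Groth.Agent.Lam

open _root_.LambdaRing

attribute [local instance] binomialLambdaOps

variable {K : Type u} [CommRing K] [LambdaOps K] {P : PosStructure K}

/-! ### coefficients of the Rees ring -/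

theorem C_mul_T_mem_rees {n : ℕ} {x : K} (hx : x ∈ gammaFiltration P n) :
    C x * T (-(n : ℤ)) ∈ KGr.rees P :=
  Subring.subset_closure (Set.mem_insert_of_mem _ ⟨n, x, hx, rfl⟩)

theorem rees_coeff {f : LaurentPolynomial K} (hf : f ∈ KGr.rees P) (a : ℤ) :
    f.coeff a ∈ gammaFiltration P (-a).toNat := by
  induction hf using Subring.closure_induction generalizing a with
  | mem y hy =>
    rcases hy with rfl | ⟨n, x, hx, rfl⟩
    · rw [T_apply]
      split
      · next h => subst h; simp [gammaFiltration_zero]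
      · exact zero_mem _
    · rw [← single_eq_C_mul_T, AddMonoidAlgebra.coeff_single, Finsupp.single_apply]
      split
      · next h => subst h; simpa using hx
      · exact zero_mem _
  | zero => simp
  | one =>
    rw [← T_zero, T_apply]
    split
    · next h => subst h; simp [gammaFiltration_zero]
    · exact zero_mem _
  | add p q _ _ hp hq =>
    rw [AddMonoidAlgebra.coeff_add, Finsupp.add_apply]
    exact add_mem (hp a) (hq a)
  | neg p _ hp =>
    rw [AddMonoidAlgebra.coeff_neg, Finsupp.neg_apply]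
    exact neg_mem (hp a)
  | mul p q _ _ hp hq =>
    classical
    rw [AddMonoidAlgebra.coeff_mul]
    refine sum_mem fun b _ => sum_mem fun c _ => ?_
    dsimp only
    split
    · next h => exact antitone_filtration (by omega) (mul_mem' (hp b) (hq c))
    · exact zero_mem _

/-! ### classes -/

open Classical in
/-- the class of `x` in degree `n` -/
noncomputable def clsZ (P : PosStructure K) (n : ℕ) (x : K) : KGr.GrZ P :=
  if h : C x * T (-(n : ℤ)) ∈ KGr.rees P then
    Ideal.Quotient.mk (Ideal.span {KGr.tGen P}) ⟨C x * T (-(n : ℤ)), h⟩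
  else 0

theorem clsZ_eq {n : ℕ} {x : K} (hx : x ∈ gammaFiltration P n) :
    clsZ P n x = Ideal.Quotient.mk (Ideal.span {KGr.tGen P}) ⟨C x * T (-(n : ℤ)), C_mul_T_mem_rees hx⟩ :=
  dif_pos _

/-- the classes form a graded class map -/
noncomputable def kGr (P : PosStructure K) : GrMap K (KGr.GrZ P) where
  G := gammaFil (augAlg P : K →+* ℤ)
  hG := isMulFil_gammaFil _
  cls := clsZ P
  cls_add := fun {n x y} hx hy => by
    rw [← mem_gammaFiltration_iff] at hx hy
    rw [clsZ_eq hx, clsZ_eq hy, clsZ_eq (add_mem hx hy), ← map_add]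
    congr 1
    exact Subtype.ext (by simp [add_mul])
  cls_mul := fun {a b x y} hx hy => by
    rw [← mem_gammaFiltration_iff] at hx hy
    rw [clsZ_eq hx, clsZ_eq hy, clsZ_eq (mul_mem' hx hy), ← map_mul]
    congr 1
    refine Subtype.ext ?_
    show C (x * y) * T (-((a + b : ℕ) : ℤ)) = C x * T (-(a : ℤ)) * (C y * T (-(b : ℤ)))
    rw [map_mul, show (-((a + b : ℕ) : ℤ)) = -(a : ℤ) + -(b : ℤ) by push_cast; ring, T_add]
    ring
  cls_one := by
    have h : (1 : K) ∈ gammaFiltration P 0 := by rw [gammaFiltration_zero]; trivial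
    rw [clsZ_eq h, ← map_one (Ideal.Quotient.mk (Ideal.span {KGr.tGen P}))]
    congr 1
    exact Subtype.ext (by simp)
  cls_succ := fun {n x} hx => by
    rw [← mem_gammaFiltration_iff] at hx
    rw [clsZ_eq (antitone_filtration (Nat.le_succ n) hx), Ideal.Quotient.eq_zero_iff_mem, Ideal.mem_span_singleton]
    refine ⟨⟨C x * T (-((n + 1 : ℕ) : ℤ)), C_mul_T_mem_rees hx⟩, Subtype.ext ?_⟩
    show C x * T (-(n : ℤ)) = T 1 * (C x * T (-((n + 1 : ℕ) : ℤ)))
    rw [mul_left_comm, ← T_add]
    congr 2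
    push_cast; ring

theorem kGr_cls (n : ℕ) (x : K) : (kGr P).cls n x = clsZ P n x := rfl

theorem mem_kGr {n : ℕ} {x : K} : x ∈ (kGr P).G n ↔ x ∈ gammaFiltration P n :=
  (mem_gammaFiltration_iff n x).symm

theorem kGr_graded {x : K} (hx : P.aug x = 0) : GammaGraded (kGr P).G x :=
  fun r => mem_kGr.mpr (gamma_mem hx r)

theorem mem_one {x : K} (hx : P.aug x = 0) : x ∈ gammaFiltration P 1 := by
  simpa [gamma_one] using gamma_mem (P := P) hx 1

/-! ### generation -/

theorem grZ_mem_closure (w : KGr.GrZ P) :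
    w ∈ AddSubgroup.closure {z | ∃ (n : ℕ) (x : K), x ∈ gammaFiltration P n ∧ z = clsZ P n x} := by
  set S := {z : KGr.GrZ P | ∃ (n : ℕ) (x : K), x ∈ gammaFiltration P n ∧ z = clsZ P n x} with hS
  have h1 : (1 : KGr.GrZ P) ∈ S := ⟨0, 1, by rw [gammaFiltration_zero]; trivial, (kGr P).cls_one.symm⟩
  have hmul : ∀ a ∈ AddSubgroup.closure S, ∀ b ∈ AddSubgroup.closure S, a * b ∈ AddSubgroup.closure S := by
    intro a ha b hb
    induction ha using AddSubgroup.closure_induction with
    | mem y hy =>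
      induction hb using AddSubgroup.closure_induction with
      | mem z hz =>
        obtain ⟨n, x, hx, rfl⟩ := hy
        obtain ⟨m, x', hx', rfl⟩ := hz
        exact AddSubgroup.subset_closure
          ⟨n + m, x * x', mul_mem' hx hx', ((kGr P).cls_mul (mem_kGr.mpr hx) (mem_kGr.mpr hx')).symm⟩
      | zero => simp
      | add p q _ _ hp hq => rw [mul_add]; exact add_mem hp hq
      | neg p _ hp => rw [mul_neg]; exact neg_mem hp
    | zero => simp
    | add p q _ _ hp hq => rw [add_mul]; exact add_mem hp hq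
    | neg p _ hp => rw [neg_mul]; exact neg_mem hp
  obtain ⟨⟨f, hf⟩, rfl⟩ := Ideal.Quotient.mk_surjective w
  induction hf using Subring.closure_induction with
  | mem y hy =>
    rcases hy with rfl | ⟨n, x, hx, rfl⟩
    · convert zero_mem (AddSubgroup.closure S)
      exact Ideal.Quotient.eq_zero_iff_mem.mpr (Ideal.mem_span_singleton_self _)
    · exact AddSubgroup.subset_closure ⟨n, x, hx, (clsZ_eq hx).symm⟩
  | zero =>
    convert zero_mem (AddSubgroup.closure S)
    exact map_zero _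
  | one =>
    have := AddSubgroup.subset_closure h1
    rw [← map_one (Ideal.Quotient.mk (Ideal.span {KGr.tGen P}))] at this
    exact this
  | add p q hp0 hq0 hp hq =>
    convert add_mem hp hq
    exact map_add (Ideal.Quotient.mk (Ideal.span {KGr.tGen P})) ⟨p, hp0⟩ ⟨q, hq0⟩
  | neg p hp0 hp =>
    convert neg_mem hp
    exact map_neg (Ideal.Quotient.mk (Ideal.span {KGr.tGen P})) ⟨p, hp0⟩
  | mul p q hp0 hq0 hp hq =>
    convert hmul _ hp _ hq
    exact map_mul (Ideal.Quotient.mk (Ideal.span {KGr.tGen P})) ⟨p, hp0⟩ ⟨q, hq0⟩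

/-! ### degree projections -/

/-- the coefficient in degree `n` modulo the next step -/
noncomputable def degProj (P : PosStructure K) (n : ℕ) : KGr.GrZ P →+ K ⧸ gammaFiltration P (n + 1) :=
  QuotientAddGroup.lift (Ideal.span {KGr.tGen P}).toAddSubgroup
    (AddMonoidHom.mk' (fun f : KGr.rees P => ((f.1.coeff (-(n : ℤ)) : K) : K ⧸ gammaFiltration P (n + 1)))
      (fun f g => by simp))
    (fun f hf => by
      obtain ⟨g, rfl⟩ := Ideal.mem_span_singleton.mp (show f ∈ Ideal.span {KGr.tGen P} from hf)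
      refine (QuotientAddGroup.eq_zero_iff _).mpr ?_
      have h := rees_coeff g.2 (-((n + 1 : ℕ) : ℤ))
      rw [neg_neg, Int.toNat_natCast] at h
      show ((T 1 : LaurentPolynomial K) * g.1).coeff (-(n : ℤ)) ∈ _
      rw [T, AddMonoidAlgebra.coeff_single_mul_eq_mul_coeff (-((n + 1 : ℕ) : ℤ))]
      · rwa [one_mul]
      · intro m _; constructor <;> intro hm <;> omega)

theorem degProj_clsZ (n m : ℕ) {x : K} (hx : x ∈ gammaFiltration P m) :
    degProj P n (clsZ P m x) = if m = n then (x : K ⧸ gammaFiltration P (n + 1)) else 0 := by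
  rw [clsZ_eq hx]
  show (((C x * T (-(m : ℤ))).coeff (-(n : ℤ)) : K) : K ⧸ gammaFiltration P (n + 1)) = _
  rw [← single_eq_C_mul_T, AddMonoidAlgebra.coeff_single, Finsupp.single_apply]
  by_cases h : m = n
  · subst h; simp
  · rw [if_neg (by omega), if_neg h]; rfl

/-! ### tensoring with `ℚ` -/

theorem torsion_of_one_tmul_eq_zero {M : Type*} [AddCommGroup M] {z : M} (h : (1 : ℚ) ⊗ₜ[ℤ] z = 0) :
    ∃ N : ℕ, 1 ≤ N ∧ N • z = 0 := by
  have hl : IsLocalizedModule (nonZeroDivisors ℤ) (TensorProduct.mk ℤ ℚ M 1) := inferInstance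
  have h' : TensorProduct.mk ℤ ℚ M 1 z = TensorProduct.mk ℤ ℚ M 1 0 := by rw [map_zero]; exact h
  obtain ⟨⟨c, hc⟩, hcz⟩ := IsLocalizedModule.exists_of_eq (S := nonZeroDivisors ℤ) h'
  rw [smul_zero] at hcz
  refine ⟨c.natAbs, Int.natAbs_pos.mpr (nonZeroDivisors.ne_zero hc), ?_⟩
  replace hcz : c • z = 0 := hcz
  rcases Int.natAbs_eq c with h0 | h0
  · rw [h0, natCast_zsmul] at hcz; exact hcz
  · rw [h0, neg_zsmul, natCast_zsmul, neg_eq_zero] at hcz; exact hcz

theorem exists_one_div_tmul {M : Type*} [AddCommGroup M] (w : ℚ ⊗[ℤ] M) :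
    ∃ (N : ℕ) (z : M), 1 ≤ N ∧ (N : ℚ) • w = (1 : ℚ) ⊗ₜ[ℤ] z := by
  induction w using TensorProduct.induction_on with
  | zero => exact ⟨1, 0, le_rfl, by simp⟩
  | tmul a z =>
    refine ⟨a.den, a.num • z, a.den_pos, ?_⟩
    rw [TensorProduct.smul_tmul', ← TensorProduct.smul_tmul]
    congr 1
    rw [smul_eq_mul, zsmul_one, mul_comm, Rat.mul_den_eq_num]
  | add a b ha hb =>
    obtain ⟨N, z, hN, h1⟩ := ha
    obtain ⟨M', z', hM, h2⟩ := hb
    refine ⟨N * M', M' • z + N • z', Nat.one_le_iff_ne_zero.mpr (Nat.mul_ne_zero (by omega) (by omega)), ?_⟩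
    rw [smul_add, TensorProduct.tmul_add]
    congr 1
    · rw [Nat.cast_mul, mul_comm, mul_smul, h1, Nat.cast_smul_eq_nsmul, ← TensorProduct.tmul_smul]
    · rw [Nat.cast_mul, mul_smul, h2, Nat.cast_smul_eq_nsmul, ← TensorProduct.tmul_smul]

theorem grK_eq {n : ℕ} {x : K} (hx : x ∈ gammaFiltration P n) :
    KGr.grK P (n : ℤ) x = (1 : ℚ) ⊗ₜ[ℤ] clsZ P n x := by
  have hN : ∀ N : ℕ, (N : K) * x ∈ gammaFiltration P n := fun N => mul_mem_left' n _ hx
  have h : ∃ N : ℕ, 1 ≤ N ∧ C ((N : K) * x) * T (-(n : ℤ)) ∈ KGr.rees P := ⟨1, le_rfl, C_mul_T_mem_rees (hN 1)⟩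
  rw [KGr.grK, dif_pos h]
  have hN0 : ((h.choose : ℕ) : ℚ) ≠ 0 := Nat.cast_ne_zero.mpr (by have := h.choose_spec.1; omega)
  have e : Ideal.Quotient.mk (Ideal.span {KGr.tGen P})
      (⟨C ((h.choose : K) * x) * T (-(n : ℤ)), h.choose_spec.2⟩ : KGr.rees P) = h.choose • clsZ P n x := by
    rw [clsZ_eq hx, ← map_nsmul]
    congr 1
    refine Subtype.ext ?_
    show C ((h.choose : K) * x) * T (-(n : ℤ)) = h.choose • (C x * T (-(n : ℤ)))
    rw [map_mul, map_natCast, nsmul_eq_mul, mul_assoc]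
  rw [e, TensorProduct.tmul_smul, TensorProduct.smul_tmul']
  congr 1
  rw [nsmul_eq_mul, one_div, mul_inv_cancel₀ hN0]

end Groth.Agent.Lam
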