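import Groth.Agent.Lam.KGrBasic

/-!
The Chern character with values in the associated graded ring.
-/

universe u v

open Finset
open scoped TensorProduct

namespace Groth.Agent.Lam

open _root_.LambdaRing

attribute [local instance] binomialLambdaOps

/-- the generic series with `d` coefficients -/
noncomputable def genSer (d : ℕ) : PowerSeries (MvPolynomial (Fin d) ℚ) :=
  PowerSeries.mk fun n => if n = 0 then 1 else if h : n - 1 < d then MvPolynomial.X ⟨n - 1, h⟩ else 0

theorem constantCoeff_genSer (d : ℕ) : PowerSeries.constantCoeff (genSer d) = 1 := by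
  rw [← PowerSeries.coeff_zero_eq_constantCoeff_apply, genSer, PowerSeries.coeff_mk, if_pos rfl]

theorem aeval_genSer {R : Type*} [CommRing R] [Algebra ℚ R] (d : ℕ) (f : PowerSeries R)
    (h0 : PowerSeries.constantCoeff f = 1) (hbig : ∀ n, d < n → PowerSeries.coeff n f = 0) :
    PowerSeries.map (MvPolynomial.aeval fun i : Fin d => PowerSeries.coeff ((i : ℕ) + 1) f).toRingHom (genSer d) = f := by
  refine PowerSeries.ext fun n => ?_
  rw [PowerSeries.coeff_map, genSer, PowerSeries.coeff_mk]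
  rcases n with _ | n
  · rw [if_pos rfl, map_one, PowerSeries.coeff_zero_eq_constantCoeff_apply, h0]
  · rw [if_neg (Nat.succ_ne_zero n)]
    split
    · next h => simp
    · next h => rw [map_zero, hbig (n + 1) (by omega)]

theorem psOp_eval {R : Type*} [CommRing R] [Algebra ℚ R] (d : ℕ) (f : PowerSeries R)
    (h0 : PowerSeries.constantCoeff f = 1) (hbig : ∀ n, d < n → PowerSeries.coeff n f = 0) (k : ℕ) :
    MvPolynomial.aeval (fun i : Fin d => PowerSeries.coeff ((i : ℕ) + 1) f) (psOp (genSer d) k) = psOp f k := by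
  conv_rhs => rw [← aeval_genSer d f h0 hbig]
  exact map_psOp (MvPolynomial.aeval (fun i : Fin d => PowerSeries.coeff ((i : ℕ) + 1) f)).toRingHom
    (constantCoeff_genSer d) k

theorem chPoly_eq (d : ℕ) :
    KGr.chPoly d = MvPolynomial.C (d : ℚ) + ∑ k ∈ range d,
      MvPolynomial.C (1 / ((k + 1).factorial : ℚ)) * psOp (genSer d) k := by
  rw [KGr.chPoly, AlgEquiv.symm_apply_eq]
  apply Subtype.ext
  set W : Fin d → MvPolynomial (Fin d) ℚ := MvPolynomial.X
  have hF : ∀ k, MvPolynomial.aeval (fun i : Fin d => MvPolynomial.esymm (Fin d) ℚ ((i : ℕ) + 1)) (psOp (genSer d) k)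
      = ((Finset.univ : Finset (Fin d)).val.map fun i => W i ^ (k + 1)).sum := by
    intro k
    have e : (fun i : Fin d => MvPolynomial.esymm (Fin d) ℚ ((i : ℕ) + 1))
        = fun i : Fin d => PowerSeries.coeff ((i : ℕ) + 1) (splitSeries ((Finset.univ : Finset (Fin d)).val.map W)) := by
      funext i
      rw [coeff_splitSeries, MvPolynomial.esymm_eq_multiset_esymm]
    rw [e, psOp_eval d _ (constantCoeff_splitSeries _) ?_, psOp_splitSeries, Multiset.map_map]
    · rfl
    · intro n hn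
      rw [coeff_splitSeries, Multiset.esymm, Multiset.powersetCard_eq_empty n (by simpa using hn)]
      simp
  refine Eq.trans ?_ (MvPolynomial.esymmAlgHom_apply (σ := Fin d) (R := ℚ) (n := d) _).symm
  rw [map_add, map_sum]
  simp only [map_mul, hF, MvPolynomial.aeval_C, Finset.sum_map_val]
  simp only [KGr.expTrunc, map_sum, map_mul, map_pow, Polynomial.aeval_C, Polynomial.aeval_X]
  rw [Finset.sum_comm, Finset.sum_range_succ', add_comm]
  congr 1
  · simp
  · refine Finset.sum_congr rfl fun k _ => ?_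
    rw [Finset.mul_sum]

variable {K : Type u} [CommRing K] [LambdaOps K] {P : PosStructure K}

/-- the integral classes in `ℚGr` -/
noncomputable def toQ (P : PosStructure K) : KGr.GrZ P →+* KGr.Gr P :=
  (Algebra.TensorProduct.includeRight : KGr.GrZ P →ₐ[ℤ] ℚ ⊗[ℤ] KGr.GrZ P).toRingHom

theorem toQ_apply (z : KGr.GrZ P) : toQ P z = (1 : ℚ) ⊗ₜ[ℤ] z := rfl

theorem aug_sub_aug (P : PosStructure K) (x : K) : P.aug (x - (P.aug x : K)) = 0 := by simp

theorem cls_big {d : ℕ} (hd : gammaFiltration P (d + 1) = ⊥) {n : ℕ} (hn : d < n) {x : K}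
    (hx : x ∈ gammaFiltration P n) : clsZ P n x = 0 := by
  have := antitone_filtration (show d + 1 ≤ n by omega) hx
  rw [hd, AddSubgroup.mem_bot] at this
  rw [this]
  exact (kGr P).cls_zero n

theorem q_mem {x : K} (hx : P.aug x = 0) (k : ℕ) :
    ∃ y ∈ gammaFiltration P (k + 1), (kGr P).q x k = clsZ P (k + 1) y := by
  set g := kGr P
  suffices H : ∀ k, ∃ y ∈ g.G (k + 1), PowerSeries.coeff k (logD (g.cs x)) = g.cls (k + 1) y by
    obtain ⟨y, hy, he⟩ := H k
    refine ⟨(-1) ^ k * y, mem_kGr.mp (Ideal.mul_mem_left _ _ hy), ?_⟩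
    rw [GrMap.q, psOp, he, ← kGr_cls]
    have := g.cls_mul (g.mem_zero ((-1 : K) ^ k)) hy
    rw [Nat.zero_add] at this
    rw [this]
    congr 1
    show _ = g.cls₀ ((-1 : K) ^ k)
    rw [map_pow, map_neg, map_one]
  intro k
  induction k using Nat.strong_induction_on with
  | _ k ih =>
    choose y hy he using ih
    have h := congrArg (PowerSeries.coeff k) (logD_mul_self (g.constantCoeff_cs x))
    rw [PowerSeries.coeff_mul, Finset.Nat.sum_antidiagonal_eq_sum_range_succ_mk, Finset.sum_range_succ, Nat.sub_self,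
      g.coeff_cs, gamma_zero, g.cls_one, mul_one, PowerSeries.coeff_derivative, g.coeff_cs] at h
    let y' : ℕ → K := fun a => if ha : a < k then y a ha * gamma (k - a) x else 0
    have hy' : ∀ a ∈ range k, y' a ∈ g.G (k + 1) := fun a ha => by
      have ha' : a < k := Finset.mem_range.mp ha
      simp only [y', dif_pos ha']
      have := g.hG.mul_mem (hy a ha') (kGr_graded hx (k - a))
      rwa [show a + 1 + (k - a) = k + 1 by omega] at this
    have h1 : ((k + 1 : ℕ) : K) * gamma (k + 1) x ∈ g.G (k + 1) := Ideal.mul_mem_left _ _ (kGr_graded hx (k + 1))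
    refine ⟨((k + 1 : ℕ) : K) * gamma (k + 1) x + -(∑ a ∈ range k, y' a),
      add_mem h1 (neg_mem (sum_mem hy')), ?_⟩
    rw [g.cls_add h1 (neg_mem (sum_mem hy')), g.cls_neg (sum_mem hy'), g.cls_sum _ _ hy']
    have e1 : g.cls (k + 1) (((k + 1 : ℕ) : K) * gamma (k + 1) x) = ((k + 1 : ℕ) : KGr.GrZ P) * g.cls (k + 1) (gamma (k + 1) x) := by
      have := g.cls_mul (g.mem_zero ((k + 1 : ℕ) : K)) (kGr_graded hx (k + 1))
      rw [Nat.zero_add] at this
      rw [this]
      congr 1
      exact map_natCast g.cls₀ _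
    have e2 : ∀ a ∈ range k, g.cls (k + 1) (y' a)
        = PowerSeries.coeff a (logD (g.cs x)) * PowerSeries.coeff (k - a) (g.cs x) := fun a ha => by
      have ha' : a < k := Finset.mem_range.mp ha
      simp only [y', dif_pos ha']
      have := g.cls_mul (hy a ha') (kGr_graded hx (k - a))
      rw [show a + 1 + (k - a) = k + 1 by omega] at this
      rw [this, he a ha', g.coeff_cs]
    rw [e1, Finset.sum_congr rfl e2]
    push_cast
    linear_combination h

theorem q_big {d : ℕ} (hd : gammaFiltration P (d + 1) = ⊥) {x : K} (hx : P.aug x = 0) {k : ℕ} (hk : d ≤ k) :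
    (kGr P).q x k = 0 := by
  obtain ⟨y, hy, he⟩ := q_mem hx k
  rw [he, cls_big hd (by omega) hy]

theorem q_mul_big {d : ℕ} (hd : gammaFiltration P (d + 1) = ⊥) {x y : K} (hx : P.aug x = 0) (hy : P.aug y = 0)
    {a b : ℕ} (h : d ≤ a + b + 1) : (kGr P).q x a * (kGr P).q y b = 0 := by
  obtain ⟨p, hp, he⟩ := q_mem hx a
  obtain ⟨p', hp', he'⟩ := q_mem hy b
  rw [he, he', ← kGr_cls, ← kGr_cls, ← (kGr P).cls_mul (mem_kGr.mpr hp) (mem_kGr.mpr hp'), kGr_cls,
    cls_big hd (by omega) (mul_mem' hp hp')]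

theorem q_neg {x : K} (hx : P.aug x = 0) (k : ℕ) : (kGr P).q (-x) k = -(kGr P).q x k := by
  have h := (kGr P).q_add (kGr_graded hx) (kGr_graded (x := -x) (by rw [map_neg, hx, neg_zero])) k
  rw [add_neg_cancel, GrMap.q_zero] at h
  exact eq_neg_of_add_eq_zero_right h.symm

theorem q_nsmul {x : K} (hx : P.aug x = 0) (m k : ℕ) : (kGr P).q (m • x) k = m • (kGr P).q x k := by
  induction m with
  | zero => rw [zero_nsmul, zero_nsmul, GrMap.q_zero]
  | succ m ih =>
    rw [succ_nsmul, succ_nsmul, (kGr P).q_add (kGr_graded (by rw [map_nsmul, hx, nsmul_zero])) (kGr_graded hx), ih]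

theorem q_zsmul {x : K} (hx : P.aug x = 0) (z : ℤ) (k : ℕ) : (kGr P).q (z • x) k = z • (kGr P).q x k := by
  obtain ⟨m, rfl | rfl⟩ := z.eq_nat_or_neg
  · rw [natCast_zsmul, natCast_zsmul, q_nsmul hx]
  · rw [neg_zsmul, neg_zsmul, natCast_zsmul, natCast_zsmul, q_neg (by rw [map_nsmul, hx, nsmul_zero]), q_nsmul hx]

theorem chPoly_aeval {S : Type u} [CommRing S] {R : Type v} [CommRing R] [Algebra ℚ R] (φ : S →+* R)
    (F : PowerSeries S) (h0 : PowerSeries.constantCoeff F = 1) (d : ℕ)
    (hbig : ∀ n, d < n → PowerSeries.coeff n F = 0) :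
    MvPolynomial.aeval (fun i : Fin d => φ (PowerSeries.coeff ((i : ℕ) + 1) F)) (KGr.chPoly d)
      = algebraMap ℚ R (d : ℚ)
        + ∑ k ∈ range d, algebraMap ℚ R (1 / ((k + 1).factorial : ℚ)) * φ (psOp F k) := by
  have h0' : PowerSeries.constantCoeff (PowerSeries.map φ F) = 1 := constantCoeff_map_one φ h0
  have hbig' : ∀ n, d < n → PowerSeries.coeff n (PowerSeries.map φ F) = 0 := fun n hn => by
    rw [PowerSeries.coeff_map, hbig n hn, map_zero]
  have hc : (fun i : Fin d => φ (PowerSeries.coeff ((i : ℕ) + 1) F))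
      = fun i : Fin d => PowerSeries.coeff ((i : ℕ) + 1) (PowerSeries.map φ F) := by
    funext i; rw [PowerSeries.coeff_map]
  rw [hc, chPoly_eq, map_add, map_sum, MvPolynomial.aeval_C]
  congr 1
  refine Finset.sum_congr rfl fun k _ => ?_
  rw [map_mul, MvPolynomial.aeval_C, psOp_eval d _ h0' hbig', ← map_psOp φ h0]

theorem chK_eq {d : ℕ} (hd : gammaFiltration P (d + 1) = ⊥) (x : K) :
    KGr.chK P d x = algebraMap ℚ (KGr.Gr P) (P.aug x : ℚ)
      + ∑ k ∈ range d, algebraMap ℚ (KGr.Gr P) (1 / ((k + 1).factorial : ℚ))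
          * toQ P ((kGr P).q (x - (P.aug x : K)) k) := by
  have hz := aug_sub_aug P x
  have hc : (fun i : Fin d => KGr.chern P (i.1 + 1) x) = fun i : Fin d =>
      toQ P (PowerSeries.coeff ((i : ℕ) + 1) ((kGr P).cs (x - (P.aug x : K)))) := by
    funext i
    rw [GrMap.coeff_cs, KGr.chern, grK_eq (gamma_mem hz _), kGr_cls, toQ_apply]
  have hbig : ∀ n, d < n → PowerSeries.coeff n ((kGr P).cs (x - (P.aug x : K))) = 0 := fun n hn => by
    rw [GrMap.coeff_cs, kGr_cls, cls_big hd hn (gamma_mem hz n)]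
  have h := chPoly_aeval (R := KGr.Gr P) (toQ P) ((kGr P).cs (x - (P.aug x : K))) ((kGr P).constantCoeff_cs _) d hbig
  rw [KGr.chK, hc, h, ← add_assoc, ← map_add, sub_add_cancel]
  rfl

theorem chK_add {d : ℕ} (hd : gammaFiltration P (d + 1) = ⊥) (x y : K) :
    KGr.chK P d (x + y) = KGr.chK P d x + KGr.chK P d y := by
  rw [chK_eq hd, chK_eq hd, chK_eq hd, map_add]
  push_cast
  rw [show x + y - ((P.aug x : K) + (P.aug y : K)) = (x - (P.aug x : K)) + (y - (P.aug y : K)) by ring]
  simp only [(kGr P).q_add (kGr_graded (aug_sub_aug P x)) (kGr_graded (aug_sub_aug P y)), map_add, mul_add,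
    Finset.sum_add_distrib]
  ring

theorem chK_one {d : ℕ} (hd : gammaFiltration P (d + 1) = ⊥) : KGr.chK P d 1 = 1 := by
  rw [chK_eq hd, map_one, Int.cast_one, Int.cast_one, map_one, sub_self]
  simp [GrMap.q_zero]

theorem chK_mul (hK : HasSplitting K P) {d : ℕ} (hd : gammaFiltration P (d + 1) = ⊥) (x y : K) :
    KGr.chK P d (x * y) = KGr.chK P d x * KGr.chK P d y := by
  set g := kGr P
  set a := P.aug x
  set b := P.aug y
  set x' := x - (a : K) with hx'
  set y' := y - (b : K) with hy'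
  have hx0 : P.aug x' = 0 := aug_sub_aug P x
  have hy0 : P.aug y' = 0 := aug_sub_aug P y
  have hz : x * y - ((P.aug (x * y) : ℤ) : K) = (a • y' + b • x') + x' * y' := by
    rw [map_mul, hx', hy']
    simp only [zsmul_eq_mul]
    push_cast
    ring
  have hq : ∀ k, g.q (x * y - ((P.aug (x * y) : ℤ) : K)) k = a • g.q y' k + b • g.q x' k
      + ∑ i ∈ range k, ((k + 1).choose (i + 1) : KGr.GrZ P) * g.q x' i * g.q y' (k - 1 - i) := by
    intro k
    rw [hz, g.q_add (gammaGraded_add g.hG (kGr_graded (by simp [hy0])) (kGr_graded (by simp [hx0])))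
      (kGr_graded (by simp [hx0])), g.q_add (kGr_graded (by simp [hy0])) (kGr_graded (by simp [hx0])),
      q_zsmul hy0, q_zsmul hx0, (q_mul g (isSpecial_of_hasSplitting hK) (kGr_graded hx0) (kGr_graded hy0) k).1]
  rw [chK_eq hd, chK_eq hd x, chK_eq hd y]
  rw [Finset.sum_congr rfl fun k (_ : k ∈ range d) =>
    congrArg (fun t => algebraMap ℚ (KGr.Gr P) (1 / ((k + 1).factorial : ℚ)) * toQ P t) (hq k)]
  simp only [map_add, map_zsmul, zsmul_eq_mul, map_mul, map_intCast, mul_add, Finset.sum_add_distrib]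
  set c : ℕ → KGr.Gr P := fun k => algebraMap ℚ (KGr.Gr P) (1 / ((k + 1).factorial : ℚ)) with hc
  set A : ℕ → KGr.Gr P := fun k => c k * toQ P (g.q x' k)
  set B : ℕ → KGr.Gr P := fun k => c k * toQ P (g.q y' k)
  have key : ∑ k ∈ range d, c k * toQ P (∑ i ∈ range k,
      ((k + 1).choose (i + 1) : KGr.GrZ P) * g.q x' i * g.q y' (k - 1 - i))
      = (∑ i ∈ range d, A i) * ∑ j ∈ range d, B j := by
    rw [Finset.sum_mul_sum, ← Finset.sum_product']
    rw [← Finset.sum_filter_add_sum_filter_not (range d ×ˢ range d) (fun p => p.1 + p.2 + 1 < d),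
      Finset.sum_eq_zero (s := Finset.filter _ _) (fun p hp => ?_) |> fun h => congrArg (_ + ·) h, add_zero]
    · simp only [map_sum, Finset.mul_sum]
      rw [Finset.sum_sigma']
      refine Finset.sum_bij' (fun p _ => (p.2, p.1 - 1 - p.2)) (fun p _ => ⟨p.1 + p.2 + 1, p.1⟩) ?_ ?_ ?_ ?_ ?_
      · rintro ⟨k, i⟩ h; simp at h ⊢; omega
      · rintro ⟨i, j⟩ h; simp at h ⊢; omega
      · rintro ⟨k, i⟩ h
        simp at h
        dsimp only
        rw [Sigma.mk.injEq]
        exact ⟨by omega, HEq.rfl⟩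
      · rintro ⟨i, j⟩ h; simp
      · rintro ⟨k, i⟩ h
        simp only [Finset.mem_sigma, Finset.mem_range] at h
        simp only [A, B, hc, map_mul, map_natCast]
        have e : (1 / ((k + 1).factorial : ℚ)) * ((k + 1).choose (i + 1) : ℚ)
            = 1 / ((i + 1).factorial : ℚ) * (1 / ((k - 1 - i + 1).factorial : ℚ)) := by
          rw [show k - 1 - i + 1 = k + 1 - (i + 1) by omega,
            ← Nat.choose_mul_factorial_mul_factorial (show i + 1 ≤ k + 1 by omega)]
          have h1 : ((i + 1).factorial : ℚ) ≠ 0 := Nat.cast_ne_zero.mpr (Nat.factorial_ne_zero _)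
          have h2 : ((k + 1 - (i + 1)).factorial : ℚ) ≠ 0 := Nat.cast_ne_zero.mpr (Nat.factorial_ne_zero _)
          have h3 : ((k + 1).choose (i + 1) : ℚ) ≠ 0 := Nat.cast_ne_zero.mpr (Nat.choose_pos (by omega)).ne'
          push_cast
          field_simp
        have e' := congrArg (algebraMap ℚ (KGr.Gr P)) e
        rw [map_mul, map_mul, map_natCast] at e'
        linear_combination (toQ P (g.q x' i) * toQ P (g.q y' (k - 1 - i))) * e'
    · simp only [Finset.mem_filter, Finset.mem_product, Finset.mem_range, not_lt] at hp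
      simp only [A, B]
      rw [show c p.1 * toQ P (g.q x' p.1) * (c p.2 * toQ P (g.q y' p.2))
        = c p.1 * c p.2 * (toQ P (g.q x' p.1) * toQ P (g.q y' p.2)) by ring, ← map_mul (toQ P),
        q_mul_big hd hx0 hy0 hp.2, map_zero, mul_zero]
  simp only [map_sum, map_mul, map_natCast] at key ⊢
  rw [key]
  simp only [A, B, hc, add_mul, mul_add, Finset.mul_sum, Finset.sum_mul]
  have e1 : ∀ i, algebraMap ℚ (KGr.Gr P) (1 / ((i + 1).factorial : ℚ)) * ((a : KGr.Gr P) * toQ P (g.q y' i))
      = (a : KGr.Gr P) * (algebraMap ℚ (KGr.Gr P) (1 / ((i + 1).factorial : ℚ)) * toQ P (g.q y' i)) :=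
    fun i => by ring
  have e2 : ∀ i, algebraMap ℚ (KGr.Gr P) (1 / ((i + 1).factorial : ℚ)) * ((b : KGr.Gr P) * toQ P (g.q x' i))
      = algebraMap ℚ (KGr.Gr P) (1 / ((i + 1).factorial : ℚ)) * toQ P (g.q x' i) * (b : KGr.Gr P) :=
    fun i => by ring
  simp only [e1, e2, Finset.sum_add_distrib]
  push_cast
  ring

theorem aug_mem_zero (hK : HasSplitting K P) {n : ℕ} (hn : 1 ≤ n) {x : K} (hx : x ∈ gammaFiltration P n) :
    P.aug x = 0 := by
  refine mem_induction (motive := fun y => P.aug y = 0) (show n ≠ 0 by omega) hx (fun l hl hle => ?_) (map_zero _)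
    (fun a b ha hb => by rw [map_add, ha, hb, add_zero]) (fun a ha => by rw [map_neg, ha, neg_zero])
  obtain ⟨p, hp, hp0⟩ : ∃ p ∈ l, 1 ≤ p.1 := by
    by_contra h
    push_neg at h
    have : (l.map Prod.fst).sum = 0 := List.sum_eq_zero fun m hm => by
      obtain ⟨p, hp, rfl⟩ := List.mem_map.mp hm
      exact Nat.lt_one_iff.mp (h p hp)
    omega
  rw [map_list_prod]
  refine List.prod_eq_zero ?_
  simp only [List.map_map, List.mem_map, Function.comp_apply]
  refine ⟨p, hp, ?_⟩
  rw [map_gammaAlg P.aug (fun n a => aug_lam hK n a) p.1, hl p hp, gamma_zero_right hp0]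

theorem lead_mem (hK : HasSplitting K P) {n : ℕ} (hn : 1 ≤ n) {x : K} (hx : x ∈ gammaFiltration P n) :
    Lead (kGr P) n x := by
  refine And.right (mem_induction (motive := fun y => P.aug y = 0 ∧ Lead (kGr P) n y) (show n ≠ 0 by omega) hx
    (fun l hl hle => ?_) ⟨map_zero _, Lead.zero _ n⟩
    (fun a b ha hb => ⟨by rw [map_add, ha.1, hb.1, add_zero], ha.2.add _ hb.2⟩)
    (fun a ha => ?_))
  · refine ⟨aug_mem_zero hK hn (prod_mem l hl hle), Lead.anti _ hle ?_⟩
    have hpos : 1 ≤ (l.map Prod.fst).sum := hn.trans hle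
    clear hle hx
    induction l with
    | nil => simp at hpos
    | cons p l ih =>
      have hp := hl p (List.mem_cons_self ..)
      have hl' : ∀ q ∈ l, P.aug q.2 = 0 := fun q hq => hl q (List.mem_cons_of_mem _ hq)
      simp only [List.map_cons, List.sum_cons, List.prod_cons] at hpos ⊢
      rcases Nat.eq_zero_or_pos p.1 with h0 | h0
      · rw [h0, gamma_zero, one_mul, zero_add]
        exact ih hl' (by omega)
      rcases Nat.eq_zero_or_pos (l.map Prod.fst).sum with h1 | h1
      · have : (l.map fun q => gamma q.1 q.2).prod = 1 := List.prod_eq_one fun m hm => by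
          obtain ⟨q, hq, rfl⟩ := List.mem_map.mp hm
          have := List.le_sum_of_mem (List.mem_map_of_mem (f := Prod.fst) hq)
          rw [show q.1 = 0 by omega, gamma_zero]
        rw [this, mul_one, h1, add_zero]
        exact lead_gamma _ (isSpecial_of_hasSplitting hK) h0 (kGr_graded hp)
      · exact Lead.mul _ (isSpecial_of_hasSplitting hK) h0 h1
          (lead_gamma _ (isSpecial_of_hasSplitting hK) h0 (kGr_graded hp)) (ih hl' h1)
  · obtain ⟨h0, hL⟩ := ha
    exact ⟨by rw [map_neg, h0, neg_zero], ⟨neg_mem hL.mem, kGr_graded (by rw [map_neg, h0, neg_zero]),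
      fun k hk => by rw [q_neg h0, hL.low k hk, neg_zero],
      fun k hk => by rw [q_neg h0, hL.top k hk, (kGr P).cls_neg hL.mem, mul_neg]⟩⟩

/-- the additive Chern character -/
noncomputable def chAdd (P : PosStructure K) {d : ℕ} (hd : gammaFiltration P (d + 1) = ⊥) : K →+ KGr.Gr P :=
  AddMonoidHom.mk' (KGr.chK P d) (chK_add hd)

theorem chK_of_mem (hK : HasSplitting K P) {d : ℕ} (hd : gammaFiltration P (d + 1) = ⊥) {n : ℕ} (hn : 1 ≤ n)
    {x : K} (hx : x ∈ gammaFiltration P n) :
    KGr.chK P d x = ∑ k ∈ range d, algebraMap ℚ (KGr.Gr P) (1 / ((k + 1).factorial : ℚ)) * toQ P ((kGr P).q x k) := by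
  rw [chK_eq hd, aug_mem_zero hK hn hx, Int.cast_zero, map_zero, zero_add, Int.cast_zero, sub_zero]

theorem chK_surj (hK : HasSplitting K P) {d : ℕ} (hd : gammaFiltration P (d + 1) = ⊥)
    (R : Submodule ℚ (KGr.Gr P)) (hR : ∀ x, KGr.chK P d x ∈ R) : R = ⊤ := by
  have key : ∀ j n, d + 1 ≤ n + j → ∀ x ∈ gammaFiltration P n, toQ P (clsZ P n x) ∈ R := by
    intro j
    induction j with
    | zero => intro n hn x hx; rw [cls_big hd (by omega) hx, map_zero]; exact zero_mem _
    | succ j ih =>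
      intro n hn x hx
      by_cases hn' : d + 1 ≤ n + j
      · exact ih n hn' x hx
      rcases Nat.eq_zero_or_pos n with rfl | hpos
      · have h0 : clsZ P 0 x = ((P.aug x : ℤ) : KGr.GrZ P) := by
          have h1 : (kGr P).cls 0 (x - (P.aug x : K)) = 0 := (kGr P).cls_succ (mem_kGr.mpr (mem_one (aug_sub_aug P x)))
          change (kGr P).cls₀ (x - (P.aug x : K)) = 0 at h1
          rw [map_sub, map_intCast, sub_eq_zero] at h1
          exact h1
        rw [h0, map_intCast, ← Int.cast_smul_eq_zsmul ℚ (P.aug x) (1 : KGr.Gr P) |>.trans (zsmul_one _),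
          ← chK_one (P := P) hd]
        exact R.smul_mem _ (hR 1)
      · have hL := lead_mem hK hpos hx
        have hm := hR x
        rw [chK_of_mem hK hd hpos hx, ← Finset.add_sum_erase _ _ (Finset.mem_range.mpr (show n - 1 < d by omega))] at hm
        have hrest : ∑ k ∈ (range d).erase (n - 1),
            algebraMap ℚ (KGr.Gr P) (1 / ((k + 1).factorial : ℚ)) * toQ P ((kGr P).q x k) ∈ R := by
          refine sum_mem fun k hk => ?_
          rcases Nat.lt_or_ge (k + 1) n with h | h
          · rw [hL.low k h, map_zero, mul_zero]; exact zero_mem _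
          · obtain ⟨y, hy, he⟩ := q_mem (aug_mem_zero hK hpos hx) k
            rw [he, ← Algebra.smul_def]
            refine R.smul_mem _ (ih (k + 1) ?_ y hy)
            have := (Finset.mem_erase.mp hk).1
            omega
        have h2 := (add_mem_cancel_right hrest).mp hm
        rw [hL.top (n - 1) (by omega), show n - 1 + 1 = n by omega, map_mul, map_natCast,
          ← map_natCast (algebraMap ℚ (KGr.Gr P)), ← mul_assoc, ← map_mul,
          one_div_mul_cancel (Nat.cast_ne_zero.mpr (Nat.factorial_ne_zero n)), map_one, one_mul, kGr_cls] at h2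
        exact h2
  rw [eq_top_iff]
  intro w hw
  clear hw
  induction w using TensorProduct.induction_on with
  | zero => exact zero_mem _
  | add a b ha hb => exact add_mem ha hb
  | tmul a z =>
    have hz : (1 : ℚ) ⊗ₜ[ℤ] z ∈ R := by
      have := grZ_mem_closure z
      induction this using AddSubgroup.closure_induction with
      | mem y hy => obtain ⟨n, x, hx, rfl⟩ := hy; exact key (d + 1) n (by omega) x hx
      | zero => rw [TensorProduct.tmul_zero]; exact zero_mem _
      | add p q _ _ hp hq => rw [TensorProduct.tmul_add]; exact add_mem hp hq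
      | neg p _ hp => rw [TensorProduct.tmul_neg]; exact neg_mem hp
    have := R.smul_mem a hz
    rwa [TensorProduct.smul_tmul', smul_eq_mul, mul_one] at this

theorem chK_ker (hK : HasSplitting K P) {d : ℕ} (hd : gammaFiltration P (d + 1) = ⊥) {x : K}
    (hx : KGr.chK P d x = 0) : ∃ N : ℕ, 1 ≤ N ∧ N • x = 0 := by
  set g := kGr P
  have hint : ∀ x : K, KGr.chK P d x = 0 → ∃ M : ℕ, 1 ≤ M ∧ M • (((d.factorial : ℤ) * P.aug x : ℤ) : KGr.GrZ P)
      + M • ∑ k ∈ range d, (d.factorial / (k + 1).factorial : ℕ) • g.q (x - (P.aug x : K)) k = 0 := by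
    intro x hx
    have h : toQ P ((((d.factorial : ℤ) * P.aug x : ℤ) : KGr.GrZ P)
        + ∑ k ∈ range d, (d.factorial / (k + 1).factorial : ℕ) • g.q (x - (P.aug x : K)) k) = 0 := by
      rw [← mul_zero (algebraMap ℚ (KGr.Gr P) (d.factorial : ℚ)), ← hx, chK_eq hd, map_add, map_intCast, map_sum,
        mul_add, Finset.mul_sum, ← map_mul]
      congr 1
      · push_cast; simp
      · refine Finset.sum_congr rfl fun k hk => ?_
        rw [map_nsmul, nsmul_eq_mul, ← map_natCast (algebraMap ℚ (KGr.Gr P)), ← mul_assoc, ← map_mul,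
          Nat.cast_div (Nat.factorial_dvd_factorial (by simp at hk; omega)) (Nat.cast_ne_zero.mpr (Nat.factorial_ne_zero _))]
        rw [mul_one_div]
    obtain ⟨M, hM, hMz⟩ := torsion_of_one_tmul_eq_zero h
    exact ⟨M, hM, by rw [← smul_add]; exact hMz⟩
  have hproj : ∀ x : K, KGr.chK P d x = 0 → ∀ n, n ≤ d → (n = 0 → P.aug x = 0) ∧
      (1 ≤ n → x ∈ gammaFiltration P n → ∃ M : ℕ, 1 ≤ M ∧ M • x ∈ gammaFiltration P (n + 1)) := by
    intro x hx n hn
    obtain ⟨M, hM, hMz⟩ := hint x hx
    have h := congrArg (degProj P n) hMz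
    have hi : ∀ z : ℤ, degProj P n (z : KGr.GrZ P) = if 0 = n then ((z : K) : K ⧸ gammaFiltration P (n + 1)) else 0 := by
      intro z
      rw [← degProj_clsZ n 0 (show (z : K) ∈ gammaFiltration P 0 by rw [gammaFiltration_zero]; trivial)]
      congr 1
      exact (map_intCast g.cls₀ z).symm
    rw [map_add, map_nsmul, map_nsmul, map_sum, map_zero, hi] at h
    refine ⟨?_, fun hpos hmem => ?_⟩
    · rintro rfl
      rw [if_pos rfl, Finset.sum_eq_zero, nsmul_zero, add_zero, ← QuotientAddGroup.mk_nsmul,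
        QuotientAddGroup.eq_zero_iff] at h
      · have := aug_mem_zero hK le_rfl h
        rw [map_nsmul, map_intCast, nsmul_eq_mul, Int.cast_id, mul_eq_zero, mul_eq_zero] at this
        rcases this with h1 | h1 | h1
        · exact absurd h1 (by exact_mod_cast (show M ≠ 0 by omega))
        · exact absurd h1 (by exact_mod_cast Nat.factorial_ne_zero d)
        · exact h1
      · intro k _
        obtain ⟨y, hy, he⟩ := q_mem (aug_sub_aug P x) k
        rw [map_nsmul, he, degProj_clsZ 0 (k + 1) hy, if_neg (by omega), nsmul_zero]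
    · have h0 : P.aug x = 0 := aug_mem_zero hK hpos hmem
      have hL := lead_mem hK hpos hmem
      rw [h0, mul_zero, Int.cast_zero, if_neg (by omega), nsmul_zero, zero_add,
        Finset.sum_eq_single (n - 1)] at h
      · rw [sub_zero, hL.top (n - 1) (by omega), ← nsmul_eq_mul, ← mul_nsmul, map_nsmul, kGr_cls,
          show n - 1 + 1 = n by omega, Nat.mul_div_cancel' (Nat.factorial_dvd_factorial hn),
          degProj_clsZ n n hmem, if_pos rfl, ← mul_nsmul, ← QuotientAddGroup.mk_nsmul,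
          QuotientAddGroup.eq_zero_iff] at h
        exact ⟨_, Nat.one_le_iff_ne_zero.mpr (Nat.mul_ne_zero (Nat.factorial_ne_zero d) (by omega)), h⟩
      · intro k hk hne
        obtain ⟨y, hy, he⟩ := q_mem h0 k
        rw [sub_zero, map_nsmul, he, degProj_clsZ n (k + 1) hy, if_neg (by omega), nsmul_zero]
      · intro hk; simp at hk; omega
  have h0 := (hproj x hx 0 (Nat.zero_le d)).1 rfl
  have hind : ∀ n, n ≤ d + 1 → 1 ≤ n → ∃ N : ℕ, 1 ≤ N ∧ N • x ∈ gammaFiltration P n := by
    intro n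
    induction n with
    | zero => intro _ h; omega
    | succ n ih =>
      intro hn _
      rcases Nat.eq_zero_or_pos n with rfl | hpos
      · exact ⟨1, le_rfl, by rw [one_nsmul]; exact mem_one h0⟩
      obtain ⟨N, hN, hmem⟩ := ih (by omega) hpos
      have hNx : KGr.chK P d (N • x) = 0 := by
        show chAdd P hd (N • x) = 0
        rw [map_nsmul]
        show N • KGr.chK P d x = 0
        rw [hx, nsmul_zero]
      obtain ⟨M, hM, hmem'⟩ := (hproj _ hNx n (by omega)).2 hpos hmem
      exact ⟨N * M, Nat.one_le_iff_ne_zero.mpr (Nat.mul_ne_zero (by omega) (by omega)), by rwa [mul_nsmul]⟩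
  obtain ⟨N, hN, hmem⟩ := hind (d + 1) le_rfl (Nat.le_add_left 1 d)
  rw [hd, AddSubgroup.mem_bot] at hmem
  exact ⟨N, hN, hmem⟩

theorem chK_bijective (hK : HasSplitting K P) {d : ℕ} (hd : gammaFiltration P (d + 1) = ⊥) :
    ∃ Φ : ℚ ⊗[ℤ] K →ₗ[ℚ] KGr.Gr P, (∀ x : K, Φ ((1 : ℚ) ⊗ₜ[ℤ] x) = KGr.chK P d x) ∧ Function.Bijective Φ := by
  refine ⟨LinearMap.liftBaseChange ℚ (chAdd P hd).toIntLinearMap, fun x => ?_, ?_, ?_⟩
  · simp [chAdd]
  · rw [injective_iff_map_eq_zero]
    intro w hw
    obtain ⟨N, z, hN, hz⟩ := exists_one_div_tmul w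
    have hch : KGr.chK P d z = 0 := by
      have := congrArg (LinearMap.liftBaseChange ℚ (chAdd P hd).toIntLinearMap) hz
      rw [map_smul, hw, smul_zero] at this
      simpa [chAdd] using this.symm
    obtain ⟨M, hM, hMz⟩ := chK_ker hK hd hch
    have h1 : ((M : ℚ) * (N : ℚ)) • w = 0 := by
      rw [mul_smul, hz, Nat.cast_smul_eq_nsmul, ← TensorProduct.tmul_smul, hMz, TensorProduct.tmul_zero]
    exact (smul_eq_zero.mp h1).resolve_left
      (mul_ne_zero (Nat.cast_ne_zero.mpr (by omega)) (Nat.cast_ne_zero.mpr (by omega)))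
  · rw [← LinearMap.range_eq_top]
    exact chK_surj hK hd _ fun x => ⟨(1 : ℚ) ⊗ₜ[ℤ] x, by simp [chAdd]⟩

end Groth.Agent.Lam
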