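import Groth.Agent.Lam.KGrChern
import Groth.Agent.Lam.Inv

/-!
Todd class and top Chern class.
-/

universe u v

open Finset
open scoped TensorProduct

namespace Groth.Agent.Lam

open _root_.LambdaRing

/-! ### the dual classes -/

/-- coefficient series `∏ ((1 + X_a) - X_a t)` -/
noncomputable def dualSer (m : ℕ) : PowerSeries (MvPolynomial (Fin m) ℤ) :=
  ∏ a : Fin m, (PowerSeries.C (1 + MvPolynomial.X a) + PowerSeries.C (-MvPolynomial.X a) * PowerSeries.X)

theorem dualSer_symm (m i : ℕ) : (PowerSeries.coeff i (dualSer m)).IsSymmetric := by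
  intro σ
  have h : PowerSeries.map (MvPolynomial.rename σ : MvPolynomial (Fin m) ℤ →ₐ[ℤ] _).toRingHom (dualSer m) = dualSer m := by
    rw [dualSer, map_prod]
    simp only [map_add, map_mul, PowerSeries.map_C, PowerSeries.map_X, AlgHom.toRingHom_eq_coe, RingHom.coe_coe,
      map_neg, map_one, MvPolynomial.rename_X]
    exact Fintype.prod_equiv σ _ _ fun _ => rfl
  have := congrArg (PowerSeries.coeff i) h
  rw [PowerSeries.coeff_map] at this
  exact this

theorem dualSer_congr (m i : ℕ) :
    PowerSeries.coeff i (dualSer m) - (-1) ^ i * MvPolynomial.esymm (Fin m) ℤ i ∈ OI (Fin m) (i + 1) := by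
  classical
  set F : Fin m → PowerSeries (SR (Fin m)) := fun a =>
    PowerSeries.C (1 + MvPolynomial.X a) + PowerSeries.C (-MvPolynomial.X a) * PowerSeries.X
  set G : Fin m → PowerSeries (SR (Fin m)) := fun a => 1 + PowerSeries.C (-MvPolynomial.X a) * PowerSeries.X
  have hX : ∀ a : Fin m, (-MvPolynomial.X a : SR (Fin m)) ∈ OI (Fin m) 1 := fun a => neg_mem (X_mem_OI a)
  have hgF : ∀ a, GradedSer (F a) := fun a n => by
    rcases n with _ | _ | n
    · rw [OI_zero]; trivial
    · simpa [F, PowerSeries.coeff_C] using hX a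
    · simp [F, PowerSeries.coeff_C, PowerSeries.coeff_X]
  have hgG : ∀ a, GradedSer (G a) := fun a n => by
    rcases n with _ | _ | n
    · rw [OI_zero]; trivial
    · simpa [G, PowerSeries.coeff_one] using hX a
    · simp [G, PowerSeries.coeff_one, PowerSeries.coeff_X]
  have h1 : GradedSer (1 : PowerSeries (SR (Fin m))) := fun n => by
    rw [PowerSeries.coeff_one]
    split
    · next h => subst h; rw [OI_zero]; trivial
    · exact zero_mem _
  have key : ∀ S : Finset (Fin m), GradedSer (∏ a ∈ S, F a) ∧ GradedSer (∏ a ∈ S, G a) ∧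
      ∀ n, PowerSeries.coeff n ((∏ a ∈ S, F a) - ∏ a ∈ S, G a) ∈ OI (Fin m) (n + 1) := by
    intro S
    induction S using Finset.induction_on with
    | empty => exact ⟨by simpa using h1, by simpa using h1, fun n => by simp⟩
    | insert a S ha ih =>
      obtain ⟨hF, hG, hd⟩ := ih
      rw [Finset.prod_insert ha, Finset.prod_insert ha]
      refine ⟨(hgF a).mul hF, (hgG a).mul hG, fun n => ?_⟩
      rw [show F a * ∏ b ∈ S, F b - G a * ∏ b ∈ S, G b
        = PowerSeries.C (MvPolynomial.X a) * ∏ b ∈ S, F b + G a * ((∏ b ∈ S, F b) - ∏ b ∈ S, G b) by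
          simp only [F, G, map_add, map_one]; ring,
        map_add, PowerSeries.coeff_C_mul]
      refine add_mem ?_ ?_
      · have := OI_mul (X_mem_OI a) (hF n)
        rwa [Nat.add_comm] at this
      · rw [PowerSeries.coeff_mul]
        refine sum_mem fun p hp => ?_
        have := OI_mul (hgG a p.1) (hd p.2)
        rwa [show p.1 + (p.2 + 1) = n + 1 by rw [Finset.mem_antidiagonal] at hp; omega] at this
  have h := (key Finset.univ).2.2 i
  rw [map_sub] at h
  have eG : PowerSeries.coeff i (∏ a, G a) = (-1) ^ i * MvPolynomial.esymm (Fin m) ℤ i := by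
    have e : (∏ a, G a) = splitSeries (((Finset.univ : Finset (Fin m)).val.map
        fun a => (MvPolynomial.X a : SR (Fin m))).map fun x : SR (Fin m) => x * (-1)) := by
      rw [splitSeries, Multiset.map_map, Multiset.map_map, Finset.prod_eq_multiset_prod]
      refine congrArg Multiset.prod (Multiset.map_congr rfl fun a _ => ?_)
      simp only [G, Function.comp_apply, mul_neg_one]
    rw [e, coeff_splitSeries, esymm_map_mul, MvPolynomial.esymm_eq_multiset_esymm, mul_comm]
  rw [eG] at h
  exact h

attribute [local instance] binomialLambdaOps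

variable {K : Type u} [CommRing K] [LambdaOps K] {P : PosStructure K} {inv : K → K}

theorem cls_gamma_inv (hK : HasSplitting K P) (hV : IsInvolution P inv) (hS : HasInvSplitting P inv) {e : K}
    (he : e ∈ P.pos) (i : ℕ) :
    clsZ P i (gamma i (inv e - ((P.aug e).toNat : K)))
      = (-1) ^ i * clsZ P i (gamma i (e - ((P.aug e).toNat : K))) := by
  classical
  set m := (P.aug e).toNat with hm
  obtain ⟨q, hq⟩ := exists_eHom_eq (σ := Fin m) (n := m) (by simp) (dualSer_symm m i)
  -- the identity in `K`
  obtain ⟨L, inv', f, hf, hV', hcomm, s, hs, hsum⟩ := hS e he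
  have hc : Multiset.card s = m := by
    rw [hm, ← hf.aug_comp, ← hsum, aug_sum_lines hs, Int.toNat_natCast]
  obtain ⟨u0, hu0⟩ := exists_family hc
  have hl : ∀ a, L.posStr.IsLine (u0 a) := fun a =>
    hs _ (by rw [← hu0]; exact Multiset.mem_map_of_mem _ (Finset.mem_univ a))
  have hfi : f (inv e) = (s.map inv').sum := by
    rw [hcomm, ← hsum]
    exact map_multiset_sum (AddMonoidHom.mk' inv' hV'.map_add) s
  have hs' : ∀ w ∈ s.map inv', L.posStr.IsLine w := by
    intro w hw
    obtain ⟨w', hw', rfl⟩ := Multiset.mem_map.mp hw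
    exact hV'.inv_line w' (hs w' hw')
  have hd1 : f (LambdaOps.lam m e) = s.prod := by
    rw [hf.isLambdaHom, ← hsum, lam_lines hs, ← hc, esymm_card]
  have hd2 : f (gamma i (inv e - (m : K))) = ((s.map inv').map fun w => w - 1).esymm i := by
    rw [map_gamma hf, map_sub, map_natCast, hfi, ← hc,
      show (Multiset.card s : L.carrier) = ((Multiset.card (s.map inv') : ℕ) : L.carrier) by rw [Multiset.card_map],
      gamma_lines hs']
  have hd3 : ∀ k, f (gamma k (e - (m : K))) = (s.map fun w => w - 1).esymm k := fun k => by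
    rw [map_gamma hf, map_sub, map_natCast, ← hsum, ← hc, gamma_lines hs]
  have hid : gamma i (inv e - (m : K)) * LambdaOps.lam m e
      = MvPolynomial.aeval (fun k : Fin m => gamma ((k : ℕ) + 1) (e - (m : K))) q := by
    apply hf.injective
    rw [map_mul, hd1, hd2, map_aeval_int]
    have hval : (fun k : Fin m => f (gamma ((k : ℕ) + 1) (e - (m : K))))
        = fun k : Fin m => MvPolynomial.aeval (fun a => u0 a - 1) (MvPolynomial.esymm (Fin m) ℤ ((k : ℕ) + 1)) := by
      funext k
      rw [hd3, aeval_esymm_fin, ← hu0, Multiset.map_map]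
      rfl
    rw [hval, ← MvPolynomial.comp_aeval_apply]
    change _ = MvPolynomial.aeval (fun a => u0 a - 1) (eHom _ _ q)
    rw [hq]
    have hser : PowerSeries.map (MvPolynomial.aeval (fun a => u0 a - 1) : MvPolynomial _ ℤ →ₐ[ℤ] L.carrier).toRingHom
        (dualSer _) = PowerSeries.C s.prod * splitSeries ((s.map inv').map fun w => w - 1) := by
      rw [dualSer, map_prod, splitSeries, Multiset.map_map, Multiset.map_map]
      conv_rhs => rw [← hu0, Multiset.map_map, map_multiset_prod, Multiset.map_map, ← Multiset.prod_map_mul]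
      refine Finset.prod_congr rfl fun a _ => ?_
      simp only [map_add, map_mul, PowerSeries.map_C, PowerSeries.map_X, AlgHom.toRingHom_eq_coe, RingHom.coe_coe,
        map_neg, map_one, MvPolynomial.aeval_X, Function.comp_apply, map_sub]
      have h1 : PowerSeries.C (inv' (u0 a)) * PowerSeries.C (u0 a) = (1 : PowerSeries L.carrier) := by
        rw [← map_mul, hV'.inv_mul_self _ (hl a), map_one]
      linear_combination (-PowerSeries.X) * h1
    have := congrArg (PowerSeries.coeff i) hser
    rw [PowerSeries.coeff_map, PowerSeries.coeff_C_mul, coeff_splitSeries] at this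
    rw [mul_comm]
    exact this.symm
  -- weights
  have hlow : ∀ w, w < i + 1 → MvPolynomial.weightedHomogeneousComponent (fun k : Fin m => (k : ℕ) + 1) w
      (q - (-1) ^ i * PowerSeries.coeff i (PowerSeries.mk fun n => if n = 0 then 1 else
        if h : n - 1 < m then MvPolynomial.X ⟨n - 1, h⟩ else 0)) = 0 := by
    intro w hw
    apply eHom_injective (R := ℤ) (σ := Fin m) (n := m) (by simp)
    have hg : ∀ k : Fin m, MvPolynomial.IsWeightedHomogeneous (fun _ : Fin m => (1 : ℕ))
        (MvPolynomial.esymm (Fin m) ℤ ((k : ℕ) + 1)) ((k : ℕ) + 1) := fun k => by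
      have := isWeightedHomogeneous_multiset_esymm (v := fun _ : Fin m => (1 : ℕ)) (d := 1)
        ((Finset.univ : Finset (Fin m)).val.map MvPolynomial.X)
        (fun a ha => by
          obtain ⟨l, -, rfl⟩ := Multiset.mem_map.mp ha
          exact MvPolynomial.isWeightedHomogeneous_X ℤ _ _) ((k : ℕ) + 1)
      rw [MvPolynomial.esymm_eq_multiset_esymm]
      simpa using this
    rw [map_zero, eHom, ← weightedHomogeneousComponent_aeval hg]
    refine (hc_eq_zero (n := w) (Fin m) ?_ : MvPolynomial.homogeneousComponent w _ = 0)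
    refine OI_anti (show w + 1 ≤ i + 1 by omega) ?_
    have e1 : MvPolynomial.aeval (fun k : Fin m => MvPolynomial.esymm (Fin m) ℤ ((k : ℕ) + 1))
        (PowerSeries.coeff i (PowerSeries.mk fun n => if n = 0 then (1 : MvPolynomial (Fin m) ℤ) else
          if h : n - 1 < m then MvPolynomial.X ⟨n - 1, h⟩ else 0)) = MvPolynomial.esymm (Fin m) ℤ i := by
      rw [PowerSeries.coeff_mk]
      rcases i with _ | i
      · simp
      · rw [if_neg (Nat.succ_ne_zero i)]
        split
        · simp
        · rw [map_zero, MvPolynomial.esymm, Finset.powersetCard_eq_empty.mpr (by simp; omega)]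
          simp
    have e2 : MvPolynomial.aeval (fun k : Fin m => MvPolynomial.esymm (Fin m) ℤ ((k : ℕ) + 1)) q
        = PowerSeries.coeff i (dualSer m) := hq
    rw [map_sub, map_mul, map_pow, map_neg, map_one, e1, e2]
    exact dualSer_congr m i
  have haug : P.aug (e - (m : K)) = 0 := aug_sub_natCast he
  have hmem := aeval_gamma_mem (P := P) haug _ (i + 1) hlow
  have hv : ∀ k, m < k → gamma k (e - (m : K)) = 0 := fun k hk => by
    refine gamma_rank_vanish (lam_one_pos P) (fun l hl => hf.injective ?_) hk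
    rw [map_zero, hf.isLambdaHom, ← hsum, lam_lines hs, Multiset.esymm, Multiset.powersetCard_eq_empty l (by omega)]
    simp
  have e3 : MvPolynomial.aeval (fun k : Fin m => gamma ((k : ℕ) + 1) (e - (m : K)))
      (PowerSeries.coeff i (PowerSeries.mk fun n => if n = 0 then (1 : MvPolynomial (Fin m) ℤ) else
        if h : n - 1 < m then MvPolynomial.X ⟨n - 1, h⟩ else 0)) = gamma i (e - (m : K)) := by
    rw [PowerSeries.coeff_mk]
    rcases i with _ | i
    · simp [gamma_zero]
    · rw [if_neg (Nat.succ_ne_zero i)]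
      split
      · simp
      · rw [map_zero, hv (i + 1) (by omega)]
  rw [map_sub, map_mul, map_pow, map_neg, map_one, e3, ← hid] at hmem
  set g := kGr P
  have hi : P.aug (inv e - (m : K)) = 0 := by
    rw [map_sub, hV.aug_inv, map_natCast, hm, Int.toNat_of_nonneg (P.aug_pos e he).le, sub_self]
  have hD : P.aug (LambdaOps.lam m e) = 1 := by
    rw [aug_lam hK, show P.aug e = (m : ℤ) by rw [hm, Int.toNat_of_nonneg (P.aug_pos e he).le], Ring.choose_natCast,
      Nat.choose_self, Nat.cast_one]
  have h2 := g.cls_succ (mem_kGr.mpr hmem)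
  have m1 : gamma i (inv e - (m : K)) * LambdaOps.lam m e ∈ g.G i := Ideal.mul_mem_right _ _ (kGr_graded hi i)
  have m2 : (-1 : K) ^ i * gamma i (e - (m : K)) ∈ g.G i := Ideal.mul_mem_left _ _ (kGr_graded haug i)
  rw [sub_eq_add_neg, g.cls_add m1 (neg_mem m2), g.cls_neg m2, ← sub_eq_add_neg, sub_eq_zero] at h2
  have c1 := g.cls_mul (kGr_graded hi i) (g.mem_zero (LambdaOps.lam m e))
  rw [Nat.add_zero] at c1
  have c2 := g.cls_mul (g.mem_zero ((-1 : K) ^ i)) (kGr_graded haug i)
  rw [Nat.zero_add] at c2
  have c3 : g.cls 0 (LambdaOps.lam m e) = 1 := by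
    have : g.cls₀ (LambdaOps.lam m e - 1) = 0 :=
      g.cls_succ (mem_kGr.mpr (mem_one (by rw [map_sub, hD, map_one, sub_self])))
    rwa [map_sub, map_one, sub_eq_zero] at this
  rw [c1, c2, c3, mul_one] at h2
  rw [← kGr_cls, ← kGr_cls, h2]
  congr 1
  show g.cls₀ _ = _
  rw [map_pow, map_neg, map_one]

end Groth.Agent.Lam
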