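import Groth.Agent.Lam.KGrTodd
import Mathlib.NumberTheory.Bernoulli

/-!
`td(e) · ch(λ₋₁(e^∨))` is the top Chern class.
-/

universe u v w

open Finset
open scoped TensorProduct

namespace Groth.Agent.Lam

open _root_.LambdaRing

/-! ### one variable -/

/-- truncation of `exp - 1` -/
noncomputable def expM1 (d : ℕ) : Polynomial ℚ :=
  ∑ k ∈ range d, Polynomial.C (1 / ((k + 1).factorial : ℚ)) * Polynomial.X ^ (k + 1)

theorem toddTrunc_mul_expM1 (d : ℕ) :
    Polynomial.X ^ (d + 1) ∣ KGr.toddTrunc d * (expM1 d).comp (-Polynomial.X) + Polynomial.X := by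
  rw [Polynomial.X_pow_dvd_iff]
  intro n hn
  set T : PowerSeries ℚ := ((KGr.toddTrunc d : Polynomial ℚ) : PowerSeries ℚ) with hT
  set E : PowerSeries ℚ := (((expM1 d).comp (-Polynomial.X) : Polynomial ℚ) : PowerSeries ℚ) with hE
  have key : bernoulli'PowerSeries ℚ * (PowerSeries.evalNegHom (PowerSeries.exp ℚ) - 1) = -PowerSeries.X := by
    have h := bernoulli'PowerSeries_mul_exp_sub_one ℚ
    have h2 := PowerSeries.exp_mul_exp_neg_eq_one (A := ℚ)
    linear_combination (-(PowerSeries.evalNegHom (PowerSeries.exp ℚ))) * h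
      + (bernoulli'PowerSeries ℚ - PowerSeries.X) * h2
  have cT : ∀ k, k ≤ d → PowerSeries.coeff k T = PowerSeries.coeff k (bernoulli'PowerSeries ℚ) := by
    intro k hk
    rw [hT, Polynomial.coeff_coe, bernoulli'PowerSeries, PowerSeries.coeff_mk, KGr.toddTrunc,
      Polynomial.finsetSum_coeff, Finset.sum_eq_single k]
    · simp
    · intro l _ hl; rw [Polynomial.coeff_C_mul_X_pow, if_neg (Ne.symm hl)]
    · intro h; simp at h; omega
  have cE : ∀ k, k ≤ d → PowerSeries.coeff k E
      = PowerSeries.coeff k (PowerSeries.evalNegHom (PowerSeries.exp ℚ) - 1) := by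
    intro k hk
    have e : (expM1 d).comp (-Polynomial.X)
        = ∑ l ∈ range d, Polynomial.C ((-1) ^ (l + 1) * (1 / ((l + 1).factorial : ℚ))) * Polynomial.X ^ (l + 1) := by
      rw [expM1, Polynomial.sum_comp]
      refine Finset.sum_congr rfl fun l _ => ?_
      rw [Polynomial.mul_comp, Polynomial.pow_comp, Polynomial.C_comp, Polynomial.X_comp, neg_pow, map_mul, map_pow,
        map_neg, map_one]
      ring
    rw [hE, Polynomial.coeff_coe, e, Polynomial.finsetSum_coeff, map_sub, PowerSeries.evalNegHom,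
      PowerSeries.coeff_rescale, PowerSeries.coeff_exp, PowerSeries.coeff_one]
    rcases k with _ | k
    · simp
    · rw [Finset.sum_eq_single k]
      · rw [Polynomial.coeff_C_mul_X_pow, if_pos rfl]
        simp
      · intro l _ hl; rw [Polynomial.coeff_C_mul_X_pow, if_neg (by omega)]
      · intro h; simp at h; omega
  have h3 : PowerSeries.coeff n (T * E) = PowerSeries.coeff n (-PowerSeries.X : PowerSeries ℚ) := by
    rw [← key, PowerSeries.coeff_mul, PowerSeries.coeff_mul]
    refine Finset.sum_congr rfl fun p hp => ?_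
    rw [Finset.mem_antidiagonal] at hp
    rw [cT _ (by omega), cE _ (by omega)]
  rw [hT, hE, ← Polynomial.coe_mul, Polynomial.coeff_coe, map_neg] at h3
  rw [Polynomial.coeff_add, h3, ← Polynomial.coe_X, Polynomial.coeff_coe]
  ring

/-! ### the convolution -/

theorem conv_exp {R : Type*} [CommRing R] [Algebra ℚ R] (d : ℕ) (p q : ℕ → R)
    (hbig : ∀ i j, i < d → j < d → d ≤ i + j + 1 → p i * q j = 0) :
    ∑ k ∈ range d, algebraMap ℚ R (1 / ((k + 1).factorial : ℚ)) *
        ∑ i ∈ range k, ((k + 1).choose (i + 1) : R) * p i * q (k - 1 - i)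
      = (∑ i ∈ range d, algebraMap ℚ R (1 / ((i + 1).factorial : ℚ)) * p i) *
        ∑ j ∈ range d, algebraMap ℚ R (1 / ((j + 1).factorial : ℚ)) * q j := by
  classical
  rw [Finset.sum_mul_sum, ← Finset.sum_product']
  rw [← Finset.sum_filter_add_sum_filter_not (range d ×ˢ range d) (fun p => p.1 + p.2 + 1 < d),
    Finset.sum_eq_zero (s := Finset.filter _ _) (fun r hr => ?_) |> fun h => congrArg (_ + ·) h, add_zero]
  · simp only [Finset.mul_sum]
    rw [Finset.sum_sigma']
    refine Finset.sum_bij' (fun r _ => (r.2, r.1 - 1 - r.2)) (fun r _ => ⟨r.1 + r.2 + 1, r.1⟩) ?_ ?_ ?_ ?_ ?_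
    · rintro ⟨k, i⟩ h; simp at h ⊢; omega
    · rintro ⟨i, j⟩ h; simp at h ⊢; omega
    · rintro ⟨k, i⟩ h
      simp at h
      dsimp only
      rw [Sigma.mk.injEq]
      exact ⟨by omega, HEq.rfl⟩
    · rintro ⟨i, j⟩ h; simp
    · rintro ⟨k, i⟩ h
      simp only [Finset.mem_sigma, Finset.mem_range] at h
      have e : (1 / ((k + 1).factorial : ℚ)) * ((k + 1).choose (i + 1) : ℚ)
          = 1 / ((i + 1).factorial : ℚ) * (1 / ((k - 1 - i + 1).factorial : ℚ)) := by
        rw [show k - 1 - i + 1 = k + 1 - (i + 1) by omega,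
          ← Nat.choose_mul_factorial_mul_factorial (show i + 1 ≤ k + 1 by omega)]
        have h1 : ((i + 1).factorial : ℚ) ≠ 0 := Nat.cast_ne_zero.mpr (Nat.factorial_ne_zero _)
        have h2 : ((k + 1 - (i + 1)).factorial : ℚ) ≠ 0 := Nat.cast_ne_zero.mpr (Nat.factorial_ne_zero _)
        have h3 : ((k + 1).choose (i + 1) : ℚ) ≠ 0 := Nat.cast_ne_zero.mpr (Nat.choose_pos (by omega)).ne'
        push_cast
        field_simp
      have e' := congrArg (algebraMap ℚ R) e
      rw [map_mul, map_mul, map_natCast] at e'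
      dsimp only
      linear_combination (p i * q (k - 1 - i)) * e'
  · simp only [Finset.mem_filter, Finset.mem_product, Finset.mem_range, not_lt] at hr
    rw [mul_mul_mul_comm, hbig _ _ hr.1.1 hr.1.2 hr.2, mul_zero]

/-! ### the split side -/

section Split

attribute [local instance] splitOps

variable {σ : Type} [Fintype σ]

theorem lead_prod_X (S : Finset σ) (hS : S.Nonempty) :
    GammaGraded (splitGr σ).G (∏ a ∈ S, (MvPolynomial.X a : SR σ)) ∧
      ∀ k, (splitGr σ).q (∏ a ∈ S, (MvPolynomial.X a : SR σ)) k ∈ OI σ (k + 1) := by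
  classical
  induction hS using Finset.Nonempty.cons_induction with
  | singleton a =>
    rw [Finset.prod_singleton]
    refine ⟨splitGr_graded σ (X_mem_OI a), fun k => ?_⟩
    rw [q_X]
    have := (isMulFil_OI σ).pow_mem (X_mem_OI a) (k + 1)
    rwa [mul_one] at this
  | cons a S ha hS ih =>
    rw [Finset.prod_cons]
    refine ⟨(q_mul _ isSpecial_split (splitGr_graded σ (X_mem_OI a)) ih.1 0).2, fun k => ?_⟩
    rw [(q_mul _ isSpecial_split (splitGr_graded σ (X_mem_OI a)) ih.1 k).1]
    refine sum_mem fun i hi => ?_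
    rw [mul_assoc]
    refine Ideal.mul_mem_left _ _ ?_
    have h1 : (splitGr σ).q (MvPolynomial.X a) i ∈ OI σ (i + 1) := by
      rw [q_X]
      have := (isMulFil_OI σ).pow_mem (X_mem_OI a) (i + 1)
      rwa [mul_one] at this
    have := OI_mul h1 (ih.2 (k - 1 - i))
    rwa [show i + 1 + (k - 1 - i + 1) = k + 1 by simp at hi; omega] at this

theorem exp_prod_X {R : Type*} [CommRing R] [Algebra ℚ R] (d : ℕ) (φ : SR σ →+* R)
    (hφ : ∀ z ∈ OI σ (d + 1), φ z = 0) (S : Finset σ) (hS : S.Nonempty) :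
    ∑ k ∈ range d, algebraMap ℚ R (1 / ((k + 1).factorial : ℚ))
        * φ ((splitGr σ).q (∏ a ∈ S, (MvPolynomial.X a : SR σ)) k)
      = ∏ a ∈ S, Polynomial.aeval (φ (MvPolynomial.X a)) (expM1 d) := by
  classical
  have h1 : ∀ a, ∑ k ∈ range d, algebraMap ℚ R (1 / ((k + 1).factorial : ℚ))
      * φ ((splitGr σ).q (MvPolynomial.X a) k) = Polynomial.aeval (φ (MvPolynomial.X a)) (expM1 d) := by
    intro a
    rw [expM1, map_sum]
    refine Finset.sum_congr rfl fun k _ => ?_
    rw [q_X, map_pow, map_mul, map_pow, Polynomial.aeval_C, Polynomial.aeval_X]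
  induction hS using Finset.Nonempty.cons_induction with
  | singleton a => rw [Finset.prod_singleton, Finset.prod_singleton, h1]
  | cons a S ha hS ih =>
    rw [Finset.prod_cons, Finset.prod_cons, ← ih, ← h1]
    rw [← conv_exp d (fun i => φ ((splitGr σ).q (MvPolynomial.X a) i))
      (fun j => φ ((splitGr σ).q (∏ b ∈ S, (MvPolynomial.X b : SR σ)) j))]
    · refine Finset.sum_congr rfl fun k _ => ?_
      rw [(q_mul _ isSpecial_split (splitGr_graded σ (X_mem_OI a)) (lead_prod_X S hS).1 k).1, map_sum]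
      congr 1
      exact Finset.sum_congr rfl fun i _ => by rw [map_mul, map_mul, map_natCast]
    · intro i j _ _ hij
      rw [← map_mul]
      refine hφ _ (OI_anti (show d + 1 ≤ i + 1 + (j + 1) by omega) (OI_mul ?_ ((lead_prod_X S hS).2 j)))
      rw [q_X]
      have := (isMulFil_OI σ).pow_mem (X_mem_OI a) (i + 1)
      rwa [mul_one] at this

end Split

/-! ### the Todd polynomial -/

theorem toddTrunc_eval_zero {R : Type*} [CommRing R] [Algebra ℚ R] (d : ℕ) :
    Polynomial.aeval (0 : R) (KGr.toddTrunc d) = 1 := by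
  rw [KGr.toddTrunc, map_sum, Finset.sum_eq_single 0]
  · simp
  · intro l _ hl; simp [zero_pow hl]
  · intro h; simp at h

theorem toddPoly_eval_fin {R : Type*} [CommRing R] [Algebra ℚ R] (d : ℕ) (g : Fin d → R) :
    MvPolynomial.aeval (fun i : Fin d => ((Finset.univ : Finset (Fin d)).val.map g).esymm ((i : ℕ) + 1)) (KGr.toddPoly d)
      = ∏ i, Polynomial.aeval (g i) (KGr.toddTrunc d) := by
  have h : (MvPolynomial.aeval (fun i : Fin d => MvPolynomial.esymm (Fin d) ℚ ((i : ℕ) + 1)) :
      MvPolynomial (Fin d) ℚ →ₐ[ℚ] MvPolynomial (Fin d) ℚ) (KGr.toddPoly d)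
      = ∏ i : Fin d, Polynomial.aeval (MvPolynomial.X i) (KGr.toddTrunc d) := by
    rw [← MvPolynomial.esymmAlgHom_apply]
    show ((MvPolynomial.esymmAlgEquiv (Fin d) ℚ (Fintype.card_fin d)) _).1 = _
    rw [KGr.toddPoly, AlgEquiv.apply_symm_apply]
  have h2 := congrArg (MvPolynomial.aeval (R := ℚ) g) h
  rw [MvPolynomial.comp_aeval_apply, map_prod] at h2
  simp only [← Polynomial.aeval_algHom_apply, MvPolynomial.aeval_X] at h2
  refine Eq.trans ?_ h2
  congr 2
  funext i
  rw [MvPolynomial.aeval_esymm_eq_multiset_esymm]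

theorem toddPoly_eval_le {R : Type*} [CommRing R] [Algebra ℚ R] (d : ℕ) (s : Multiset R)
    (hs : Multiset.card s ≤ d) :
    MvPolynomial.aeval (fun i : Fin d => s.esymm ((i : ℕ) + 1)) (KGr.toddPoly d)
      = (s.map fun x => Polynomial.aeval x (KGr.toddTrunc d)).prod := by
  obtain ⟨g, hg⟩ := exists_family (s := s + Multiset.replicate (d - Multiset.card s) 0) (N := d) (by simp; omega)
  have h := toddPoly_eval_fin d g
  simp only [hg, esymm_add_zeros] at h
  rw [h, Finset.prod_eq_multiset_prod]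
  rw [show (Finset.univ.val.map fun i => Polynomial.aeval (g i) (KGr.toddTrunc d))
    = (Finset.univ.val.map g).map fun x => Polynomial.aeval x (KGr.toddTrunc d) by rw [Multiset.map_map]; rfl, hg]
  simp [toddTrunc_eval_zero]

theorem coeff_kill {σ : Type*} [DecidableEq σ] (T : Finset σ) (p : MvPolynomial σ ℚ) (c : σ →₀ ℕ) (hc : c.support ⊆ T) :
    MvPolynomial.coeff c (MvPolynomial.aeval (fun a => if a ∈ T then MvPolynomial.X a else 0) p :
      MvPolynomial σ ℚ) = MvPolynomial.coeff c p := by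
  classical
  induction p using MvPolynomial.induction_on' with
  | add p q hp hq => rw [map_add, MvPolynomial.coeff_add, MvPolynomial.coeff_add, hp, hq]
  | monomial c' r =>
    rw [MvPolynomial.aeval_monomial]
    by_cases h : c'.support ⊆ T
    · congr 1
      rw [MvPolynomial.monomial_eq, MvPolynomial.algebraMap_eq]
      congr 1
      exact Finset.prod_congr rfl fun a ha => by simp only [if_pos (h ha)]
    · obtain ⟨a, ha, haT⟩ := Finset.not_subset.mp h
      rw [Finsupp.prod, Finset.prod_eq_zero ha (by rw [if_neg haT, zero_pow (Finsupp.mem_support_iff.mp ha)]),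
        mul_zero, MvPolynomial.coeff_zero, MvPolynomial.coeff_monomial, if_neg]
      rintro rfl
      exact haT (hc ha)

theorem toddPoly_congr (m d : ℕ) :
    MvPolynomial.aeval (fun i : Fin d =>
        ((Finset.univ : Finset (Fin m)).val.map fun a => (MvPolynomial.X a : MvPolynomial (Fin m) ℚ)).esymm ((i : ℕ) + 1))
        (KGr.toddPoly d)
      - ∏ a : Fin m, Polynomial.aeval (MvPolynomial.X a : MvPolynomial (Fin m) ℚ) (KGr.toddTrunc d)
      ∈ MvPolynomial.idealOfVars (Fin m) ℚ ^ (d + 1) := by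
  classical
  rw [MvPolynomial.mem_pow_idealOfVars_iff']
  intro c hc
  set T := c.support
  have hT : T.card ≤ d := by
    refine le_trans ?_ (Nat.lt_succ_iff.mp hc)
    rw [Finsupp.degree_apply, Finset.card_eq_sum_ones]
    exact Finset.sum_le_sum fun a ha => Nat.one_le_iff_ne_zero.mpr (Finsupp.mem_support_iff.mp ha)
  rw [← coeff_kill T _ c subset_rfl]
  set κ : MvPolynomial (Fin m) ℚ →ₐ[ℚ] MvPolynomial (Fin m) ℚ :=
    MvPolynomial.aeval (fun a => if a ∈ T then MvPolynomial.X a else 0)
  have hκ : ∀ a, κ (MvPolynomial.X a) = if a ∈ T then MvPolynomial.X a else 0 := fun a => MvPolynomial.aeval_X _ a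
  set s := T.val.map fun a => (MvPolynomial.X a : MvPolynomial (Fin m) ℚ)
  have hes : ∀ n, κ (((Finset.univ : Finset (Fin m)).val.map fun a => (MvPolynomial.X a : MvPolynomial (Fin m) ℚ)).esymm n)
      = s.esymm n := by
    intro n
    change κ.toRingHom _ = _
    rw [map_esymm', Multiset.map_map, ← coeff_splitSeries, ← coeff_splitSeries]
    congr 1
    rw [splitSeries, splitSeries, Multiset.map_map, Multiset.map_map]
    show (∏ a ∈ (Finset.univ : Finset (Fin m)), (1 + PowerSeries.C (κ (MvPolynomial.X a)) * PowerSeries.X)) =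
      ∏ a ∈ T, (1 + PowerSeries.C (MvPolynomial.X a : MvPolynomial (Fin m) ℚ) * PowerSeries.X)
    rw [← Finset.prod_subset (Finset.subset_univ T) (fun a _ ha => by rw [hκ, if_neg ha, map_zero, zero_mul, add_zero])]
    exact Finset.prod_congr rfl fun a ha => by rw [hκ, if_pos ha]
  rw [map_sub, MvPolynomial.comp_aeval_apply, map_prod]
  simp only [← Polynomial.aeval_algHom_apply, hes]
  rw [toddPoly_eval_le d s (by simpa [s] using hT), sub_eq_zero.mpr, MvPolynomial.coeff_zero]
  rw [Multiset.map_map, ← Finset.prod_subset (Finset.subset_univ T) (fun a _ ha => by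
    rw [hκ, if_neg ha, toddTrunc_eval_zero])]
  exact (Finset.prod_congr rfl fun a ha => by rw [hκ, if_pos ha]; rfl)

/-! ### the universal identity -/

/-- the polynomial which vanishes up to weight `d` -/
noncomputable def toddId (m d : ℕ) : MvPolynomial (Fin m) ℚ :=
  MvPolynomial.aeval (fun i : Fin d => PowerSeries.coeff ((i : ℕ) + 1) (genSer m)) (KGr.toddPoly d)
      * ((-1) ^ m * ∑ k ∈ range d, MvPolynomial.C (1 / ((k + 1).factorial : ℚ))
          * MvPolynomial.aeval (fun p : Fin 1 × ℕ => (-1) ^ (p.2 + 1) * PowerSeries.coeff (p.2 + 1) (genSer m))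
              (psOp (uSer (gVar (0 : Fin 1) m)) k))
    - PowerSeries.coeff m (genSer m)

theorem constantCoeff_uSer {ι : Type} [Fintype ι] (P : GB ι) :
    PowerSeries.constantCoeff (uSer P) = 1 := by
  rw [← PowerSeries.coeff_zero_eq_constantCoeff_apply, uSer, PowerSeries.coeff_mk]
  have : gOp 0 P = 1 := by
    letI : ∀ M : ι → ℕ, LambdaOps (SR (Roots M)) := fun M => splitOps (Roots M)
    obtain ⟨M, hM⟩ := exists_bound (gOp 0 P - 1)
    rw [← sub_eq_zero]
    refine eq_zero_of_splitFam (N := fun _ => M) (fun p hp => hM p hp) ?_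
    rw [map_sub, gEval_gOp isSpecial_split, gamma_zero, map_one, sub_self]
  rw [this]
  exact (MvPolynomial.isWeightedHomogeneous_one ℤ _).weightedHomogeneousComponent_same

theorem toddId_low (m d : ℕ) (hm : 1 ≤ m) :
    ∀ w, w ≤ d → MvPolynomial.weightedHomogeneousComponent (fun k : Fin m => (k : ℕ) + 1) w (toddId m d) = 0 := by
  classical
  set J := MvPolynomial.idealOfVars (Fin m) ℚ ^ (d + 1) with hJ
  set W : Fin m → MvPolynomial (Fin m) ℚ := fun a => MvPolynomial.X a with hW
  set s := (Finset.univ : Finset (Fin m)).val.map W with hs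
  let η : MvPolynomial (Fin m) ℚ →ₐ[ℚ] MvPolynomial (Fin m) ℚ := eHom (Fin m) m
  have hη : ∀ n, η (PowerSeries.coeff n (genSer m)) = s.esymm n := by
    intro n
    have e : (fun k : Fin m => MvPolynomial.esymm (Fin m) ℚ ((k : ℕ) + 1))
        = fun k : Fin m => PowerSeries.coeff ((k : ℕ) + 1) (splitSeries s) := by
      funext k; rw [coeff_splitSeries, MvPolynomial.esymm_eq_multiset_esymm]
    have h := congrArg (PowerSeries.coeff n) (aeval_genSer m (splitSeries s) (constantCoeff_splitSeries s) fun l hl => by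
      rw [coeff_splitSeries, Multiset.esymm, Multiset.powersetCard_eq_empty l (by simpa [hs] using hl)]; simp)
    rw [PowerSeries.coeff_map, coeff_splitSeries] at h
    refine Eq.trans ?_ h
    show MvPolynomial.aeval _ _ = MvPolynomial.aeval _ _
    rw [e]
  suffices H : η (toddId m d) ∈ J by
    intro w hw
    apply eHom_injective (R := ℚ) (σ := Fin m) (n := m) (by simp)
    have hg : ∀ k : Fin m, MvPolynomial.IsWeightedHomogeneous (fun _ : Fin m => (1 : ℕ))
        (MvPolynomial.esymm (Fin m) ℚ ((k : ℕ) + 1)) ((k : ℕ) + 1) := fun k => by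
      have := isWeightedHomogeneous_multiset_esymm (v := fun _ : Fin m => (1 : ℕ)) (d := 1)
        ((Finset.univ : Finset (Fin m)).val.map fun a => (MvPolynomial.X a : MvPolynomial (Fin m) ℚ))
        (fun a ha => by
          obtain ⟨l, -, rfl⟩ := Multiset.mem_map.mp ha
          exact MvPolynomial.isWeightedHomogeneous_X ℚ _ _) ((k : ℕ) + 1)
      rw [MvPolynomial.esymm_eq_multiset_esymm]
      simpa using this
    rw [map_zero, eHom, ← weightedHomogeneousComponent_aeval hg]
    refine MvPolynomial.ext _ _ fun c => ?_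
    rw [MvPolynomial.coeff_weightedHomogeneousComponent, MvPolynomial.coeff_zero]
    split
    · next h =>
      refine (MvPolynomial.mem_pow_idealOfVars_iff' (d + 1) _).mp H c ?_
      rw [Finsupp.degree_eq_weight_one]
      exact lt_of_eq_of_lt h (by omega)
    · rfl
  set π := Ideal.Quotient.mkₐ ℚ J with hπ
  set x : Fin m → MvPolynomial (Fin m) ℚ ⧸ J := fun a => π (W a) with hx
  have hpow : ∀ (y : Polynomial ℚ), Polynomial.X ^ (d + 1) ∣ y → ∀ a, Polynomial.aeval (x a) y = 0 := by
    rintro y ⟨z, rfl⟩ a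
    rw [map_mul, map_pow, Polynomial.aeval_X, hx, ← map_pow, hπ, Ideal.Quotient.mkₐ_eq_mk,
      Ideal.Quotient.eq_zero_iff_mem.mpr, zero_mul]
    refine Ideal.pow_mem_pow ?_ (d + 1)
    exact Ideal.subset_span ⟨a, rfl⟩
  have htodd : π (η (MvPolynomial.aeval (fun i : Fin d => PowerSeries.coeff ((i : ℕ) + 1) (genSer m)) (KGr.toddPoly d)))
      = ∏ a, Polynomial.aeval (x a) (KGr.toddTrunc d) := by
    rw [MvPolynomial.comp_aeval_apply]
    simp only [hη]
    have := Ideal.Quotient.eq.mpr (toddPoly_congr m d)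
    rw [hπ, Ideal.Quotient.mkₐ_eq_mk]
    rw [this, map_prod]
    refine Finset.prod_congr rfl fun a _ => ?_
    show Ideal.Quotient.mkₐ ℚ J _ = _
    rw [← Polynomial.aeval_algHom_apply]
  let N : Fin 1 → ℕ := fun _ => m
  letI : LambdaOps (SR (Roots N)) := splitOps (Roots N)
  let ρ : SR (Roots N) →ₐ[ℤ] MvPolynomial (Fin m) ℚ ⧸ J := MvPolynomial.aeval fun q => -x q.2
  have hρJ : ∀ z ∈ OI (Roots N) (d + 1), ρ z = 0 := by
    intro z hz
    have h1 : (MvPolynomial.idealOfVars (Roots N) ℤ).map ρ.toRingHom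
        ≤ (MvPolynomial.idealOfVars (Fin m) ℚ).map (Ideal.Quotient.mk J) := by
      rw [MvPolynomial.idealOfVars, Ideal.map_span, Ideal.span_le]
      rintro _ ⟨_, ⟨q, rfl⟩, rfl⟩
      show ρ (MvPolynomial.X q) ∈ _
      rw [show ρ (MvPolynomial.X q) = -x q.2 from MvPolynomial.aeval_X _ q]
      exact neg_mem (Ideal.mem_map_of_mem _ (Ideal.subset_span ⟨q.2, rfl⟩))
    have h2 := Ideal.mem_map_of_mem ρ.toRingHom (show z ∈ MvPolynomial.idealOfVars (Roots N) ℤ ^ (d + 1) from hz)
    rw [Ideal.map_pow] at h2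
    have h3 := Ideal.pow_right_mono h1 (d + 1) h2
    rw [← Ideal.map_pow, ← hJ, Ideal.map_quotient_self, Ideal.mem_bot] at h3
    exact h3
  have hes : ∀ n, π (η ((-1) ^ n * PowerSeries.coeff n (genSer m))) = ρ (gamma n (splitFam N 0)) := by
    intro n
    rw [map_mul, map_pow, map_neg, map_one, hη, gamma_splitFam, map_mul, map_pow, map_neg, map_one]
    change _ * π.toRingHom _ = ρ.toRingHom _
    rw [map_esymm', map_esymm', hs, Multiset.map_map, Multiset.map_map]
    have e : (Finset.univ.val.map fun l : Fin (N 0) => ρ (MvPolynomial.X (⟨0, l⟩ : Roots N)))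
        = ((Finset.univ : Finset (Fin m)).val.map fun a => x a).map fun y => y * -1 := by
      rw [Multiset.map_map]
      refine Multiset.map_congr rfl fun l _ => ?_
      rw [Function.comp_apply]
      exact (MvPolynomial.aeval_X _ _).trans (by ring)
    refine Eq.trans ?_ (congrArg (Multiset.esymm · n) e).symm
    rw [esymm_map_mul, mul_comm]
    rfl
  have hP : ∀ k, π (η (MvPolynomial.aeval (fun p : Fin 1 × ℕ => (-1) ^ (p.2 + 1) * PowerSeries.coeff (p.2 + 1) (genSer m))
      (psOp (uSer (gVar (0 : Fin 1) m)) k)))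
      = ρ ((splitGr (Roots N)).q (∏ a : Roots N, MvPolynomial.X a) k) := by
    intro k
    have e1 : ∏ a : Roots N, (MvPolynomial.X a : SR (Roots N)) = gEval (splitFam N) (gVar (0 : Fin 1) m) := by
      rw [gEval_gVar, gamma_splitFam,
        show m = Multiset.card ((Finset.univ : Finset (Fin (N 0))).val.map fun l => (MvPolynomial.X ⟨0, l⟩ : SR (Roots N))) by
          simp [N], esymm_card, Fintype.prod_sigma, Fin.prod_univ_one, Finset.prod_eq_multiset_prod]
    have hzN : ∀ i s, gamma (s + 1) (splitFam N i) ∈ (splitGr (Roots N)).G (s + 1) :=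
      fun i s => gamma_mem_OI_self _ (splitFam_mem N i)
    rw [GrMap.q, e1, cs_gEval _ isSpecial_split hzN (fun c hc => le_trans hm (wtGE_gVar (0 : Fin 1) m c hc)),
      ← map_psOp _ (constantCoeff_uSer _)]
    show (π.toRingHom.comp η.toRingHom) (MvPolynomial.aeval _ _)
      = ρ.toRingHom (MvPolynomial.aeval ((splitGr (Roots N)).Cv (splitFam N)) _)
    rw [map_aeval_int, map_aeval_int]
    congr 2
    funext p
    show π (η _) = ρ ((splitGr (Roots N)).Cv (splitFam N) p)
    rw [Cv_splitFam, show p.1 = (0 : Fin 1) from Subsingleton.elim _ _]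
    exact hes _
  have hch : π (η (∑ k ∈ range d, MvPolynomial.C (1 / ((k + 1).factorial : ℚ))
      * MvPolynomial.aeval (fun p : Fin 1 × ℕ => (-1) ^ (p.2 + 1) * PowerSeries.coeff (p.2 + 1) (genSer m))
          (psOp (uSer (gVar (0 : Fin 1) m)) k))) = ∏ a, Polynomial.aeval (-x a) (expM1 d) := by
    rw [map_sum, map_sum]
    have hne : (Finset.univ : Finset (Roots N)).Nonempty := ⟨⟨0, ⟨0, hm⟩⟩, Finset.mem_univ _⟩
    have h := exp_prod_X d ρ.toRingHom hρJ Finset.univ hne
    rw [Fintype.prod_sigma, Fin.prod_univ_one] at h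
    refine Eq.trans (Finset.sum_congr rfl fun k _ => ?_) (h.trans ?_)
    · rw [map_mul, map_mul, hP, Fintype.prod_sigma, Fin.prod_univ_one, ← MvPolynomial.algebraMap_eq, AlgHom.commutes,
        AlgHom.commutes]
      rfl
    · rw [Fintype.prod_sigma, Fin.prod_univ_one]
      show (∏ a : Fin m, Polynomial.aeval (ρ (MvPolynomial.X (⟨0, a⟩ : Roots N))) (expM1 d)) = _
      refine Finset.prod_congr rfl fun a _ => ?_
      rw [show ρ (MvPolynomial.X (⟨0, a⟩ : Roots N)) = -x a from MvPolynomial.aeval_X _ _]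
  rw [← Ideal.Quotient.eq_zero_iff_mem]
  show π (η (toddId m d)) = 0
  rw [toddId, map_sub, map_sub, map_mul, map_mul, map_mul, map_mul, map_pow, map_pow, map_neg, map_neg, map_one, map_one,
    htodd, hch, hη, sub_eq_zero]
  rw [show s.esymm m = s.prod by have := esymm_card s; simpa [hs] using this, hs]
  change _ = π (((Finset.univ : Finset (Fin m)).val.map W).prod)
  rw [map_multiset_prod, Multiset.map_map, show ((-1 : MvPolynomial (Fin m) ℚ ⧸ J) ^ m) = ∏ _a : Fin m, -1 by simp,
    ← Finset.prod_mul_distrib, ← Finset.prod_mul_distrib, Finset.prod_eq_multiset_prod]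
  refine congrArg Multiset.prod (Multiset.map_congr rfl fun a _ => ?_)
  have h := hpow _ (toddTrunc_mul_expM1 d) a
  rw [map_add, map_mul, Polynomial.aeval_comp, map_neg, Polynomial.aeval_X] at h
  show _ = π (W a)
  linear_combination -h

/-! ### assembly -/

theorem aeval_aeval' {σ : Type*} {τ : Type*} {R : Type*} [CommRing R] [Algebra ℚ R] (g : σ → R)
    (f : τ → MvPolynomial σ ℚ) (p : MvPolynomial τ ℚ) :
    MvPolynomial.aeval g (MvPolynomial.aeval f p) = MvPolynomial.aeval (fun i => MvPolynomial.aeval g (f i)) p :=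
  MvPolynomial.comp_aeval_apply _ _ _

attribute [local instance] binomialLambdaOps

variable {K : Type u} [CommRing K] [LambdaOps K] {P : PosStructure K} {inv : K → K}

theorem td_mul_ch (hK : HasSplitting K P) {d : ℕ} (hd : gammaFiltration P (d + 1) = ⊥)
    (hV : IsInvolution P inv) (hS : HasInvSplitting P inv) {e : K} (he : e ∈ P.pos) :
    KGr.tdK P d e * KGr.chK P d (∑ i ∈ range ((P.aug e).toNat + 1), (-1 : K) ^ i * LambdaOps.lam i (inv e))
      = KGr.chern P (P.aug e).toNat e := by
  classical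
  set m := (P.aug e).toNat with hm
  have hae : P.aug e = (m : ℤ) := (Int.toNat_of_nonneg (P.aug_pos e he).le).symm
  have hm1 : 1 ≤ m := by have := P.aug_pos e he; omega
  have hz : P.aug (e - (m : K)) = 0 := aug_sub_natCast he
  have hz' : P.aug (inv e - (m : K)) = 0 := by rw [map_sub, hV.aug_inv, map_natCast, hae, sub_self]
  have hvan : ∀ k, m < k → gamma k (e - (m : K)) = 0 := fun k hk => by
    obtain ⟨L, inv', f, hf, hV', hcomm, s, hs, hsum⟩ := hS e he
    refine gamma_rank_vanish (lam_one_pos P) (fun l hl => hf.injective ?_) hk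
    have hc : Multiset.card s = m := by rw [hm, ← hf.aug_comp, ← hsum, aug_sum_lines hs, Int.toNat_natCast]
    rw [map_zero, hf.isLambdaHom, ← hsum, lam_lines hs, Multiset.esymm, Multiset.powersetCard_eq_empty l (by omega)]
    simp
  set g := kGr P
  let Ψ : MvPolynomial (Fin m) ℚ →ₐ[ℚ] KGr.Gr P :=
    MvPolynomial.aeval fun k : Fin m => toQ P (g.cls ((k : ℕ) + 1) (gamma ((k : ℕ) + 1) (e - (m : K))))
  have hΨ : ∀ n, Ψ (PowerSeries.coeff n (genSer m)) = toQ P (g.cls n (gamma n (e - (m : K)))) := by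
    intro n
    rw [genSer, PowerSeries.coeff_mk]
    rcases n with _ | n
    · rw [if_pos rfl, map_one, gamma_zero, g.cls_one, map_one]
    · rw [if_neg (Nat.succ_ne_zero n)]
      split
      · next h => exact MvPolynomial.aeval_X _ _
      · next h => rw [map_zero, hvan (n + 1) (by omega), g.cls_zero, map_zero]
  have hkill : ∀ q : MvPolynomial (Fin m) ℚ, (∀ w, w ≤ d →
      MvPolynomial.weightedHomogeneousComponent (fun k : Fin m => (k : ℕ) + 1) w q = 0) → Ψ q = 0 := by
    intro q hq
    have hmon : ∀ S : Finset (Fin m), ∀ c : Fin m → ℕ,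
        ∃ y ∈ g.G (∑ k ∈ S, c k * ((k : ℕ) + 1)),
          (∏ k ∈ S, g.cls ((k : ℕ) + 1) (gamma ((k : ℕ) + 1) (e - (m : K))) ^ c k)
            = g.cls (∑ k ∈ S, c k * ((k : ℕ) + 1)) y := by
      intro S c
      induction S using Finset.induction_on with
      | empty => exact ⟨1, by simp [g.hG.top], by simp [g.cls_one]⟩
      | insert a S ha ih =>
        obtain ⟨y, hy, hye⟩ := ih
        have hp := g.hG.pow_mem (kGr_graded hz ((a : ℕ) + 1)) (c a)
        refine ⟨gamma ((a : ℕ) + 1) (e - (m : K)) ^ c a * y, ?_, ?_⟩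
        · rw [Finset.sum_insert ha]; exact g.hG.mul_mem hp hy
        · rw [Finset.prod_insert ha, Finset.sum_insert ha, g.cls_mul hp hy, g.cls_pow (kGr_graded hz _), hye]
    rw [q.as_sum, map_sum]
    refine Finset.sum_eq_zero fun c hc => ?_
    obtain ⟨y, hy, hye⟩ := hmon c.support c
    rw [MvPolynomial.aeval_monomial, Finsupp.prod]
    simp only [← map_pow, ← map_prod]
    rw [hye, kGr_cls, cls_big hd ?_ (mem_kGr.mp hy), map_zero, mul_zero]
    by_contra hlt
    have h0 := congrArg (MvPolynomial.coeff c) (hq _ (not_lt.mp hlt))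
    rw [MvPolynomial.coeff_weightedHomogeneousComponent, if_pos (by rw [Finsupp.weight_apply]; rfl),
      MvPolynomial.coeff_zero] at h0
    exact MvPolynomial.mem_support_iff.mp hc h0
  have htd : KGr.tdK P d e
      = Ψ (MvPolynomial.aeval (fun i : Fin d => PowerSeries.coeff ((i : ℕ) + 1) (genSer m)) (KGr.toddPoly d)) := by
    have h := aeval_aeval' (fun k : Fin m => toQ P (g.cls ((k : ℕ) + 1) (gamma ((k : ℕ) + 1) (e - (m : K)))))
      (fun i : Fin d => PowerSeries.coeff ((i : ℕ) + 1) (genSer m)) (KGr.toddPoly d)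
    rw [KGr.tdK]
    refine Eq.trans ?_ h.symm
    congr 2
    funext i
    show _ = Ψ _
    rw [hΨ, KGr.chern, show ((P.aug e : ℤ) : K) = (m : K) by rw [hae, Int.cast_natCast],
      grK_eq (gamma_mem hz _), kGr_cls, toQ_apply]
  have hzv : ∀ (i : Fin 1) (k : ℕ), gamma (k + 1) ((fun _ : Fin 1 => inv e - (m : K)) i) ∈ g.G (k + 1) :=
    fun _ k => kGr_graded hz' _
  have hq : ∀ k, toQ P (g.q (gamma m (inv e - (m : K))) k)
      = Ψ (MvPolynomial.aeval (fun p : Fin 1 × ℕ => (-1) ^ (p.2 + 1) * PowerSeries.coeff (p.2 + 1) (genSer m))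
          (psOp (uSer (gVar (0 : Fin 1) m)) k)) := by
    intro k
    have e1 : g.q (gamma m (inv e - (m : K))) k
        = MvPolynomial.aeval (g.Cv fun _ : Fin 1 => inv e - (m : K)) (psOp (uSer (gVar (0 : Fin 1) m)) k) := by
      rw [GrMap.q, show gamma m (inv e - (m : K)) = gEval (fun _ : Fin 1 => inv e - (m : K)) (gVar 0 m) by
          rw [gEval_gVar],
        cs_gEval g (isSpecial_of_hasSplitting hK) hzv (fun c hc => le_trans hm1 (wtGE_gVar (0 : Fin 1) m c hc)),
        ← map_psOp _ (constantCoeff_uSer _)]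
      rfl
    rw [e1]
    show _ = Ψ.toRingHom _
    have h1 := map_aeval_int (A := KGr.GrZ P) (B := KGr.Gr P) (toQ P) (g.Cv fun _ : Fin 1 => inv e - (m : K))
      (psOp (uSer (gVar (0 : Fin 1) m)) k)
    have h2 := map_aeval_int (A := MvPolynomial (Fin m) ℚ) (B := KGr.Gr P) Ψ.toRingHom
      (fun p : Fin 1 × ℕ => (-1) ^ (p.2 + 1) * PowerSeries.coeff (p.2 + 1) (genSer m))
      (psOp (uSer (gVar (0 : Fin 1) m)) k)
    refine h1.trans (Eq.trans ?_ h2.symm)
    congr 2
    funext p
    show toQ P (g.cls (p.2 + 1) (gamma (p.2 + 1) (inv e - (m : K)))) = Ψ _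
    rw [map_mul, map_pow, map_neg, map_one, hΨ, kGr_cls, kGr_cls, cls_gamma_inv hK hV hS he, map_mul, map_pow,
      map_neg, map_one]
  have hsumeq : ∑ i ∈ range (m + 1), (-1 : K) ^ i * LambdaOps.lam i (inv e) = (-1 : K) ^ m * gamma m (inv e - (m : K)) :=
    lamAlt_eq_gamma (lam_one_pos P) (inv_split hV hS he).2
  have hneg : ∀ x : K, ∀ n : ℕ, KGr.chK P d ((-1 : K) ^ n * x) = (-1) ^ n * KGr.chK P d x := by
    intro x n
    induction n with
    | zero => simp
    | succ n ih =>
      rw [pow_succ', mul_assoc, neg_one_mul]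
      show chAdd P hd (-_) = _
      rw [map_neg]
      show -(KGr.chK P d _) = _
      rw [ih, pow_succ', mul_assoc]
      ring
  have hγ0 : P.aug (gamma m (inv e - (m : K))) = 0 :=
    aug_mem_zero hK hm1 (gamma_mem hz' m)
  rw [hsumeq, hneg, chK_of_mem hK hd hm1 (gamma_mem hz' m), htd]
  have hfin := hkill _ (toddId_low m d hm1)
  rw [toddId, map_sub, map_mul, map_mul, map_pow, map_neg, map_one, map_sum, sub_eq_zero, hΨ] at hfin
  rw [KGr.chern, show ((P.aug e : ℤ) : K) = (m : K) by rw [hae, Int.cast_natCast], grK_eq (gamma_mem hz _),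
    ← toQ_apply, ← kGr_cls, ← hfin]
  congr 2
  refine Finset.sum_congr rfl fun k _ => ?_
  rw [map_mul, hq, ← MvPolynomial.algebraMap_eq, AlgHom.commutes]

end Groth.Agent.Lam
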