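import Groth.Agent.Lam.Universal
import Mathlib.Tactic.Ring
import Mathlib.RingTheory.PowerSeries.WellKnown
import Mathlib.RingTheory.PowerSeries.Substitution
import Mathlib.Tactic.LinearCombination

/-!
Basic facts on pre-λ-rings: series, Adams operations, gamma operations.
-/

universe u v

open Finset PowerSeries

namespace Groth.Agent.Lam

open _root_.LambdaRing

variable {K : Type u} [CommRing K] [LambdaOps K]

theorem coeff_lamSeries (x : K) (n : ℕ) : coeff n (lamSeries x) = LambdaOps.lam n x := by
  simp [lamSeries]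

theorem constantCoeff_lamSeries (x : K) : constantCoeff (lamSeries x) = 1 := by
  rw [← coeff_zero_eq_constantCoeff_apply, coeff_lamSeries, LambdaOps.lam_zero]

theorem lamSeries_add (x y : K) : lamSeries (x + y) = lamSeries x * lamSeries y := by
  ext n
  rw [coeff_mul, coeff_lamSeries, LambdaOps.lam_add,
    Finset.Nat.sum_antidiagonal_eq_sum_range_succ_mk]
  simp [coeff_lamSeries]

theorem lamSeries_isUnit (x : K) : IsUnit (lamSeries x) :=
  isUnit_iff_constantCoeff.mpr (by simp [constantCoeff_lamSeries])

theorem lamSeries_zero : lamSeries (0 : K) = 1 := by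
  refine (lamSeries_isUnit (0 : K)).mul_left_cancel ?_
  rw [← lamSeries_add, add_zero, mul_one]

/-- the λ-series as a homomorphism -/
noncomputable def lamHom : Multiplicative K →* K⟦X⟧ where
  toFun x := lamSeries x.toAdd
  map_one' := lamSeries_zero
  map_mul' x y := lamSeries_add x.toAdd y.toAdd

theorem lamSeries_sum {ι : Type*} (s : Finset ι) (f : ι → K) :
    lamSeries (∑ i ∈ s, f i) = ∏ i ∈ s, lamSeries (f i) := by
  classical
  induction s using Finset.induction_on with
  | empty => simp [lamSeries_zero]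
  | insert a s ha ih => simp [Finset.sum_insert ha, Finset.prod_insert ha, lamSeries_add, ih]

theorem lamSeries_multiset_sum (s : Multiset K) :
    lamSeries s.sum = (s.map lamSeries).prod := by
  induction s using Multiset.induction_on with
  | empty => simp [lamSeries_zero]
  | cons a s ih => simp [lamSeries_add, ih]

theorem lamSeries_nsmul (n : ℕ) (x : K) : lamSeries (n • x) = lamSeries x ^ n := by
  induction n with
  | zero => simp [lamSeries_zero]
  | succ n ih => rw [succ_nsmul, lamSeries_add, ih, pow_succ]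

theorem lamSeries_linear {x : K} (h : ∀ i : ℕ, 2 ≤ i → LambdaOps.lam i x = 0) :
    lamSeries x = 1 + C x * PowerSeries.X := by
  ext n
  rw [coeff_lamSeries, map_add, coeff_one, coeff_C_mul, coeff_X]
  rcases n with _ | _ | n
  · simp [LambdaOps.lam_zero]
  · simp [LambdaOps.lam_one]
  · simp [h]

theorem lamSeries_sum_linear (s : Multiset K) (h : ∀ u ∈ s, ∀ i : ℕ, 2 ≤ i → LambdaOps.lam i u = 0) :
    lamSeries s.sum = splitSeries s := by
  rw [lamSeries_multiset_sum, splitSeries]
  congr 1
  exact Multiset.map_congr rfl fun u hu => lamSeries_linear (h u hu)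

theorem lamSeries_natCast (h1 : ∀ k : ℕ, 2 ≤ k → LambdaOps.lam k (1 : K) = 0) (n : ℕ) :
    lamSeries (n : K) = (1 + PowerSeries.X) ^ n := by
  rw [← nsmul_one, lamSeries_nsmul, lamSeries_linear h1]
  simp

theorem adamsOp_succ (k : ℕ) (x : K) : adamsOp (k + 1) x = psOp (lamSeries x) k := rfl

theorem adamsOp_add (k : ℕ) (x y : K) : adamsOp k (x + y) = adamsOp k x + adamsOp k y := by
  cases k with
  | zero => simp [adamsOp]
  | succ k =>
    rw [adamsOp_succ, adamsOp_succ, adamsOp_succ, lamSeries_add,
      psOp_mul (constantCoeff_lamSeries x) (constantCoeff_lamSeries y)]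

theorem adamsOp_zero_right (k : ℕ) : adamsOp k (0 : K) = 0 := by
  cases k with
  | zero => simp [adamsOp]
  | succ k => rw [adamsOp_succ, lamSeries_zero, psOp_one]

theorem adamsOp_of_linear {u : K} (h : ∀ i : ℕ, 2 ≤ i → LambdaOps.lam i u = 0) {k : ℕ} (hk : 1 ≤ k) :
    adamsOp k u = u ^ k := by
  obtain ⟨k, rfl⟩ := Nat.exists_eq_add_of_le hk
  rw [add_comm 1 k, adamsOp_succ, lamSeries_linear h, psOp_linear]

theorem adamsSeries_coeff (P : PosStructure K) (x : K) (j : ℕ) :
    LambdaRing.adams P j x = if j = 0 then (P.aug x : K) else adamsOp j x := by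
  rcases j with _ | j
  · simp [LambdaRing.adams, adamsSeries]
  · have hr : rescale (-1 : K) (derivative K (lamSeries x))
        = - derivative K (rescale (-1 : K) (lamSeries x)) := by
      ext n
      simp only [coeff_rescale, coeff_derivative, map_neg, pow_succ]
      ring
    have hi : rescale (-1 : K) ((lamSeries x).invOfUnit 1)
        = (rescale (-1 : K) (lamSeries x)).invOfUnit 1 := by
      refine eq_invOfUnit ?_ ?_
      · rw [← coeff_zero_eq_constantCoeff_apply, coeff_rescale]
        simp [constantCoeff_lamSeries]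
      · rw [← map_mul, mul_invOfUnit _ 1 (by simpa using constantCoeff_lamSeries x), map_one]
    have h : rescale (-1 : K) (logD (lamSeries x))
        = - (derivative K (rescale (-1 : K) (lamSeries x)) *
            (rescale (-1 : K) (lamSeries x)).invOfUnit 1) := by
      rw [logD, map_mul, hr, hi, neg_mul]
    rw [if_neg (Nat.succ_ne_zero j), adamsOp_succ, psOp, LambdaRing.adams, adamsSeries, map_sub,
      coeff_C, if_neg (Nat.succ_ne_zero j), zero_sub, mul_assoc, coeff_succ_X_mul]
    have := congrArg (coeff j) h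
    rw [coeff_rescale, map_neg] at this
    linear_combination -this

theorem adams_succ (P : PosStructure K) (j : ℕ) (x : K) :
    LambdaRing.adams P (j + 1) x = psOp (lamSeries x) j := by
  rw [adamsSeries_coeff, if_neg (Nat.succ_ne_zero j), adamsOp_succ]

theorem adams_zero (P : PosStructure K) (x : K) : LambdaRing.adams P 0 x = (P.aug x : K) := by
  rw [adamsSeries_coeff, if_pos rfl]

theorem adams_add (P : PosStructure K) (j : ℕ) (x y : K) :
    LambdaRing.adams P j (x + y) = LambdaRing.adams P j x + LambdaRing.adams P j y := by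
  simp only [adamsSeries_coeff, map_add, Int.cast_add, adamsOp_add]
  split <;> rfl

/-! ### γ -/

/-- the γ-series -/
noncomputable def gamSeries (x : K) : K⟦X⟧ := PowerSeries.mk fun k => gamma k x

theorem coeff_gamSeries (x : K) (n : ℕ) : coeff n (gamSeries x) = gamma n x := by simp [gamSeries]

theorem gamma_zero (x : K) : gamma 0 x = 1 := by simp [gamma]

theorem gamma_one (x : K) : gamma 1 x = x := by
  simp [gamma, Finset.sum_range_succ, LambdaOps.lam_one]

/-- `t/(1-t)` -/
noncomputable def tGam (K : Type u) [CommRing K] : K⟦X⟧ :=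
  PowerSeries.X * ((invOneSubPow K 1 : K⟦X⟧ˣ) : K⟦X⟧)

omit [LambdaOps K] in
theorem tGam_mul_one_sub : tGam K * (1 - PowerSeries.X) = PowerSeries.X := by
  rw [tGam, mul_assoc]
  have : ((invOneSubPow K 1 : K⟦X⟧ˣ) : K⟦X⟧) * (1 - PowerSeries.X) = 1 := by
    rw [invOneSubPow_val_one_eq_invUnitSub_one]
    simpa using invUnitsSub_mul_sub (1 : Kˣ)
  rw [this, mul_one]

omit [LambdaOps K] in
theorem coeff_tGam_pow_succ (j k : ℕ) :
    coeff k (tGam K ^ (j + 1)) = if j + 1 ≤ k then ((k - 1).choose j : K) else 0 := by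
  have h : ((invOneSubPow K 1 : K⟦X⟧ˣ) : K⟦X⟧) ^ (j + 1)
      = ((invOneSubPow K (j + 1) : K⟦X⟧ˣ) : K⟦X⟧) := by
    rw [← Units.val_pow_eq_pow_val]
    congr 1
    induction j with
    | zero => simp
    | succ j ih => rw [pow_succ, ih, invOneSubPow_add K (j + 1) 1]
  rw [tGam, mul_pow, h, invOneSubPow_val_succ_eq_mk_add_choose, coeff_X_pow_mul']
  split
  · next h => simp; congr 2; omega
  · rfl

omit [LambdaOps K] in
theorem hasSubst_tGam : HasSubst (tGam K) :=
  HasSubst.of_constantCoeff_zero' (by simp [tGam])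

theorem gamSeries_eq (x : K) : gamSeries x = (lamSeries x).subst (tGam K) := by
  ext k
  rw [coeff_gamSeries, coeff_subst' hasSubst_tGam,
    finsum_eq_sum_of_support_subset _ (s := range (k + 1)) ?_]
  · rw [gamma]
    rcases k with _ | k
    · simp [coeff_lamSeries, LambdaOps.lam_zero]
    · rw [if_neg (Nat.succ_ne_zero k)]
      refine Finset.sum_congr rfl fun j hj => ?_
      rcases j with _ | j
      · simp [coeff_one]
      · have hj' : j + 1 ≤ k + 1 := by simpa [Nat.lt_succ_iff] using hj
        rw [coeff_tGam_pow_succ, if_pos hj', coeff_lamSeries]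
        simp [mul_comm]
  · intro j hj
    simp only [Function.mem_support, coeff_lamSeries, smul_eq_mul, ne_eq] at hj
    simp only [Finset.coe_range, Set.mem_Iio]
    by_contra hjk
    apply hj
    obtain ⟨j, rfl⟩ := Nat.exists_eq_add_of_le (show 1 ≤ j by omega)
    rw [add_comm 1 j, coeff_tGam_pow_succ, if_neg (by omega), mul_zero]

theorem gamSeries_add (x y : K) : gamSeries (x + y) = gamSeries x * gamSeries y := by
  rw [gamSeries_eq, gamSeries_eq, gamSeries_eq, lamSeries_add, subst_mul hasSubst_tGam]

theorem gamSeries_zero : gamSeries (0 : K) = 1 := by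
  rw [gamSeries_eq, lamSeries_zero, ← coe_substAlgHom hasSubst_tGam, map_one]

theorem gamSeries_linear {x : K} (h : ∀ i : ℕ, 2 ≤ i → LambdaOps.lam i x = 0) :
    gamSeries x = 1 + C x * tGam K := by
  rw [gamSeries_eq, lamSeries_linear h, subst_add hasSubst_tGam, subst_mul hasSubst_tGam,
    subst_X hasSubst_tGam, ← coe_substAlgHom hasSubst_tGam, map_one]
  congr 2
  exact ((substAlgHom (R := K) hasSubst_tGam).commutes x).trans (by simp)

theorem gamma_add' (k : ℕ) (x y : K) :
    gamma k (x + y) = ∑ i ∈ range (k + 1), gamma i x * gamma (k - i) y := by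
  rw [← coeff_gamSeries, gamSeries_add, coeff_mul,
    Finset.Nat.sum_antidiagonal_eq_sum_range_succ_mk]
  simp [coeff_gamSeries]

theorem gamma_eq_lam (h1 : ∀ k : ℕ, 2 ≤ k → LambdaOps.lam k (1 : K) = 0) (n : ℕ) (x : K) :
    gamma n x = LambdaOps.lam n (x + (n : K) - 1) := by
  rcases n with _ | n
  · simp [gamma, LambdaOps.lam_zero]
  · rw [← coeff_lamSeries, show x + ((n + 1 : ℕ) : K) - 1 = x + (n : K) by push_cast; ring,
      lamSeries_add, lamSeries_natCast h1, coeff_mul,
      Finset.Nat.sum_antidiagonal_eq_sum_range_succ_mk, gamma, if_neg (Nat.succ_ne_zero n)]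
    refine Finset.sum_congr rfl fun j hj => ?_
    simp only [Finset.mem_range] at hj
    rw [coeff_lamSeries, add_comm 1 (PowerSeries.X : K⟦X⟧)]
    rcases j with _ | j
    · rw [if_pos rfl, mul_zero]
      have hc : coeff (n + 1 - 0) (((PowerSeries.X : K⟦X⟧) + 1) ^ n) = 0 := by
        rw [show ((PowerSeries.X : K⟦X⟧) + 1) ^ n = (((Polynomial.X : Polynomial K) + 1) ^ n : Polynomial K) by simp,
          Polynomial.coeff_coe, Polynomial.coeff_X_add_one_pow]
        simp
      rw [hc, mul_zero]
    · rw [if_neg (Nat.succ_ne_zero j),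
        show ((PowerSeries.X : K⟦X⟧) + 1) ^ n = (((Polynomial.X : Polynomial K) + 1) ^ n : Polynomial K) by simp,
        Polynomial.coeff_coe, Polynomial.coeff_X_add_one_pow, mul_comm]
      congr 2
      rw [show n + 1 - 1 = n by omega, show j + 1 - 1 = j by omega]
      rw [show n + 1 - (j + 1) = n - j by omega, Nat.choose_symm (by omega)]

end Groth.Agent.Lam
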