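import Groth.Agent.Lam.Special

/-!
λ-rings with positive structure: lines, splitting, γ-series.
-/

universe u v

open Finset PowerSeries

namespace Groth.Agent.Lam

open _root_.LambdaRing

variable {K : Type u} [CommRing K] [LambdaOps K] {P : PosStructure K}

theorem lam_line {u : K} (hu : P.IsLine u) (i : ℕ) (hi : 2 ≤ i) : LambdaOps.lam i u = 0 :=
  P.lam_eq_zero u hu.1 i (by rw [hu.2]; exact_mod_cast hi)

theorem isLine_one (P : PosStructure K) : P.IsLine (1 : K) :=
  ⟨by simpa using P.natCast_mem 1 one_pos, map_one _⟩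

theorem lam_one_pos (P : PosStructure K) : ∀ i : ℕ, 2 ≤ i → LambdaOps.lam i (1 : K) = 0 :=
  lam_line (isLine_one P)

theorem isLine_mul {u v : K} (hu : P.IsLine u) (hv : P.IsLine v) : P.IsLine (u * v) :=
  ⟨P.mul_mem _ _ hu.1 hv.1, by rw [map_mul, hu.2, hv.2, one_mul]⟩

theorem isLine_pow {u : K} (hu : P.IsLine u) (n : ℕ) : P.IsLine (u ^ n) := by
  induction n with
  | zero => simpa using isLine_one P
  | succ n ih => rw [pow_succ]; exact isLine_mul ih hu

theorem adams_line {u : K} (hu : P.IsLine u) (j : ℕ) : LambdaRing.adams P j u = u ^ j := by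
  rw [adamsSeries_coeff]
  split
  · next h => subst h; rw [hu.2]; simp
  · next h => exact adamsOp_of_linear (lam_line hu) (Nat.one_le_iff_ne_zero.mpr h)

/-- adams as additive map -/
noncomputable def adamsAdd (P : PosStructure K) (j : ℕ) : K →+ K :=
  AddMonoidHom.mk' (LambdaRing.adams P j) (adams_add P j)

theorem adamsAdd_apply (j : ℕ) (x : K) : adamsAdd P j x = LambdaRing.adams P j x := rfl

theorem adams_intCast (j : ℕ) (z : ℤ) : LambdaRing.adams P j (z : K) = z := by
  have : adamsAdd P j (1 : K) = 1 := by rw [adamsAdd_apply, adams_line (isLine_one P), one_pow]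
  rw [← adamsAdd_apply, ← zsmul_one z, map_zsmul, this, zsmul_one]

theorem aug_sum_lines {s : Multiset K} (hs : ∀ u ∈ s, P.IsLine u) :
    P.aug s.sum = (Multiset.card s : ℤ) := by
  induction s using Multiset.induction_on with
  | empty => simp
  | cons a s ih =>
    rw [Multiset.sum_cons, map_add, (hs a (Multiset.mem_cons_self _ _)).2,
      ih fun u hu => hs u (Multiset.mem_cons_of_mem hu), Multiset.card_cons]
    push_cast
    ring

theorem lamSeries_lines {s : Multiset K} (hs : ∀ u ∈ s, P.IsLine u) :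
    lamSeries s.sum = splitSeries s :=
  lamSeries_sum_linear s fun u hu => lam_line (hs u hu)

theorem lam_lines {s : Multiset K} (hs : ∀ u ∈ s, P.IsLine u) (i : ℕ) :
    LambdaOps.lam i s.sum = s.esymm i := by
  rw [← coeff_lamSeries, lamSeries_lines hs, coeff_splitSeries]

theorem gamSeries_multiset_sum (s : Multiset K) :
    gamSeries s.sum = (s.map gamSeries).prod := by
  induction s using Multiset.induction_on with
  | empty => simp [gamSeries_zero]
  | cons a s ih => simp [gamSeries_add, ih]

theorem gamSeries_one_mul (h1 : ∀ k : ℕ, 2 ≤ k → LambdaOps.lam k (1 : K) = 0) :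
    gamSeries (1 : K) * (1 - PowerSeries.X) = 1 := by
  rw [gamSeries_linear h1, map_one, one_mul, add_mul, one_mul, tGam_mul_one_sub]
  ring

theorem gamSeries_sub_one (h1 : ∀ k : ℕ, 2 ≤ k → LambdaOps.lam k (1 : K) = 0) {u : K}
    (hu : ∀ i : ℕ, 2 ≤ i → LambdaOps.lam i u = 0) :
    gamSeries (u - 1) = 1 + C (u - 1) * PowerSeries.X := by
  have h := gamSeries_add (u - 1) (1 : K)
  rw [sub_add_cancel, gamSeries_linear hu] at h
  have h' : gamSeries (u - 1) = (1 + C u * tGam K) * (1 - PowerSeries.X) := by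
    rw [h, mul_assoc, gamSeries_one_mul h1, mul_one]
  rw [h', add_mul, one_mul, mul_assoc, tGam_mul_one_sub, map_sub, map_one]
  ring

theorem gamSeries_sum_sub_card (h1 : ∀ k : ℕ, 2 ≤ k → LambdaOps.lam k (1 : K) = 0) (s : Multiset K)
    (hs : ∀ u ∈ s, ∀ i : ℕ, 2 ≤ i → LambdaOps.lam i u = 0) :
    gamSeries (s.sum - (Multiset.card s : K)) = splitSeries (s.map fun u => u - 1) := by
  have e : s.sum - (Multiset.card s : K) = (s.map fun u => u - 1).sum := by
    induction s using Multiset.induction_on with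
    | empty => simp
    | cons a s ih =>
      simp only [Multiset.map_cons, Multiset.sum_cons, Multiset.card_cons,
        ← ih fun u hu => hs u (Multiset.mem_cons_of_mem hu)]
      push_cast
      ring
  rw [e, gamSeries_multiset_sum, splitSeries, Multiset.map_map, Multiset.map_map]
  congr 1
  exact Multiset.map_congr rfl fun u hu => gamSeries_sub_one h1 (hs u hu)

theorem gamma_lines {s : Multiset K} (hs : ∀ u ∈ s, P.IsLine u) (r : ℕ) :
    gamma r (s.sum - (Multiset.card s : K)) = (s.map fun u => u - 1).esymm r := by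
  rw [← coeff_gamSeries, gamSeries_sum_sub_card (lam_one_pos P) s fun u hu => lam_line (hs u hu),
    coeff_splitSeries]

/-- `γ_t(e - n)` as a polynomial -/
theorem gamSeries_sub_natCast (h1 : ∀ k : ℕ, 2 ≤ k → LambdaOps.lam k (1 : K) = 0) (e : K) (n : ℕ)
    (he : ∀ i : ℕ, n < i → LambdaOps.lam i e = 0) :
    gamSeries (e - (n : K))
      = ∑ i ∈ range (n + 1), C (LambdaOps.lam i e) * PowerSeries.X ^ i * (1 - PowerSeries.X) ^ (n - i) := by
  have hn : ∀ m : ℕ, gamSeries (m : K) * (1 - PowerSeries.X) ^ m = 1 := fun m => by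
    induction m with
    | zero => simp [gamSeries_zero]
    | succ m ih =>
      rw [Nat.cast_succ, gamSeries_add, pow_succ, mul_mul_mul_comm, ih, gamSeries_one_mul h1, one_mul]
  have h := gamSeries_add (e - (n : K)) (n : K)
  rw [sub_add_cancel] at h
  have h' : gamSeries (e - (n : K)) = gamSeries e * (1 - PowerSeries.X) ^ n := by
    rw [h, mul_assoc, hn, mul_one]
  have hl : lamSeries e = ∑ i ∈ range (n + 1), C (LambdaOps.lam i e) * PowerSeries.X ^ i := by
    ext k
    rw [coeff_lamSeries, map_sum]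
    simp only [coeff_C_mul_X_pow, Finset.sum_ite_eq, Finset.mem_range]
    split
    · rfl
    · exact he k (by omega)
  rw [h', gamSeries_eq, hl, ← coe_substAlgHom hasSubst_tGam, map_sum, Finset.sum_mul]
  refine Finset.sum_congr rfl fun i hi => ?_
  have hi' : i ≤ n := by simpa [Nat.lt_succ_iff] using hi
  rw [map_mul, map_pow, substAlgHom_X hasSubst_tGam]
  have hC : (substAlgHom hasSubst_tGam) (C (LambdaOps.lam i e)) = C (LambdaOps.lam i e) :=
    ((substAlgHom (R := K) hasSubst_tGam).commutes _).trans (by simp)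
  rw [hC, show (1 - PowerSeries.X : K⟦X⟧) ^ n = (1 - PowerSeries.X) ^ i * (1 - PowerSeries.X) ^ (n - i) by
    rw [← pow_add, Nat.add_sub_cancel' hi'], ← mul_assoc, mul_assoc (C _) _ ((1 - PowerSeries.X) ^ i),
    ← mul_pow, tGam_mul_one_sub]

/-! ### extensions -/

variable {K' : Type u} [CommRing K'] [LambdaOps K'] {P' : PosStructure K'} {f : K →+* K'}

theorem map_lamSeries (hf : IsExtension P P' f) (x : K) :
    PowerSeries.map f (lamSeries x) = lamSeries (f x) := by
  ext n
  rw [coeff_map, coeff_lamSeries, coeff_lamSeries, hf.isLambdaHom]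

theorem map_adams (hf : IsExtension P P' f) (j : ℕ) (x : K) :
    f (LambdaRing.adams P j x) = LambdaRing.adams P' j (f x) := by
  rcases j with _ | j
  · simp [adams_zero, hf.aug_comp]
  · rw [adams_succ, adams_succ, ← map_lamSeries hf, map_psOp f (constantCoeff_lamSeries x)]

theorem map_gamma (hf : IsExtension P P' f) (k : ℕ) (x : K) : f (gamma k x) = gamma k (f x) := by
  simp only [gamma]
  split
  · simp
  · rw [map_sum]
    refine Finset.sum_congr rfl fun j _ => ?_
    rw [map_mul, map_natCast]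
    split
    · simp
    · rw [hf.isLambdaHom]

theorem map_isLine (hf : IsExtension P P' f) {u : K} (hu : P.IsLine u) : P'.IsLine (f u) :=
  ⟨hf.pos_subset _ hu.1, by rw [hf.aug_comp]; exact hu.2⟩

theorem isExtension_id (P : PosStructure K) : IsExtension P P (RingHom.id K) :=
  ⟨fun _ _ => rfl, Function.injective_id, fun _ => rfl, fun _ h => h⟩

theorem isExtension_comp {K'' : Type u} [CommRing K''] [LambdaOps K''] {P'' : PosStructure K''}
    {g : K' →+* K''} (hf : IsExtension P P' f) (hg : IsExtension P' P'' g) :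
    IsExtension P P'' (g.comp f) :=
  ⟨fun i x => by simp only [RingHom.comp_apply]; rw [hf.isLambdaHom, hg.isLambdaHom],
    hg.injective.comp hf.injective, fun x => by simp [hf.aug_comp, hg.aug_comp],
    fun e he => hg.pos_subset _ (hf.pos_subset e he)⟩

theorem exists_splitting (hK : HasSplitting K P) (l : List K) (hl : ∀ e ∈ l, e ∈ P.pos) :
    ∃ (L : PosLambdaRing.{u}) (f : K →+* L.carrier), IsExtension P L.posStr f ∧
      ∀ e ∈ l, ∃ s : Multiset L.carrier, (∀ u ∈ s, L.posStr.IsLine u) ∧ s.sum = f e := by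
  obtain ⟨𝒞, hmem, h𝒞⟩ := hK
  suffices H : ∀ (l : List K), (∀ e ∈ l, e ∈ P.pos) → ∃ L ∈ 𝒞, ∃ f : K →+* L.carrier,
      IsExtension P L.posStr f ∧
      ∀ e ∈ l, ∃ s : Multiset L.carrier, (∀ u ∈ s, L.posStr.IsLine u) ∧ s.sum = f e by
    obtain ⟨L, -, f, hf, h⟩ := H l hl
    exact ⟨L, f, hf, h⟩
  intro l
  induction l with
  | nil => exact fun _ => ⟨⟨K, P⟩, hmem, RingHom.id K, isExtension_id P, by simp⟩
  | cons a l ih =>
    intro hl
    obtain ⟨L, hL, f, hf, h⟩ := ih fun e he => hl e (List.mem_cons_of_mem _ he)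
    obtain ⟨L', hL', g, hg, s, hs, hsum⟩ := h𝒞 L hL (f a) (hf.pos_subset _ (hl a List.mem_cons_self))
    refine ⟨L', hL', g.comp f, isExtension_comp hf hg, fun e he => ?_⟩
    rcases List.mem_cons.mp he with rfl | he
    · exact ⟨s, hs, hsum⟩
    · obtain ⟨t, ht, htsum⟩ := h e he
      refine ⟨t.map g, fun u hu => ?_, ?_⟩
      · obtain ⟨v, hv, rfl⟩ := Multiset.mem_map.mp hu
        exact map_isLine hg (ht v hv)
      · rw [← map_multiset_sum, htsum]; rfl

/-- every element becomes a difference of sums of lines, simultaneously for finitely many elements -/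
theorem exists_splitting_elems (hK : HasSplitting K P) (l : List K) :
    ∃ (L : PosLambdaRing.{u}) (f : K →+* L.carrier), IsExtension P L.posStr f ∧
      ∀ x ∈ l, ∃ s t : Multiset L.carrier, (∀ u ∈ s, L.posStr.IsLine u) ∧
        (∀ u ∈ t, L.posStr.IsLine u) ∧ f x = s.sum - t.sum := by
  choose e g he hg hx using P.exists_sub
  obtain ⟨L, f, hf, h⟩ := exists_splitting hK (l.map e ++ l.map g) (by
    intro a ha
    rcases List.mem_append.mp ha with ha | ha <;> obtain ⟨b, -, rfl⟩ := List.mem_map.mp ha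
    · exact he b
    · exact hg b)
  refine ⟨L, f, hf, fun x hxl => ?_⟩
  obtain ⟨s, hs, hs'⟩ := h (e x) (List.mem_append_left _ (List.mem_map_of_mem hxl))
  obtain ⟨t, ht, ht'⟩ := h (g x) (List.mem_append_right _ (List.mem_map_of_mem hxl))
  exact ⟨s, t, hs, ht, by rw [hs', ht', ← map_sub, ← hx]⟩

theorem adams_sum_lines {s : Multiset K} (hs : ∀ u ∈ s, P.IsLine u) (j : ℕ) :
    LambdaRing.adams P j s.sum = (s.map fun u => u ^ j).sum := by
  rw [← adamsAdd_apply, map_multiset_sum]
  exact congrArg Multiset.sum (Multiset.map_congr rfl fun u hu => adams_line (hs u hu) j)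

theorem adams_mul (hK : HasSplitting K P) (j : ℕ) (x y : K) :
    LambdaRing.adams P j (x * y) = LambdaRing.adams P j x * LambdaRing.adams P j y := by
  obtain ⟨L, f, hf, h⟩ := exists_splitting_elems hK [x, y]
  obtain ⟨s, t, hs, ht, hx⟩ := h x (by simp)
  obtain ⟨s', t', hs', ht', hy⟩ := h y (by simp)
  apply hf.injective
  rw [map_mul, map_adams hf, map_adams hf, map_adams hf, map_mul, hx, hy]
  have hp : ∀ a b : Multiset L.carrier, (∀ u ∈ a, L.posStr.IsLine u) → (∀ u ∈ b, L.posStr.IsLine u) →
      adamsAdd L.posStr j (a.sum * b.sum)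
        = adamsAdd L.posStr j a.sum * adamsAdd L.posStr j b.sum := by
    intro a b ha hb
    have hm : a.sum * b.sum = (mulProd a b).sum := by
      have := sum_mulProd a b 1
      simpa using this.symm
    have hl : ∀ u ∈ mulProd a b, L.posStr.IsLine u := by
      intro u hu
      obtain ⟨⟨p, q⟩, hpq, rfl⟩ := Multiset.mem_map.mp hu
      exact isLine_mul (ha p (Multiset.mem_product.mp hpq).1) (hb q (Multiset.mem_product.mp hpq).2)
    rw [hm, adamsAdd_apply, adamsAdd_apply, adamsAdd_apply, adams_sum_lines hl, adams_sum_lines ha,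
      adams_sum_lines hb, sum_mulProd]
  simp only [← adamsAdd_apply, sub_mul, mul_sub, map_sub, hp s s' hs hs', hp s t' hs ht',
    hp t s' ht hs', hp t t' ht ht']

/-- adams as a ring endomorphism -/
noncomputable def adamsRingHom (hK : HasSplitting K P) (j : ℕ) : K →+* K where
  toFun := LambdaRing.adams P j
  map_one' := by rw [adams_line (isLine_one P), one_pow]
  map_mul' := adams_mul hK j
  map_zero' := map_zero (adamsAdd P j)
  map_add' := adams_add P j

theorem adams_adams' (hK : HasSplitting K P) (i j : ℕ) (x : K) :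
    LambdaRing.adams P i (LambdaRing.adams P j x) = LambdaRing.adams P (i * j) x := by
  obtain ⟨L, f, hf, h⟩ := exists_splitting_elems hK [x]
  obtain ⟨s, t, hs, ht, hx⟩ := h x (by simp)
  apply hf.injective
  rw [map_adams hf, map_adams hf, map_adams hf, hx]
  have hp : ∀ a : Multiset L.carrier, (∀ u ∈ a, L.posStr.IsLine u) →
      adamsAdd L.posStr i (adamsAdd L.posStr j a.sum) = adamsAdd L.posStr (i * j) a.sum := by
    intro a ha
    have hl : ∀ u ∈ a.map (fun u => u ^ j), L.posStr.IsLine u := by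
      intro u hu
      obtain ⟨v, hv, rfl⟩ := Multiset.mem_map.mp hu
      exact isLine_pow (ha v hv) j
    rw [adamsAdd_apply, adamsAdd_apply, adamsAdd_apply, adams_sum_lines ha, adams_sum_lines hl,
      adams_sum_lines ha, Multiset.map_map]
    congr 1
    refine Multiset.map_congr rfl fun u _ => ?_
    simp [← pow_mul, mul_comm i j]
  simp only [← adamsAdd_apply, map_sub, hp s hs, hp t ht]

end Groth.Agent.Lam
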