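import Mathlib.RingTheory.PowerSeries.Basic
import Mathlib.RingTheory.PowerSeries.Inverse
import Mathlib.RingTheory.PowerSeries.Derivative
import Mathlib.RingTheory.MvPolynomial.Symmetric.Defs
import Mathlib.RingTheory.Polynomial.Vieta

/-!
Power series with constant term `1`: logarithmic derivative, split series `∏ (1 + a X)`.
-/

universe u v

open Finset

namespace Groth.Agent.Lam

open PowerSeries

variable {R : Type u} [CommRing R] {S : Type v} [CommRing S]

/-- logarithmic derivative of a series with constant coefficient one -/
noncomputable def logD (f : R⟦X⟧) : R⟦X⟧ := derivative R f * f.invOfUnit 1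

/-- `(-1)^k` times the `k`-th coefficient of the logarithmic derivative: the power sum of exponent `k+1` -/
noncomputable def psOp (f : R⟦X⟧) (k : ℕ) : R := (-1) ^ k * coeff k (logD f)

theorem eq_invOfUnit {f g : R⟦X⟧} (hf : constantCoeff f = 1) (h : f * g = 1) :
    g = f.invOfUnit 1 := by
  calc g = f.invOfUnit 1 * f * g := by rw [invOfUnit_mul f 1 (by simpa using hf), one_mul]
    _ = f.invOfUnit 1 := by rw [mul_assoc, h, mul_one]

theorem invOfUnit_mul_mul {f g : R⟦X⟧} (hf : constantCoeff f = 1) (hg : constantCoeff g = 1) :
    (f * g).invOfUnit 1 = f.invOfUnit 1 * g.invOfUnit 1 := by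
  refine (eq_invOfUnit (by simp [hf, hg]) ?_).symm
  rw [mul_mul_mul_comm, mul_invOfUnit f 1 (by simpa using hf), mul_invOfUnit g 1 (by simpa using hg),
    one_mul]

theorem map_invOfUnit (φ : R →+* S) {f : R⟦X⟧} (hf : constantCoeff f = 1) :
    PowerSeries.map φ (f.invOfUnit 1) = (PowerSeries.map φ f).invOfUnit 1 := by
  refine eq_invOfUnit ?_ ?_
  · rw [← coeff_zero_eq_constantCoeff_apply, coeff_map, coeff_zero_eq_constantCoeff_apply, hf, map_one]
  · rw [← map_mul, mul_invOfUnit f 1 (by simpa using hf), map_one]

theorem logD_mul {f g : R⟦X⟧} (hf : constantCoeff f = 1) (hg : constantCoeff g = 1) :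
    logD (f * g) = logD f + logD g := by
  have h1 := mul_invOfUnit f 1 (by simpa using hf)
  have h2 := mul_invOfUnit g 1 (by simpa using hg)
  simp only [logD, Derivation.leibniz, smul_eq_mul, invOfUnit_mul_mul hf hg]
  linear_combination (derivative R g * g.invOfUnit 1) * h1 + (derivative R f * f.invOfUnit 1) * h2

theorem logD_one : logD (1 : R⟦X⟧) = 0 := by simp [logD]

theorem logD_mul_self {f : R⟦X⟧} (hf : constantCoeff f = 1) : logD f * f = derivative R f := by
  rw [logD, mul_assoc, invOfUnit_mul f 1 (by simpa using hf), mul_one]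

theorem logD_eq_of_mul {f g : R⟦X⟧} (hf : constantCoeff f = 1) (h : g * f = derivative R f) :
    logD f = g := by
  rw [logD, ← h, mul_assoc, mul_invOfUnit f 1 (by simpa using hf), mul_one]

theorem psOp_mul {f g : R⟦X⟧} (hf : constantCoeff f = 1) (hg : constantCoeff g = 1) (k : ℕ) :
    psOp (f * g) k = psOp f k + psOp g k := by
  simp [psOp, logD_mul hf hg, mul_add]

theorem psOp_one (k : ℕ) : psOp (1 : R⟦X⟧) k = 0 := by simp [psOp, logD_one]

theorem map_logD (φ : R →+* S) {f : R⟦X⟧} (hf : constantCoeff f = 1) :
    PowerSeries.map φ (logD f) = logD (PowerSeries.map φ f) := by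
  simp only [logD, map_mul, map_invOfUnit φ hf]
  congr 1
  ext n
  simp [coeff_derivative]

theorem map_psOp (φ : R →+* S) {f : R⟦X⟧} (hf : constantCoeff f = 1) (k : ℕ) :
    φ (psOp f k) = psOp (PowerSeries.map φ f) k := by
  simp [psOp, ← map_logD φ hf, coeff_map]

theorem constantCoeff_map_one (φ : R →+* S) {f : R⟦X⟧} (hf : constantCoeff f = 1) :
    constantCoeff (PowerSeries.map φ f) = 1 := by
  rw [← coeff_zero_eq_constantCoeff_apply, coeff_map, coeff_zero_eq_constantCoeff_apply, hf, map_one]

/-- In a torsion free ring a series with constant term one is determined by its power sums. -/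
theorem eq_of_psOp_eq [IsAddTorsionFree R] {f g : R⟦X⟧} (hf : constantCoeff f = 1)
    (hg : constantCoeff g = 1) (h : ∀ k, psOp f k = psOp g k) : f = g := by
  have hL : logD f = logD g := by
    ext k
    have := h k
    simp only [psOp] at this
    exact (IsUnit.mul_right_inj (IsUnit.pow k isUnit_one.neg)).mp this
  have key : derivative R (f * g.invOfUnit 1) = derivative R (1 : R⟦X⟧) := by
    have e : logD (f * g.invOfUnit 1) = 0 := by
      have hgi : constantCoeff (g.invOfUnit 1) = 1 := by simp
      have h0 := logD_mul (R := R) hg hgi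
      rw [mul_invOfUnit g 1 (by simpa using hg), logD_one] at h0
      rw [logD_mul hf hgi, hL, ← h0]
    rw [← logD_mul_self (f := f * g.invOfUnit 1) (by simp [hf]), e, zero_mul, derivative_one]
  have := derivative.ext key (by simp [hf])
  calc f = f * (g.invOfUnit 1 * g) := by rw [invOfUnit_mul g 1 (by simpa using hg), mul_one]
    _ = g := by rw [← mul_assoc, this, one_mul]

/-- the split series `∏ (1 + a X)` -/
noncomputable def splitSeries (s : Multiset R) : R⟦X⟧ := (s.map fun a => 1 + C a * X).prod

@[simp] theorem splitSeries_zero : splitSeries (0 : Multiset R) = 1 := by simp [splitSeries]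

theorem splitSeries_cons (a : R) (s : Multiset R) :
    splitSeries (a ::ₘ s) = (1 + C a * X) * splitSeries s := by simp [splitSeries]

theorem splitSeries_add (s t : Multiset R) :
    splitSeries (s + t) = splitSeries s * splitSeries t := by simp [splitSeries]

theorem constantCoeff_splitSeries (s : Multiset R) : constantCoeff (splitSeries s) = 1 := by
  induction s using Multiset.induction_on with
  | empty => simp
  | cons a s ih => simp [splitSeries_cons, ih]

theorem map_splitSeries (φ : R →+* S) (s : Multiset R) :
    PowerSeries.map φ (splitSeries s) = splitSeries (s.map φ) := by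
  induction s using Multiset.induction_on with
  | empty => simp
  | cons a s ih => simp [splitSeries_cons, ih, PowerSeries.map_C, PowerSeries.map_X]

theorem esymm_cons_succ (a : R) (s : Multiset R) (n : ℕ) :
    (a ::ₘ s).esymm (n + 1) = s.esymm (n + 1) + a * s.esymm n := by
  simp [Multiset.esymm, Multiset.powersetCard_cons, Multiset.map_map, Function.comp_def,
    Multiset.sum_map_mul_left]

theorem esymm_zero_right (s : Multiset R) : s.esymm 0 = 1 := by simp [Multiset.esymm]

theorem esymm_zero_left (n : ℕ) : (0 : Multiset R).esymm n = if n = 0 then 1 else 0 := by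
  rcases n with _ | n <;> simp [Multiset.esymm, Multiset.powersetCard_zero_right]

theorem coeff_splitSeries (s : Multiset R) (n : ℕ) : coeff n (splitSeries s) = s.esymm n := by
  induction s using Multiset.induction_on generalizing n with
  | empty => simp [esymm_zero_left, coeff_one]
  | cons a s ih =>
    rw [splitSeries_cons]
    cases n with
    | zero => simp [esymm_zero_right, constantCoeff_splitSeries]
    | succ n => rw [add_mul, one_mul, map_add, ih, mul_assoc, coeff_C_mul, coeff_succ_X_mul, ih,
        esymm_cons_succ]

theorem splitSeries_filter_zero (s : Multiset R) (m : ℕ) :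
    splitSeries (s + Multiset.replicate m 0) = splitSeries s := by
  simp [splitSeries]

theorem esymm_add_zeros (s : Multiset R) (m n : ℕ) :
    (s + Multiset.replicate m 0).esymm n = s.esymm n := by
  rw [← coeff_splitSeries, splitSeries_filter_zero, coeff_splitSeries]

theorem mk_neg_pow_mul (a : R) :
    (1 + C a * X) * (PowerSeries.mk fun n => (-a) ^ n) = 1 := by
  ext n
  cases n with
  | zero => simp
  | succ n =>
    rw [add_mul, one_mul, map_add, mul_assoc, coeff_C_mul, coeff_succ_X_mul]
    simp [pow_succ]; ring

theorem logD_linear (a : R) :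
    logD (1 + C a * X : R⟦X⟧) = C a * (PowerSeries.mk fun n => (-a) ^ n) := by
  refine logD_eq_of_mul (by simp) ?_
  rw [mul_assoc, mul_comm (PowerSeries.mk _), mk_neg_pow_mul, mul_one]
  simp [Derivation.leibniz, PowerSeries.derivative_X]

theorem psOp_linear (a : R) (k : ℕ) : psOp (1 + C a * X : R⟦X⟧) k = a ^ (k + 1) := by
  rw [psOp, logD_linear, coeff_C_mul, coeff_mk, neg_pow a k]
  have h : ((-1 : R) ^ k) * (-1) ^ k = 1 := by rw [← mul_pow]; simp
  rw [pow_succ]
  linear_combination (a ^ k * a) * h

theorem psOp_splitSeries (s : Multiset R) (k : ℕ) :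
    psOp (splitSeries s) k = (s.map fun a => a ^ (k + 1)).sum := by
  induction s using Multiset.induction_on with
  | empty => simp [psOp_one]
  | cons a s ih =>
    rw [splitSeries_cons, psOp_mul (by simp) (constantCoeff_splitSeries s), psOp_linear, ih]
    simp

end Groth.Agent.Lam
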