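import Groth.Agent.Lam.Ops

/-!
Special λ-rings: multiplicativity and composition of the Adams operations, and the converse
in torsion free rings.
-/

universe u v

open Finset PowerSeries

namespace Groth.Agent.Lam

open _root_.LambdaRing

variable {R : Type u} [CommRing R] {S : Type v} [CommRing S]

/-- coefficients in positive degree, as variable values -/
noncomputable def cf (f : R⟦X⟧) (k : ℕ) : R := coeff (k + 1) f

/-- the chosen universal polynomial `P_n` -/
noncomputable def pN (n : ℕ) := (exists_isMulPoly' n).choose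

theorem pN_spec (n : ℕ) : IsMulPoly n (pN n) := (exists_isMulPoly' n).choose_spec

/-- the chosen universal polynomial `Q_{i,j}` -/
noncomputable def qIJ (i j : ℕ) := (exists_isCompPoly' i j).choose

theorem qIJ_spec (i j : ℕ) : IsCompPoly i j (qIJ i j) := (exists_isCompPoly' i j).choose_spec

/-- the product of two series in the sense of λ-rings -/
noncomputable def mulSer (f g : R⟦X⟧) : R⟦X⟧ :=
  PowerSeries.mk fun n =>
    if n = 0 then 1 else
      MvPolynomial.aeval (Sum.elim (fun k : Fin n => cf f k) (fun k : Fin n => cf g k)) (pN n)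

/-- the exterior power of a series in the sense of λ-rings -/
noncomputable def compSer (f : R⟦X⟧) (i : ℕ) : R⟦X⟧ :=
  PowerSeries.mk fun j =>
    if j = 0 then 1 else MvPolynomial.aeval (fun k : Fin (i * j) => cf f k) (qIJ i j)

/-- the image of a series under an Adams operation -/
noncomputable def adamsSer (k : ℕ) (f : R⟦X⟧) : R⟦X⟧ :=
  PowerSeries.mk fun i => if i = 0 then 1 else psOp (compSer f i) k

theorem constantCoeff_mulSer (f g : R⟦X⟧) : constantCoeff (mulSer f g) = 1 := by
  rw [← coeff_zero_eq_constantCoeff_apply, mulSer, coeff_mk, if_pos rfl]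

theorem constantCoeff_compSer (f : R⟦X⟧) (i : ℕ) : constantCoeff (compSer f i) = 1 := by
  rw [← coeff_zero_eq_constantCoeff_apply, compSer, coeff_mk, if_pos rfl]

theorem constantCoeff_adamsSer (k : ℕ) (f : R⟦X⟧) : constantCoeff (adamsSer k f) = 1 := by
  rw [← coeff_zero_eq_constantCoeff_apply, adamsSer, coeff_mk, if_pos rfl]

theorem map_mulSer (φ : R →+* S) (f g : R⟦X⟧) :
    PowerSeries.map φ (mulSer f g) = mulSer (PowerSeries.map φ f) (PowerSeries.map φ g) := by
  ext n
  simp only [mulSer, coeff_map, coeff_mk, apply_ite φ, map_one, map_aeval_int]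
  congr 2
  congr 1
  funext k
  rcases k with k | k <;> simp [cf, coeff_map]

theorem map_compSer (φ : R →+* S) (f : R⟦X⟧) (i : ℕ) :
    PowerSeries.map φ (compSer f i) = compSer (PowerSeries.map φ f) i := by
  ext n
  simp only [compSer, coeff_map, coeff_mk, apply_ite φ, map_one, map_aeval_int]
  congr 2

theorem map_adamsSer (φ : R →+* S) (k : ℕ) (f : R⟦X⟧) :
    PowerSeries.map φ (adamsSer k f) = adamsSer k (PowerSeries.map φ f) := by
  ext n
  simp only [adamsSer, coeff_map, coeff_mk, apply_ite φ, map_one,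
    map_psOp φ (constantCoeff_compSer f n), map_compSer]

theorem mulSer_split (s t : Multiset R) :
    mulSer (splitSeries s) (splitSeries t) = splitSeries (mulProd s t) := by
  ext n
  rw [coeff_splitSeries, mulSer, coeff_mk]
  rcases eq_or_ne n 0 with rfl | hn
  · simp [esymm_zero_right]
  · rw [if_neg hn, mulPoly_identity (pN_spec n)]
    congr 2
    funext k
    rcases k with k | k <;> simp [cf, vals₂, coeff_splitSeries]

theorem compSer_split (s : Multiset R) (i : ℕ) :
    compSer (splitSeries s) i = splitSeries (subProd s i) := by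
  ext n
  rw [coeff_splitSeries, compSer, coeff_mk]
  rcases eq_or_ne n 0 with rfl | hn
  · simp [esymm_zero_right]
  · rw [if_neg hn, compPoly_identity (qIJ_spec i n)]
    congr 2
    funext k
    simp [cf, coeff_splitSeries]

theorem adamsSer_split (k : ℕ) (s : Multiset R) :
    adamsSer k (splitSeries s) = splitSeries (s.map fun a => a ^ (k + 1)) := by
  ext i
  rw [coeff_splitSeries, adamsSer, coeff_mk]
  rcases eq_or_ne i 0 with rfl | hn
  · simp [esymm_zero_right]
  · rw [if_neg hn, compSer_split, psOp_splitSeries, subProd_pow]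
    rfl

/-- the generic pair of series -/
noncomputable def genL : (MvPolynomial (ℕ ⊕ ℕ) ℤ)⟦X⟧ :=
  PowerSeries.mk fun n => if n = 0 then 1 else MvPolynomial.X (Sum.inl (n - 1))

/-- the generic pair of series -/
noncomputable def genR : (MvPolynomial (ℕ ⊕ ℕ) ℤ)⟦X⟧ :=
  PowerSeries.mk fun n => if n = 0 then 1 else MvPolynomial.X (Sum.inr (n - 1))

/-- specialization of the generic pair -/
noncomputable def ev (f g : R⟦X⟧) : MvPolynomial (ℕ ⊕ ℕ) ℤ →+* R :=
  (MvPolynomial.aeval (Sum.elim (cf f) (cf g))).toRingHom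

theorem constantCoeff_genL : constantCoeff genL = 1 := by
  rw [← coeff_zero_eq_constantCoeff_apply, genL, coeff_mk, if_pos rfl]

theorem constantCoeff_genR : constantCoeff genR = 1 := by
  rw [← coeff_zero_eq_constantCoeff_apply, genR, coeff_mk, if_pos rfl]

theorem map_genL {f g : R⟦X⟧} (hf : constantCoeff f = 1) : PowerSeries.map (ev f g) genL = f := by
  ext n
  rcases n with _ | n
  · simp [genL, hf]
  · simp [genL, ev, cf]

theorem map_genR {f g : R⟦X⟧} (hg : constantCoeff g = 1) : PowerSeries.map (ev f g) genR = g := by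
  ext n
  rcases n with _ | n
  · simp [genR, hg]
  · simp [genR, ev, cf]

theorem exists_le_finset (s : Finset (ℕ ⊕ ℕ)) :
    ∃ N : ℕ, ∀ t ∈ s, Sum.elim id id t < N := by
  refine ⟨(s.sup (Sum.elim id id)) + 1, fun t ht => ?_⟩
  exact Nat.lt_succ_of_le (Finset.le_sup (f := Sum.elim id id) ht)

/-- A polynomial in the coefficients of two series which vanishes on all split series is zero. -/
theorem split_principle {q q' : MvPolynomial (ℕ ⊕ ℕ) ℤ}
    (h : ∀ (A : Type) [CommRing A] (s t : Multiset A),
      ev (splitSeries s) (splitSeries t) q = ev (splitSeries s) (splitSeries t) q') : q = q' := by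
  classical
  obtain ⟨N, hN⟩ := exists_le_finset (q.vars ∪ q'.vars)
  let f : Fin N ⊕ Fin N → ℕ ⊕ ℕ := Sum.map Fin.val Fin.val
  have hf : Function.Injective f := Fin.val_injective.sumMap Fin.val_injective
  have hr : ∀ t : ℕ ⊕ ℕ, Sum.elim id id t < N → t ∈ Set.range f := by
    rintro (k | k) hk
    · exact ⟨Sum.inl ⟨k, hk⟩, rfl⟩
    · exact ⟨Sum.inr ⟨k, hk⟩, rfl⟩
  obtain ⟨p, rfl⟩ := MvPolynomial.exists_rename_eq_of_vars_subset_range q f hf
    (fun t ht => hr t (hN t (Finset.mem_union_left _ (Finset.mem_coe.mp ht))))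
  obtain ⟨p', rfl⟩ := MvPolynomial.exists_rename_eq_of_vars_subset_range q' f hf
    (fun t ht => hr t (hN t (Finset.mem_union_right _ (Finset.mem_coe.mp ht))))
  congr 1
  apply eHom₂_injective N N
  have := h (MvPolynomial (Fin N ⊕ Fin N) ℤ)
    (Finset.univ.val.map fun a => MvPolynomial.X (Sum.inl a))
    (Finset.univ.val.map fun a => MvPolynomial.X (Sum.inr a))
  simp only [ev, AlgHom.toRingHom_eq_coe, RingHom.coe_coe, MvPolynomial.aeval_rename] at this
  have e : (Sum.elim (cf (splitSeries (Finset.univ.val.map fun a : Fin N =>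
        (MvPolynomial.X (Sum.inl a) : MvPolynomial (Fin N ⊕ Fin N) ℤ))))
      (cf (splitSeries (Finset.univ.val.map fun a : Fin N => MvPolynomial.X (Sum.inr a))))) ∘ f
      = Sum.elim (fun k : Fin N => MvPolynomial.rename Sum.inl (MvPolynomial.esymm (Fin N) ℤ ((k : ℕ) + 1)))
        (fun k : Fin N => MvPolynomial.rename Sum.inr (MvPolynomial.esymm (Fin N) ℤ ((k : ℕ) + 1))) := by
    funext k
    rcases k with k | k <;>
    · simp only [f, Function.comp_apply, Sum.map_inl, Sum.map_inr, Sum.elim_inl, Sum.elim_inr, cf,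
        coeff_splitSeries]
      rw [MvPolynomial.rename_eq_aeval, MvPolynomial.aeval_esymm_eq_multiset_esymm]
      rfl
  rw [e] at this
  exact this

theorem psOp_mulSer {f g : R⟦X⟧} (hf : constantCoeff f = 1) (hg : constantCoeff g = 1) (k : ℕ) :
    psOp (mulSer f g) k = psOp f k * psOp g k := by
  have key : psOp (mulSer genL genR) k = psOp genL k * psOp genR k := by
    refine split_principle fun A _ s t => ?_
    rw [map_mul, map_psOp _ (constantCoeff_mulSer _ _), map_psOp _ constantCoeff_genL,
      map_psOp _ constantCoeff_genR, map_mulSer, map_genL (constantCoeff_splitSeries s),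
      map_genR (constantCoeff_splitSeries t), mulSer_split, psOp_splitSeries, psOp_splitSeries,
      psOp_splitSeries, sum_mulProd]
  have := congrArg (ev f g) key
  rwa [map_mul, map_psOp _ (constantCoeff_mulSer _ _), map_psOp _ constantCoeff_genL,
    map_psOp _ constantCoeff_genR, map_mulSer, map_genL hf, map_genR hg] at this

theorem psOp_adamsSer {f : R⟦X⟧} (hf : constantCoeff f = 1) (k l : ℕ) :
    psOp (adamsSer k f) l = psOp f ((k + 1) * (l + 1) - 1) := by
  have key : psOp (adamsSer k genL) l = psOp genL ((k + 1) * (l + 1) - 1) := by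
    refine split_principle fun A _ s t => ?_
    rw [map_psOp _ (constantCoeff_adamsSer _ _), map_psOp _ constantCoeff_genL, map_adamsSer,
      map_genL (constantCoeff_splitSeries s), adamsSer_split, psOp_splitSeries, psOp_splitSeries,
      Multiset.map_map]
    congr 1
    refine Multiset.map_congr rfl fun a _ => ?_
    have h1 : 1 ≤ (k + 1) * (l + 1) := Nat.one_le_iff_ne_zero.mpr (by positivity)
    simp only [Function.comp, ← pow_mul, Nat.sub_add_cancel h1]
  have := congrArg (ev f f) key
  rwa [map_psOp _ (constantCoeff_adamsSer _ _), map_psOp _ constantCoeff_genL, map_adamsSer,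
    map_genL hf] at this

variable {K : Type u} [CommRing K] [LambdaOps K]

theorem lamSeries_mul (hK : IsSpecial K) (x y : K) :
    lamSeries (x * y) = mulSer (lamSeries x) (lamSeries y) := by
  ext n
  rw [coeff_lamSeries, mulSer, coeff_mk]
  rcases eq_or_ne n 0 with rfl | hn
  · rw [if_pos rfl, LambdaOps.lam_zero]
  · rw [if_neg hn, hK.lam_mul n _ (pN_spec n)]
    simp only [cf, coeff_lamSeries]

theorem lamSeries_lam (hK : IsSpecial K) (i : ℕ) (x : K) :
    lamSeries (LambdaOps.lam i x) = compSer (lamSeries x) i := by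
  ext n
  rw [coeff_lamSeries, compSer, coeff_mk]
  rcases eq_or_ne n 0 with rfl | hn
  · rw [if_pos rfl, LambdaOps.lam_zero]
  · rw [if_neg hn, hK.lam_lam i n _ (qIJ_spec i n)]
    simp only [cf, coeff_lamSeries]

theorem adamsOp_mul (hK : IsSpecial K) {k : ℕ} (hk : 1 ≤ k) (x y : K) :
    adamsOp k (x * y) = adamsOp k x * adamsOp k y := by
  obtain ⟨k, rfl⟩ := Nat.exists_eq_add_of_le hk
  simp only [add_comm 1 k, adamsOp_succ, lamSeries_mul hK,
    psOp_mulSer (constantCoeff_lamSeries x) (constantCoeff_lamSeries y)]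

/-- the Adams operation as a ring endomorphism -/
noncomputable def adamsHom (hK : IsSpecial K) {k : ℕ} (hk : 1 ≤ k) : K →+* K where
  toFun := adamsOp k
  map_one' := by rw [adamsOp_of_linear hK.lam_one_eq_zero hk, one_pow]
  map_mul' := adamsOp_mul hK hk
  map_zero' := adamsOp_zero_right k
  map_add' := adamsOp_add k

theorem adamsOp_comp (hK : IsSpecial K) {k k' : ℕ} (hk : 1 ≤ k) (hk' : 1 ≤ k') (x : K) :
    adamsOp k (adamsOp k' x) = adamsOp (k * k') x := by
  obtain ⟨a, rfl⟩ : ∃ a, k = a + 1 := ⟨k - 1, by omega⟩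
  obtain ⟨b, rfl⟩ : ∃ b, k' = b + 1 := ⟨k' - 1, by omega⟩
  have h : PowerSeries.map (adamsHom hK hk) (lamSeries x) = adamsSer a (lamSeries x) := by
    ext i
    rw [coeff_map, coeff_lamSeries, adamsSer, coeff_mk]
    rcases eq_or_ne i 0 with rfl | hi
    · rw [if_pos rfl, LambdaOps.lam_zero, map_one]
    · rw [if_neg hi]
      show adamsOp (a + 1) (LambdaOps.lam i x) = _
      rw [adamsOp_succ, lamSeries_lam hK]
  have h2 := map_psOp (adamsHom hK hk) (constantCoeff_lamSeries x) b
  rw [h, psOp_adamsSer (constantCoeff_lamSeries x)] at h2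
  rw [adamsOp_succ b]
  refine h2.trans ?_
  obtain ⟨c, hc⟩ : ∃ c, (a + 1) * (b + 1) = c + 1 := ⟨(a + 1) * (b + 1) - 1, by
    have : 1 ≤ (a + 1) * (b + 1) := Nat.one_le_iff_ne_zero.mpr (by positivity)
    omega⟩
  rw [hc, adamsOp_succ, Nat.add_sub_cancel]

theorem isSpecial_of_adamsOp [IsAddTorsionFree K]
    (h1 : ∀ k : ℕ, 1 ≤ k → adamsOp k (1 : K) = 1)
    (hmul : ∀ k : ℕ, 1 ≤ k → ∀ x y : K, adamsOp k (x * y) = adamsOp k x * adamsOp k y)
    (hcomp : ∀ k k' : ℕ, 1 ≤ k → 1 ≤ k' → ∀ x : K,
      adamsOp k (adamsOp k' x) = adamsOp (k * k') x) : IsSpecial K := by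
  have e1 : lamSeries (1 : K) = 1 + C (1 : K) * PowerSeries.X :=
    eq_of_psOp_eq (constantCoeff_lamSeries 1) (by simp) fun k => by
      rw [← adamsOp_succ, h1 _ (Nat.le_add_left 1 k), psOp_linear, one_pow]
  have em : ∀ x y : K, lamSeries (x * y) = mulSer (lamSeries x) (lamSeries y) := fun x y =>
    eq_of_psOp_eq (constantCoeff_lamSeries _) (constantCoeff_mulSer _ _) fun k => by
      rw [psOp_mulSer (constantCoeff_lamSeries x) (constantCoeff_lamSeries y), ← adamsOp_succ,
        hmul _ (Nat.le_add_left 1 k)]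
      rfl
  have ec : ∀ (i : ℕ), i ≠ 0 → ∀ x : K, lamSeries (LambdaOps.lam i x) = compSer (lamSeries x) i := by
    intro i hi x
    refine eq_of_psOp_eq (constantCoeff_lamSeries _) (constantCoeff_compSer _ _) fun a => ?_
    let φ : K →+* K :=
      { toFun := adamsOp (a + 1)
        map_one' := h1 _ (Nat.le_add_left 1 a)
        map_mul' := hmul _ (Nat.le_add_left 1 a)
        map_zero' := adamsOp_zero_right _
        map_add' := adamsOp_add _ }
    have hφ : PowerSeries.map φ (lamSeries x) = adamsSer a (lamSeries x) := by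
      refine eq_of_psOp_eq (constantCoeff_map_one φ (constantCoeff_lamSeries x))
        (constantCoeff_adamsSer _ _) fun l => ?_
      rw [← map_psOp φ (constantCoeff_lamSeries x), psOp_adamsSer (constantCoeff_lamSeries x),
        ← adamsOp_succ, ← adamsOp_succ]
      refine (hcomp (a + 1) (l + 1) (Nat.le_add_left 1 a) (Nat.le_add_left 1 l) x).trans ?_
      have : 1 ≤ (a + 1) * (l + 1) := Nat.one_le_iff_ne_zero.mpr (by positivity)
      rw [Nat.sub_add_cancel this]
    have := congrArg (coeff i) hφ
    rw [coeff_map, coeff_lamSeries, adamsSer, coeff_mk, if_neg hi] at this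
    exact this
  refine ⟨fun n hn => ?_, fun n P hP x y => ?_, fun i j Q hQ x => ?_⟩
  · rw [← coeff_lamSeries, e1, map_add, coeff_C_mul, coeff_one, coeff_X, if_neg (by omega),
      if_neg (by omega)]
    simp
  · rw [isMulPoly_unique hP (pN_spec n)]
    rcases eq_or_ne n 0 with rfl | hn
    · rw [LambdaOps.lam_zero]
      have h := mulPoly_identity (R := K) (pN_spec 0) 0 0
      rw [esymm_zero_right] at h
      convert h using 3
      exact Subsingleton.elim _ _
    · rw [← coeff_lamSeries, em, mulSer, coeff_mk, if_neg hn]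
      simp only [cf, coeff_lamSeries]
  · rw [isCompPoly_unique hQ (qIJ_spec i j)]
    rcases eq_or_ne j 0 with rfl | hj
    · rw [LambdaOps.lam_zero]
      have h := compPoly_identity (R := K) (qIJ_spec i 0) 0
      rw [esymm_zero_right] at h
      convert h using 3
      funext k
      exact absurd k.isLt (by simp)
    rcases eq_or_ne i 0 with rfl | hi
    · rw [LambdaOps.lam_zero]
      have h := compPoly_identity (R := K) (qIJ_spec 0 j) 0
      rw [← coeff_lamSeries, e1, map_add, coeff_C_mul, coeff_one, coeff_X, if_neg hj]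
      refine (Eq.trans ?_ (h.trans ?_))
      · rcases j with _ | _ | j
        · exact absurd rfl hj
        · simp [subProd, Multiset.esymm, Multiset.powersetCard_one]
        · simp [subProd, Multiset.esymm]
      · congr 2
        funext k
        exact absurd k.isLt (by simp)
    · rw [← coeff_lamSeries, ec i hi, compSer, coeff_mk, if_neg hj]
      simp only [cf, coeff_lamSeries]

end Groth.Agent.Lam
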