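import Groth.Agent.Lam.Pos
import Mathlib.RingTheory.MvPolynomial.Basic
import Mathlib.RingTheory.MvPolynomial.Ideal
import Mathlib.Algebra.Group.ForwardDiff
import Mathlib.RingTheory.Ideal.Quotient.Operations

/-!
The split λ-ring `ℤ[a_j]`, in which every `1 + a_j` is a line element, and its adic filtration.
-/

universe u

open Finset

namespace Groth.Agent.Lam

open _root_.LambdaRing

variable {σ : Type u}

/-- the split ring -/
abbrev SR (σ : Type u) := MvPolynomial σ ℤ

/-- `u_j ↦ 1 + a_j` -/
noncomputable def shiftU : SR σ →ₐ[ℤ] SR σ := MvPolynomial.aeval fun j => 1 + MvPolynomial.X j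

/-- `a_j ↦ u_j - 1` -/
noncomputable def unshiftU : SR σ →ₐ[ℤ] SR σ := MvPolynomial.aeval fun j => MvPolynomial.X j - 1

theorem shiftU_unshiftU (x : SR σ) : shiftU (unshiftU x) = x := by
  have : (shiftU.comp unshiftU : SR σ →ₐ[ℤ] SR σ) = AlgHom.id ℤ (SR σ) :=
    MvPolynomial.algHom_ext fun j => by simp [shiftU, unshiftU]
  exact DFunLike.congr_fun this x

theorem unshiftU_shiftU (x : SR σ) : unshiftU (shiftU x) = x := by
  have : (unshiftU.comp shiftU : SR σ →ₐ[ℤ] SR σ) = AlgHom.id ℤ (SR σ) :=
    MvPolynomial.algHom_ext fun j => by simp [shiftU, unshiftU]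
  exact DFunLike.congr_fun this x

/-- the line elements -/
noncomputable def lineU (c : σ →₀ ℕ) : SR σ := shiftU (MvPolynomial.monomial c 1)

/-- an induction principle along line elements -/
theorem sr_induction {motive : SR σ → Prop} (x : SR σ)
    (h : ∀ (c : σ →₀ ℕ) (z : ℤ), motive (z • lineU c))
    (hadd : ∀ a b, motive a → motive b → motive (a + b)) : motive x := by
  rw [← shiftU_unshiftU x]
  induction unshiftU x using MvPolynomial.induction_on' with
  | monomial c z =>
    have : (MvPolynomial.monomial c z : SR σ) = z • MvPolynomial.monomial c 1 := by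
      rw [MvPolynomial.smul_monomial, smul_eq_mul, mul_one]
    rw [this, map_zsmul]
    exact h c z
  | add p q hp hq => rw [map_add]; exact hadd _ _ hp hq

theorem hom_ext_lines {M : Type*} [AddCommGroup M] {f g : SR σ →+ M}
    (h : ∀ c, f (lineU c) = g (lineU c)) : f = g := by
  refine AddMonoidHom.ext fun x => ?_
  induction x using sr_induction with
  | h c z => rw [map_zsmul, map_zsmul, h]
  | hadd a b ha hb => rw [map_add, map_add, ha, hb]

/-- a series with constant coefficient one, as a unit -/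
noncomputable def unitOf {R : Type*} [CommRing R] (f : PowerSeries R) (hf : PowerSeries.constantCoeff f = 1) :
    (PowerSeries R)ˣ where
  val := f
  inv := f.invOfUnit 1
  val_inv := PowerSeries.mul_invOfUnit f 1 (by simpa using hf)
  inv_val := PowerSeries.invOfUnit_mul f 1 (by simpa using hf)

/-- the λ-series of the split ring, on `u`-coordinates -/
noncomputable def preSer : SR σ →ₗ[ℤ] Additive (PowerSeries (SR σ))ˣ :=
  (MvPolynomial.basisMonomials σ ℤ).constr ℤ fun c =>
    Additive.ofMul (unitOf (1 + PowerSeries.C (lineU c) * PowerSeries.X) (by simp))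

/-- the λ-series of the split ring, as an additive map -/
noncomputable def serS : SR σ →+ Additive (PowerSeries (SR σ))ˣ :=
  preSer.toAddMonoidHom.comp (unshiftU : SR σ →ₐ[ℤ] SR σ).toRingHom.toAddMonoidHom

theorem serS_line (c : σ →₀ ℕ) :
    ((serS (lineU c)).toMul : PowerSeries (SR σ)) = 1 + PowerSeries.C (lineU c) * PowerSeries.X := by
  have h : serS (lineU c) = Additive.ofMul (unitOf (1 + PowerSeries.C (lineU c) * PowerSeries.X) (by simp)) := by
    show preSer (unshiftU (shiftU (MvPolynomial.monomial c 1))) = _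
    rw [unshiftU_shiftU, show (MvPolynomial.monomial c 1 : SR σ) = MvPolynomial.basisMonomials σ ℤ c by
      rw [MvPolynomial.coe_basisMonomials], preSer, Module.Basis.constr_basis]
  rw [h]; rfl

/-- coefficient of `t` of a unit with constant coefficient one, as additive map on the split ring -/
theorem serS_constantCoeff (x : SR σ) :
    PowerSeries.constantCoeff ((serS x).toMul : PowerSeries (SR σ)) = 1 := by
  let χ : SR σ →+ Additive (SR σ)ˣ :=
    (MonoidHom.toAdditive (Units.map (PowerSeries.constantCoeff (R := SR σ)).toMonoidHom)).comp serS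
  have : χ = 0 := hom_ext_lines fun c => by
    apply Additive.toMul.injective
    apply Units.ext
    show PowerSeries.constantCoeff ((serS (lineU c)).toMul : PowerSeries (SR σ)) = 1
    rw [serS_line]; simp
  exact congrArg (fun a : Additive (SR σ)ˣ => ((a.toMul : (SR σ)ˣ) : SR σ)) (DFunLike.congr_fun this x)

theorem serS_coeff_one (x : SR σ) : PowerSeries.coeff 1 ((serS x).toMul : PowerSeries (SR σ)) = x := by
  let φ : SR σ →+ SR σ := AddMonoidHom.mk'
    (fun x => PowerSeries.coeff 1 ((serS x).toMul : PowerSeries (SR σ))) fun a b => by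
      rw [map_add, toMul_add, Units.val_mul, PowerSeries.coeff_one_mul, serS_constantCoeff, serS_constantCoeff]
      ring
  have : φ = AddMonoidHom.id _ := hom_ext_lines fun c => by
    show PowerSeries.coeff 1 ((serS (lineU c)).toMul : PowerSeries (SR σ)) = _
    rw [serS_line]; simp [PowerSeries.coeff_one]
  exact DFunLike.congr_fun this x

/-- the λ-structure of the split ring -/
@[reducible] noncomputable def splitOps (σ : Type u) : LambdaOps (SR σ) where
  lam n x := PowerSeries.coeff n ((serS x).toMul : PowerSeries (SR σ))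
  lam_zero x := by rw [PowerSeries.coeff_zero_eq_constantCoeff_apply]; exact serS_constantCoeff x
  lam_one := serS_coeff_one
  lam_add k x y := by
    rw [map_add, toMul_add, Units.val_mul, PowerSeries.coeff_mul,
      Finset.Nat.sum_antidiagonal_eq_sum_range_succ_mk]

attribute [local instance] splitOps

theorem lamSeries_line (c : σ →₀ ℕ) :
    lamSeries (lineU c) = 1 + PowerSeries.C (lineU c) * PowerSeries.X := by
  refine PowerSeries.ext fun n => ?_
  rw [coeff_lamSeries, ← serS_line]
  rfl

theorem lam_lineU (c : σ →₀ ℕ) (i : ℕ) (hi : 2 ≤ i) : LambdaOps.lam i (lineU c) = 0 := by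
  rw [← coeff_lamSeries, lamSeries_line, map_add, PowerSeries.coeff_one, PowerSeries.coeff_C_mul,
    PowerSeries.coeff_X, if_neg (by omega), if_neg (by omega), mul_zero, add_zero]

theorem lineU_zero : lineU (0 : σ →₀ ℕ) = 1 := by simp [lineU]

/-- the substitution underlying `ψ^k` -/
noncomputable def psiS (k : ℕ) : SR σ →ₐ[ℤ] SR σ :=
  MvPolynomial.aeval fun j => (1 + MvPolynomial.X j) ^ k - 1

theorem psiS_lineU (k : ℕ) (c : σ →₀ ℕ) : psiS k (lineU c) = lineU c ^ k := by
  simp only [lineU, shiftU, MvPolynomial.aeval_monomial, map_one, one_mul]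
  simp only [Finsupp.prod, map_prod, map_pow, map_add, map_one, psiS, MvPolynomial.aeval_X,
    ← Finset.prod_pow, add_sub_cancel, ← pow_mul]
  refine Finset.prod_congr rfl fun j _ => ?_
  rw [mul_comm]

theorem adamsOp_eq_psiS {k : ℕ} (hk : 1 ≤ k) (x : SR σ) : adamsOp k x = psiS k x := by
  have h : AddMonoidHom.mk' (adamsOp k) (adamsOp_add k) = (psiS k : SR σ →ₐ[ℤ] SR σ).toRingHom.toAddMonoidHom :=
    hom_ext_lines fun c => by
      show adamsOp k (lineU c) = psiS k (lineU c)
      rw [psiS_lineU, adamsOp_of_linear (lam_lineU c) hk]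
  exact DFunLike.congr_fun h x

theorem isSpecial_split : IsSpecial (SR σ) := by
  refine isSpecial_of_adamsOp (fun k hk => ?_) (fun k hk x y => ?_) (fun k k' hk hk' x => ?_)
  · rw [adamsOp_eq_psiS hk, map_one]
  · rw [adamsOp_eq_psiS hk, adamsOp_eq_psiS hk, adamsOp_eq_psiS hk, map_mul]
  · rw [adamsOp_eq_psiS hk, adamsOp_eq_psiS hk', adamsOp_eq_psiS (Nat.one_le_iff_ne_zero.mpr
      (Nat.mul_ne_zero (by omega) (by omega)))]
    have : (psiS k).comp (psiS k') = psiS (σ := σ) (k * k') :=
      MvPolynomial.algHom_ext fun j => by simp [psiS, pow_mul]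
    exact DFunLike.congr_fun this x

theorem lam_one_split : ∀ i : ℕ, 2 ≤ i → LambdaOps.lam i (1 : SR σ) = 0 :=
  isSpecial_split.lam_one_eq_zero

/-! ### the adic filtration -/

/-- the `d`-th power of the augmentation ideal -/
noncomputable def OI (σ : Type u) (d : ℕ) : Ideal (SR σ) := MvPolynomial.idealOfVars σ ℤ ^ d

theorem mem_OI {d : ℕ} {x : SR σ} : x ∈ OI σ d ↔ ∀ c : σ →₀ ℕ, c.degree < d → x.coeff c = 0 :=
  MvPolynomial.mem_pow_idealOfVars_iff' d x

theorem OI_mul {a b : ℕ} {x y : SR σ} (hx : x ∈ OI σ a) (hy : y ∈ OI σ b) : x * y ∈ OI σ (a + b) := by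
  rw [OI, pow_add]; exact Ideal.mul_mem_mul hx hy

theorem OI_anti {a b : ℕ} (h : a ≤ b) : OI σ b ≤ OI σ a := Ideal.pow_le_pow_right h

theorem OI_zero : OI σ 0 = ⊤ := by simp [OI]

theorem mem_OI_one {x : SR σ} : x ∈ OI σ 1 ↔ MvPolynomial.constantCoeff x = 0 := by
  rw [mem_OI, MvPolynomial.constantCoeff_eq]
  exact ⟨fun h => h 0 (by simp), fun h c hc => by
    rw [(Finsupp.degree_eq_zero_iff c).mp (by omega)]; exact h⟩

theorem X_mem_OI (j : σ) : (MvPolynomial.X j : SR σ) ∈ OI σ 1 := mem_OI_one.mpr (by simp)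

theorem OI_saturated {d n : ℕ} (hn : n ≠ 0) {x : SR σ} (h : n • x ∈ OI σ d) : x ∈ OI σ d := by
  rw [mem_OI] at h ⊢
  intro c hc
  have := h c hc
  rw [MvPolynomial.coeff_smul, smul_eq_zero] at this
  exact this.resolve_left hn

theorem isAddTorsionFree_quot (d : ℕ) : IsAddTorsionFree (SR σ ⧸ OI σ d) := by
  refine ⟨fun n hn a b h => ?_⟩
  obtain ⟨a, rfl⟩ := Ideal.Quotient.mk_surjective a
  obtain ⟨b, rfl⟩ := Ideal.Quotient.mk_surjective b
  replace h : n • Ideal.Quotient.mk (OI σ d) a = n • Ideal.Quotient.mk (OI σ d) b := h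
  rw [← map_nsmul, ← map_nsmul, Ideal.Quotient.eq, ← smul_sub] at h
  exact Ideal.Quotient.eq.mpr (OI_saturated hn h)

theorem psiS_congr (k : ℕ) : ∀ (d : ℕ) {x : SR σ}, x ∈ OI σ d → psiS k x - (k : SR σ) ^ d * x ∈ OI σ (d + 1) := by
  have h0 : ∀ x : SR σ, psiS k x - x ∈ OI σ 1 := fun x => by
    rw [mem_OI_one, map_sub, sub_eq_zero]
    have : (MvPolynomial.constantCoeff (σ := σ) (R := ℤ)).comp (psiS k).toRingHom = MvPolynomial.constantCoeff :=
      MvPolynomial.ringHom_ext (by simp [psiS]) (by simp [psiS])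
    exact DFunLike.congr_fun this x
  have h1 : ∀ {x : SR σ}, x ∈ OI σ 1 → psiS k x - (k : SR σ) * x ∈ OI σ 2 := by
    intro x hx
    rw [OI, pow_one, MvPolynomial.idealOfVars] at hx
    induction hx using Submodule.span_induction with
    | mem y hy =>
      obtain ⟨j, rfl⟩ := hy
      have e : psiS k (MvPolynomial.X j : SR σ) - (k : SR σ) * MvPolynomial.X j
          = MvPolynomial.X j * ∑ i ∈ range k, ((1 + MvPolynomial.X j) ^ i - 1) := by
        rw [psiS, MvPolynomial.aeval_X, ← geom_sum_mul, Finset.sum_sub_distrib]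
        simp only [Finset.sum_const, Finset.card_range, nsmul_eq_mul, mul_one]
        ring
      rw [e]
      refine OI_mul (a := 1) (b := 1) (X_mem_OI j) (sum_mem fun i _ => ?_)
      rw [mem_OI_one]; simp
    | zero => simp
    | add a b _ _ ha hb =>
      have := add_mem ha hb
      rw [map_add]; convert this using 1; ring
    | smul r a ha' ha =>
      have ha1 : a ∈ OI σ 1 := by rw [OI, pow_one]; exact ha'
      have hp : psiS k a ∈ OI σ 1 := by
        have := add_mem (OI_anti (show 1 ≤ 2 by omega) ha) ((OI σ 1).mul_mem_left (k : SR σ) ha1)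
        rwa [sub_add_cancel] at this
      have := add_mem (OI_mul (h0 r) hp) ((OI σ 2).mul_mem_left r ha)
      rw [smul_eq_mul, map_mul]; convert this using 1; ring
  intro d
  induction d with
  | zero => intro x _; simpa using h0 x
  | succ d ih =>
    intro x hx
    rw [OI, pow_succ] at hx
    induction hx using Submodule.mul_induction_on' with
    | mem_mul_mem a ha b hb =>
      have hb1 : b ∈ OI σ 1 := by rwa [OI, pow_one]
      have hpb : psiS k b ∈ OI σ 1 := by
        have := add_mem (OI_anti (show 1 ≤ 2 by omega) (h1 hb1)) ((OI σ 1).mul_mem_left (k : SR σ) hb1)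
        rwa [sub_add_cancel] at this
      have := add_mem (OI_mul (ih ha) hpb)
        (OI_mul (a := d) ((OI σ d).mul_mem_left ((k : SR σ) ^ d) ha) (h1 hb1))
      rw [map_mul, pow_succ]; convert this using 1; ring
    | add a _ b _ ha hb =>
      have := add_mem ha hb
      rw [map_add]; convert this using 1; ring

theorem adamsOp_mem {d k : ℕ} (hk : 1 ≤ k) {x : SR σ} (hx : x ∈ OI σ d) : adamsOp k x ∈ OI σ d := by
  have := add_mem (OI_anti (Nat.le_succ d) (psiS_congr k d hx)) ((OI σ d).mul_mem_left ((k : SR σ) ^ d) hx)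
  rwa [sub_add_cancel, ← adamsOp_eq_psiS hk] at this

theorem map_psOp_adams {R : Type*} [CommRing R] (φ : SR σ →+* R) (x : SR σ) (k : ℕ) :
    psOp (PowerSeries.map φ (lamSeries x)) k = φ (adamsOp (k + 1) x) := by
  rw [adamsOp_succ, map_psOp φ (constantCoeff_lamSeries x)]

theorem lam_mem_OI {d n : ℕ} (hn : 1 ≤ n) {x : SR σ} (hx : x ∈ OI σ d) : LambdaOps.lam n x ∈ OI σ d := by
  haveI := isAddTorsionFree_quot (σ := σ) d
  have h : PowerSeries.map (Ideal.Quotient.mk (OI σ d)) (lamSeries x) = 1 :=
    eq_of_psOp_eq (constantCoeff_map_one _ (constantCoeff_lamSeries x)) (map_one _) fun k => by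
      rw [psOp_one, map_psOp_adams, Ideal.Quotient.eq_zero_iff_mem]
      exact adamsOp_mem (Nat.le_add_left 1 k) hx
  have := congrArg (PowerSeries.coeff n) h
  rw [PowerSeries.coeff_map, coeff_lamSeries, PowerSeries.coeff_one, if_neg (by omega)] at this
  exact Ideal.Quotient.eq_zero_iff_mem.mp this

theorem gamma_mem_OI {d n : ℕ} (hn : 1 ≤ n) {x : SR σ} (hx : x ∈ OI σ d) : gamma n x ∈ OI σ d := by
  rw [gamma, if_neg (by omega)]
  refine sum_mem fun j _ => Ideal.mul_mem_left _ _ ?_
  split
  · exact zero_mem _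
  · exact lam_mem_OI (by omega) hx

/-- series whose `i`-th coefficient lies in the `i`-th power of the augmentation ideal -/
def GradedSer (f : PowerSeries (SR σ)) : Prop := ∀ i, PowerSeries.coeff i f ∈ OI σ i

theorem GradedSer.mul {f g : PowerSeries (SR σ)} (hf : GradedSer f) (hg : GradedSer g) : GradedSer (f * g) := by
  intro i
  rw [PowerSeries.coeff_mul]
  refine sum_mem fun p hp => ?_
  have := OI_mul (hf p.1) (hg p.2)
  rwa [Finset.mem_antidiagonal.mp hp] at this

theorem GradedSer.of_mul_eq_one {f g : PowerSeries (SR σ)} (hf : GradedSer f)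
    (h0 : PowerSeries.constantCoeff f = 1) (h : f * g = 1) : GradedSer g := by
  intro i
  induction i using Nat.strong_induction_on with
  | _ i ih =>
    rcases eq_or_ne i 0 with rfl | hi
    · rw [OI_zero]; trivial
    have e := congrArg (PowerSeries.coeff i) h
    rw [PowerSeries.coeff_mul, Finset.Nat.sum_antidiagonal_eq_sum_range_succ_mk, Finset.sum_range_succ',
      PowerSeries.coeff_one, if_neg hi, PowerSeries.coeff_zero_eq_constantCoeff_apply, h0, one_mul,
      Nat.sub_zero] at e
    rw [eq_neg_of_add_eq_zero_right e]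
    refine neg_mem (sum_mem fun j hj => ?_)
    have hj' : j < i := Finset.mem_range.mp hj
    have := OI_mul (hf (j + 1)) (ih (i - (j + 1)) (by omega))
    rwa [show j + 1 + (i - (j + 1)) = i by omega] at this

theorem gradedSer_gam (x : SR σ) :
    GradedSer (gamSeries (x - ((MvPolynomial.constantCoeff x : ℤ) : SR σ))) := by
  have hline : ∀ c, GradedSer (gamSeries (lineU (σ := σ) c - 1)) := by
    intro c i
    rw [gamSeries_sub_one lam_one_split (lam_lineU c), map_add, PowerSeries.coeff_one, PowerSeries.coeff_C_mul,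
      PowerSeries.coeff_X]
    rcases i with _ | _ | i
    · simp [OI_zero]
    · simp only [if_neg one_ne_zero, if_pos, zero_add, mul_one]
      rw [mem_OI_one]
      simp [lineU, shiftU, MvPolynomial.aeval_monomial, Finsupp.prod]
    · simp
  have hneg : ∀ y : SR σ, GradedSer (gamSeries y) → GradedSer (gamSeries (-y)) := fun y hy => by
    refine hy.of_mul_eq_one ?_ ?_
    · rw [← PowerSeries.coeff_zero_eq_constantCoeff_apply, coeff_gamSeries, gamma_zero]
    · rw [← gamSeries_add, add_neg_cancel, gamSeries_zero]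
  have hone : GradedSer (1 : PowerSeries (SR σ)) := fun i => by
    rw [PowerSeries.coeff_one]
    split
    · next h => subst h; rw [OI_zero]; trivial
    · exact zero_mem _
  induction x using sr_induction with
  | h c z =>
    have e : z • lineU c - ((MvPolynomial.constantCoeff (z • lineU c : SR σ) : ℤ) : SR σ) = z • (lineU c - 1) := by
      have : MvPolynomial.constantCoeff (lineU (σ := σ) c) = 1 := by
        simp [lineU, shiftU, MvPolynomial.aeval_monomial, Finsupp.prod]
      simp [this, smul_sub, mul_sub]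
    rw [e]
    clear e
    induction z using Int.induction_on with
    | zero => rw [zero_smul, gamSeries_zero]; exact hone
    | succ n ih => rw [add_smul, one_smul, gamSeries_add]; exact ih.mul (hline c)
    | pred n ih => rw [sub_smul, one_smul, sub_eq_add_neg, gamSeries_add]; exact ih.mul (hneg _ (hline c))
  | hadd a b ha hb =>
    rw [map_add, Int.cast_add, add_sub_add_comm, gamSeries_add]
    exact ha.mul hb

theorem gamma_mem_OI_self (n : ℕ) {x : SR σ} (hx : x ∈ OI σ 1) : gamma n x ∈ OI σ n := by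
  have := gradedSer_gam x n
  rwa [mem_OI_one.mp hx, Int.cast_zero, sub_zero, coeff_gamSeries] at this

theorem gamma_mem_OI_max (n : ℕ) {d : ℕ} (hn : 1 ≤ n) (hd : 1 ≤ d) {x : SR σ} (hx : x ∈ OI σ d) :
    gamma n x ∈ OI σ (max n d) := by
  rcases le_total n d with h | h
  · rw [max_eq_right h]; exact gamma_mem_OI hn hx
  · rw [max_eq_left h]; exact gamma_mem_OI_self n (OI_anti hd hx)

theorem gamma_congr_OI {m : ℕ} (hm : 1 ≤ m) {x : SR σ} (hx : x ∈ OI σ m) :
    gamma m x - (-1 : SR σ) ^ (m - 1) * ((m - 1).factorial : SR σ) * x ∈ OI σ (m + 1) := by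
  haveI := isAddTorsionFree_quot (σ := σ) (m + 1)
  set q := Ideal.Quotient.mk (OI σ (m + 1)) with hq
  have hprod : ∀ i j, 1 ≤ i → 1 ≤ j → q (LambdaOps.lam i x) * q (LambdaOps.lam j x) = 0 := fun i j hi hj => by
    rw [← map_mul, hq, Ideal.Quotient.eq_zero_iff_mem]
    exact OI_anti (by omega) (OI_mul (lam_mem_OI hi hx) (lam_mem_OI hj hx))
  set f := PowerSeries.map q (lamSeries x) with hf
  have hL : logD f = PowerSeries.derivative _ f := by
    refine logD_eq_of_mul (constantCoeff_map_one q (constantCoeff_lamSeries x)) ?_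
    ext k
    rw [PowerSeries.coeff_mul, Finset.Nat.sum_antidiagonal_eq_sum_range_succ_mk, Finset.sum_range_succ]
    rw [Finset.sum_eq_zero, zero_add, Nat.sub_self, PowerSeries.coeff_zero_eq_constantCoeff_apply, hf,
      constantCoeff_map_one q (constantCoeff_lamSeries x), mul_one]
    intro j hj
    rw [PowerSeries.coeff_derivative, hf, PowerSeries.coeff_map, PowerSeries.coeff_map, coeff_lamSeries,
      coeff_lamSeries, mul_right_comm, hprod (j + 1) (k - j) (by omega) (by simp at hj; omega), zero_mul]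
  have hlam : ∀ k : ℕ, q (LambdaOps.lam (k + 1) x) * ((k : SR σ ⧸ OI σ (m + 1)) + 1)
      = (-1) ^ k * (((k + 1 : ℕ) : SR σ ⧸ OI σ (m + 1)) ^ m * q x) := by
    intro k
    have h1 : psOp f k = ((k + 1 : ℕ) : SR σ ⧸ OI σ (m + 1)) ^ m * q x := by
      rw [hf, map_psOp_adams, adamsOp_eq_psiS (Nat.le_add_left 1 k), ← map_natCast q, ← map_pow, ← map_mul, hq,
        Ideal.Quotient.eq]
      exact psiS_congr (k + 1) m hx
    rw [← h1, psOp, hL, PowerSeries.coeff_derivative, hf, PowerSeries.coeff_map, coeff_lamSeries, ← mul_assoc,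
      ← mul_pow]
    rw [show ((-1 : SR σ ⧸ OI σ (m + 1)) * -1) = 1 by ring, one_pow, one_mul]
  have key : (m : SR σ ⧸ OI σ (m + 1)) * q (gamma m x)
      = ∑ j ∈ range (m + 1), ((-1 : ℤ) ^ (j + 1) * (m.choose j : ℤ) * (j : ℤ) ^ m : ℤ) * q x := by
    rw [gamma, if_neg (by omega), map_sum, Finset.mul_sum]
    refine Finset.sum_congr rfl fun j hj => ?_
    rcases j with _ | j
    · simp [zero_pow (show m ≠ 0 by omega)]
    · rw [if_neg (Nat.succ_ne_zero j), map_mul, map_natCast, ← mul_assoc,
        show (m : SR σ ⧸ OI σ (m + 1)) * ((m - 1).choose (j + 1 - 1) : ℕ) = ((m.choose (j + 1) * (j + 1) : ℕ) : SR σ ⧸ OI σ (m + 1)) by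
          obtain ⟨m', rfl⟩ : ∃ m', m = m' + 1 := ⟨m - 1, by omega⟩
          rw [← Nat.add_one_mul_choose_eq]; push_cast; simp]
      push_cast
      have := hlam j
      push_cast at this
      linear_combination (((m.choose (j + 1) : ℕ) : SR σ ⧸ OI σ (m + 1))) * this
  have hsum : ∑ j ∈ range (m + 1), ((-1 : ℤ) ^ (j + 1) * (m.choose j : ℤ) * (j : ℤ) ^ m)
      = (-1 : ℤ) ^ (m - 1) * (m.factorial : ℤ) := by
    have hd := congrFun (fwdDiff_iter_eq_factorial (R := ℤ) (n := m)) 0
    rw [fwdDiff_iter_eq_sum_shift] at hd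
    rw [Pi.natCast_apply] at hd
    rw [← hd, Finset.mul_sum]
    refine Finset.sum_congr rfl fun j hj => ?_
    have hj' : j ≤ m := by simpa [Nat.lt_succ_iff] using hj
    simp only [smul_eq_mul, nsmul_eq_mul, mul_one, zero_add]
    rw [← mul_assoc, ← mul_assoc, ← pow_add]
    congr 2
    rw [neg_one_pow_eq_pow_mod_two (n := j + 1), neg_one_pow_eq_pow_mod_two (n := m - 1 + (m - j))]
    congr 1
    omega
  rw [← Ideal.Quotient.eq]
  apply nsmul_right_injective (M := SR σ ⧸ OI σ (m + 1)) (show m ≠ 0 by omega)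
  show m • q (gamma m x) = m • q _
  rw [nsmul_eq_mul, nsmul_eq_mul, key, ← Finset.sum_mul, ← Int.cast_sum, hsum, map_mul, map_mul, map_pow, map_neg,
    map_one, map_natCast]
  push_cast
  rw [← Nat.mul_factorial_pred (show m ≠ 0 by omega)]
  push_cast
  ring

theorem gamma_X (j : σ) (r : ℕ) :
    gamma r (MvPolynomial.X j : SR σ) = if r = 0 then 1 else if r = 1 then MvPolynomial.X j else 0 := by
  have e : (MvPolynomial.X j : SR σ) = lineU (Finsupp.single j 1) - 1 := by
    simp [lineU, shiftU, MvPolynomial.aeval_monomial]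
  rcases r with _ | _ | r
  · simp [gamma_zero]
  · simp [gamma_one]
  · rw [e, ← coeff_gamSeries, gamSeries_sub_one lam_one_split (lam_lineU _)]
    simp [PowerSeries.coeff_one, PowerSeries.coeff_X]

end Groth.Agent.Lam
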