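import Groth.Agent.Lam.Series
import Mathlib.RingTheory.MvPolynomial.Symmetric.FundamentalTheorem
import Mathlib.RingTheory.MvPolynomial.WeightedHomogeneous
import Mathlib.Algebra.MvPolynomial.Equiv
import Mathlib.Algebra.MvPolynomial.Rename

/-!
Symmetric polynomials in one and in two families of variables, weights.
-/

universe u v w

open MvPolynomial

namespace Groth.Agent.Lam

variable {R : Type u} [CommRing R] {S : Type v} [CommRing S]

theorem map_esymm' (φ : R →+* S) (s : Multiset R) (n : ℕ) :
    φ (s.esymm n) = (s.map φ).esymm n := by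
  rw [← coeff_splitSeries, ← coeff_splitSeries, ← map_splitSeries, PowerSeries.coeff_map]

/-- evaluation of a polynomial in the elementary symmetric functions of a family -/
noncomputable def esymmVals (s : Multiset R) {n : ℕ} (k : Fin n) : R := s.esymm ((k : ℕ) + 1)

/-- the family of elementary symmetric polynomials, as an algebra map -/
noncomputable def eHom (σ : Type w) [Fintype σ] (n : ℕ) :
    MvPolynomial (Fin n) R →ₐ[R] MvPolynomial σ R :=
  aeval fun k : Fin n => esymm σ R ((k : ℕ) + 1)

theorem eHom_injective {σ : Type w} [Fintype σ] {n : ℕ} (h : n ≤ Fintype.card σ) :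
    Function.Injective (eHom σ n : MvPolynomial (Fin n) R →ₐ[R] MvPolynomial σ R) := by
  intro p q hpq
  apply esymmAlgHom_injective R h
  apply Subtype.ext
  rw [esymmAlgHom_apply, esymmAlgHom_apply]
  exact hpq

theorem exists_eHom_eq {σ : Type w} [Fintype σ] {n : ℕ} (h : Fintype.card σ ≤ n)
    {p : MvPolynomial σ R} (hp : p.IsSymmetric) : ∃ q : MvPolynomial (Fin n) R, eHom σ n q = p := by
  obtain ⟨q, hq⟩ := esymmAlgHom_surjective R h ⟨p, hp⟩
  exact ⟨q, by rw [eHom, ← esymmAlgHom_apply, hq]⟩

theorem eHom_isSymmetric {σ : Type w} [Fintype σ] {n : ℕ} (q : MvPolynomial (Fin n) R) :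
    (eHom σ n q).IsSymmetric := by
  rw [eHom, ← esymmAlgHom_apply]
  exact (esymmAlgHom σ R n q).2

/-- two families of elementary symmetric polynomials -/
noncomputable def eHom₂ (n m : ℕ) :
    MvPolynomial (Fin n ⊕ Fin m) ℤ →ₐ[ℤ] MvPolynomial (Fin n ⊕ Fin m) ℤ :=
  aeval (Sum.elim (fun k : Fin n => rename Sum.inl (esymm (Fin n) ℤ ((k : ℕ) + 1)))
      (fun k : Fin m => rename Sum.inr (esymm (Fin m) ℤ ((k : ℕ) + 1))))

theorem sumAlgEquiv_rename_inl {α β : Type*} (p : MvPolynomial α ℤ) :
    sumAlgEquiv ℤ α β (rename Sum.inl p) = map (algebraMap ℤ (MvPolynomial β ℤ)) p := by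
  induction p using MvPolynomial.induction_on with
  | C r => simp
  | add p q hp hq => simp [hp, hq]
  | mul_X p i hp => simp [hp]

theorem sumAlgEquiv_rename_inr {α β : Type*} (p : MvPolynomial β ℤ) :
    sumAlgEquiv ℤ α β (rename Sum.inr p) = C p := by
  induction p using MvPolynomial.induction_on with
  | C r => simp
  | add p q hp hq => simp [hp, hq]
  | mul_X p i hp => simp [hp]

theorem sumAlgEquiv_eHom₂ (n m : ℕ) (p : MvPolynomial (Fin n ⊕ Fin m) ℤ) :
    sumAlgEquiv ℤ (Fin n) (Fin m) (eHom₂ n m p) =
      eHom (Fin n) n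
        (map (eHom (Fin m) m : MvPolynomial (Fin m) ℤ →ₐ[ℤ] MvPolynomial (Fin m) ℤ).toRingHom
          (sumAlgEquiv ℤ (Fin n) (Fin m) p)) := by
  induction p using MvPolynomial.induction_on with
  | C r => simp [eHom₂, eHom]
  | add p q hp hq => simp only [map_add, hp, hq]
  | mul_X p i hp =>
    simp only [map_mul, hp]
    congr 1
    rcases i with k | k
    · simp [eHom₂, eHom, sumAlgEquiv_rename_inl, map_esymm]
    · simp [eHom₂, eHom, sumAlgEquiv_rename_inr]

theorem eHom₂_injective (n m : ℕ) : Function.Injective (eHom₂ n m) := by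
  intro p q h
  apply (sumAlgEquiv ℤ (Fin n) (Fin m)).injective
  apply map_injective (eHom (Fin m) m : MvPolynomial (Fin m) ℤ →ₐ[ℤ] MvPolynomial (Fin m) ℤ).toRingHom
    (eHom_injective (by simp))
  apply eHom_injective (σ := Fin n) (by simp)
  rw [← sumAlgEquiv_eHom₂, ← sumAlgEquiv_eHom₂, h]

theorem sumAlgEquiv_rename_left {α β : Type*} (e : α → α) (p : MvPolynomial (α ⊕ β) ℤ) :
    sumAlgEquiv ℤ α β (rename (Sum.map e id) p) = rename e (sumAlgEquiv ℤ α β p) := by
  induction p using MvPolynomial.induction_on with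
  | C r => simp
  | add p q hp hq => simp [hp, hq]
  | mul_X p i hp => rcases i with k | k <;> simp [hp]

theorem sumAlgEquiv_rename_right {α β : Type*} (e : β → β) (p : MvPolynomial (α ⊕ β) ℤ) :
    sumAlgEquiv ℤ α β (rename (Sum.map id e) p) =
      map (rename e : MvPolynomial β ℤ →ₐ[ℤ] MvPolynomial β ℤ).toRingHom (sumAlgEquiv ℤ α β p) := by
  induction p using MvPolynomial.induction_on with
  | C r => simp
  | add p q hp hq => simp [hp, hq]
  | mul_X p i hp => rcases i with k | k <;> simp [hp]

theorem map_eHom {n : ℕ} {σ : Type w} [Fintype σ] (φ : R →+* S) (q : MvPolynomial (Fin n) R) :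
    map φ (eHom σ n q) = eHom σ n (map φ q) := by
  induction q using MvPolynomial.induction_on with
  | C r => simp [eHom]
  | add p q hp hq => simp [hp, hq]
  | mul_X p i hp =>
    simp only [map_mul, hp]
    simp [eHom, map_esymm]

theorem exists_eHom₂_eq {n m : ℕ} {p : MvPolynomial (Fin n ⊕ Fin m) ℤ}
    (hl : ∀ e : Equiv.Perm (Fin n), rename (Sum.map e id) p = p)
    (hr : ∀ e : Equiv.Perm (Fin m), rename (Sum.map id e) p = p) :
    ∃ q, eHom₂ n m q = p := by
  classical
  have hs : (sumAlgEquiv ℤ (Fin n) (Fin m) p).IsSymmetric := fun e => by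
    rw [← sumAlgEquiv_rename_left, hl e]
  obtain ⟨r, hr1⟩ := exists_eHom_eq (σ := Fin n) (n := n) (by simp) hs
  have hcoef : ∀ c, (coeff c r).IsSymmetric := fun c e => by
    have h1 : map (rename e : MvPolynomial (Fin m) ℤ →ₐ[ℤ] MvPolynomial (Fin m) ℤ).toRingHom r = r := by
      apply eHom_injective (σ := Fin n) (by simp)
      rw [← map_eHom, hr1, ← sumAlgEquiv_rename_right, hr e]
    conv_rhs => rw [← h1]
    rw [coeff_map]
    rfl
  have hmem : r ∈ Set.range
      (map (eHom (Fin m) m : MvPolynomial (Fin m) ℤ →ₐ[ℤ] MvPolynomial (Fin m) ℤ).toRingHom :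
        MvPolynomial (Fin n) (MvPolynomial (Fin m) ℤ) → _) := by
    rw [mem_range_map_iff_coeffs_subset]
    intro c hc
    obtain ⟨d, hd, rfl⟩ := mem_coeffs_iff.mp (Finset.mem_coe.mp hc)
    exact exists_eHom_eq (σ := Fin m) (n := m) (by simp) (hcoef d)
  obtain ⟨t, ht⟩ := hmem
  refine ⟨(sumAlgEquiv ℤ (Fin n) (Fin m)).symm t, ?_⟩
  apply (sumAlgEquiv ℤ (Fin n) (Fin m)).injective
  rw [sumAlgEquiv_eHom₂, AlgEquiv.apply_symm_apply, ht, hr1]

/-! ### weights -/

variable {σ : Type*} {τ : Type*} {M : Type*} [AddCommMonoid M]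

theorem isWeightedHomogeneous_aeval_monomial {g : τ → MvPolynomial σ R} {w : τ → M} {v : σ → M}
    (hg : ∀ t, IsWeightedHomogeneous v (g t) (w t)) (d : τ →₀ ℕ) (r : R) :
    IsWeightedHomogeneous v (aeval g (monomial d r)) (Finsupp.weight w d) := by
  rw [aeval_monomial, Finsupp.weight_apply]
  have h2 := IsWeightedHomogeneous.prod (w := v) d.support (fun t => g t ^ d t) (fun t => d t • w t)
    (fun t _ => (hg t).pow _)
  have h3 := (isWeightedHomogeneous_C v r).mul h2
  rw [zero_add] at h3
  exact h3

theorem weightedHomogeneousComponent_aeval {g : τ → MvPolynomial σ R} {w : τ → M} {v : σ → M}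
    (hg : ∀ t, IsWeightedHomogeneous v (g t) (w t)) (d : M) (q : MvPolynomial τ R) :
    weightedHomogeneousComponent v d (aeval g q) = aeval g (weightedHomogeneousComponent w d q) := by
  classical
  induction q using MvPolynomial.induction_on' with
  | monomial c r =>
    by_cases h : Finsupp.weight w c = d
    · subst h
      rw [(isWeightedHomogeneous_aeval_monomial hg c r).weightedHomogeneousComponent_same,
        (isWeightedHomogeneous_monomial w c r rfl).weightedHomogeneousComponent_same]
    · rw [(isWeightedHomogeneous_aeval_monomial hg c r).weightedHomogeneousComponent_ne d (Ne.symm h),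
        (isWeightedHomogeneous_monomial w c r rfl).weightedHomogeneousComponent_ne d (Ne.symm h), map_zero]
  | add p q hp hq => simp only [map_add, hp, hq]

theorem exists_weighted_preimage {g : τ → MvPolynomial σ R} {w : τ → M} {v : σ → M}
    (hg : ∀ t, IsWeightedHomogeneous v (g t) (w t)) {d : M} {p : MvPolynomial σ R}
    (hp : IsWeightedHomogeneous v p d) (h : ∃ q : MvPolynomial τ R, aeval g q = p) :
    ∃ q : MvPolynomial τ R, IsWeightedHomogeneous w q d ∧ aeval g q = p := by
  obtain ⟨q, rfl⟩ := h
  refine ⟨weightedHomogeneousComponent w d q, weightedHomogeneousComponent_isWeightedHomogeneous _ _, ?_⟩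
  rw [← weightedHomogeneousComponent_aeval hg, hp.weightedHomogeneousComponent_same]

theorem isWeightedHomogeneous_multiset_esymm {v : σ → M} {d : M} (s : Multiset (MvPolynomial σ R))
    (hs : ∀ a ∈ s, IsWeightedHomogeneous v a d) (k : ℕ) :
    IsWeightedHomogeneous v (s.esymm k) (k • d) := by
  induction s using Multiset.induction_on generalizing k with
  | empty =>
    rw [esymm_zero_left]
    split
    · next h => subst h; simpa using isWeightedHomogeneous_one R v
    · exact isWeightedHomogeneous_zero R v _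
  | cons a s ih =>
    cases k with
    | zero => simpa [esymm_zero_right] using isWeightedHomogeneous_one R v
    | succ k =>
      rw [esymm_cons_succ]
      refine (ih (fun b hb => hs b (Multiset.mem_cons_of_mem hb)) _).add ?_
      have := (hs a (Multiset.mem_cons_self _ _)).mul
        (ih (fun b hb => hs b (Multiset.mem_cons_of_mem hb)) k)
      rwa [add_comm d, ← succ_nsmul] at this

theorem rename_preimage_weighted {f : τ → σ} (hf : Function.Injective f) {v : σ → M} {d : M}
    {p : MvPolynomial τ R} (hp : IsWeightedHomogeneous v (rename f p) d) :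
    IsWeightedHomogeneous (v ∘ f) p d := by
  intro c hc
  have h : coeff (Finsupp.mapDomain f c) (rename f p) ≠ 0 := by
    rwa [coeff_rename_mapDomain f hf]
  have := hp h
  rw [Finsupp.weight_apply, Finsupp.sum_mapDomain_index (by simp) (by simp [add_smul])] at this
  rw [Finsupp.weight_apply]
  exact this

end Groth.Agent.Lam
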