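import Groth.Agent.Lam.Sym
import Groth.Prelude.Def_LambdaSp

/-!
The universal polynomials P_n and Q_{i,j}: existence, uniqueness, the identities for any two families.
-/

universe u v

open MvPolynomial

namespace Groth.Agent.Lam

variable {R : Type u} [CommRing R] {S : Type v} [CommRing S]

theorem map_aeval_int {τ : Type*} {A B : Type*} [CommRing A] [Algebra ℤ A] [CommRing B] [Algebra ℤ B]
    (φ : A →+* B) (f : τ → A) (p : MvPolynomial τ ℤ) :
    φ (aeval f p) = aeval (fun i => φ (f i)) p := by
  induction p using MvPolynomial.induction_on with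
  | C r => simp
  | add p q hp hq => simp [hp, hq]
  | mul_X p i hp => simp [hp]

theorem exists_family {N : ℕ} {s : Multiset R} (h : Multiset.card s = N) :
    ∃ g : Fin N → R, Finset.univ.val.map g = s := by
  refine Quot.inductionOn s (fun l hl => ?_) h
  have hl' : l.length = N := by simpa using hl
  subst hl'
  refine ⟨fun i => l.get i, ?_⟩
  simp

/-- all products `a b` -/
noncomputable def mulProd (s t : Multiset R) : Multiset R := (s ×ˢ t).map fun p => p.1 * p.2

/-- all products over `i`-element sub-multisets -/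
noncomputable def subProd (s : Multiset R) (i : ℕ) : Multiset R :=
  (s.powersetCard i).map Multiset.prod

theorem map_mulProd (φ : R →+* S) (s t : Multiset R) :
    (mulProd s t).map φ = mulProd (s.map φ) (t.map φ) := by
  induction s using Multiset.induction_on with
  | empty => simp [mulProd]
  | cons a s ih =>
    simp only [mulProd, Multiset.cons_product, Multiset.map_add, Multiset.map_cons,
      Multiset.map_map, Function.comp_def, map_mul] at ih ⊢
    rw [ih]

theorem map_subProd (φ : R →+* S) (s : Multiset R) (i : ℕ) :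
    (subProd s i).map φ = subProd (s.map φ) i := by
  simp only [subProd, Multiset.powersetCard_map, Multiset.map_map]
  congr 1
  funext t
  exact map_multiset_prod φ t

theorem sum_mulProd (s t : Multiset R) (k : ℕ) :
    ((mulProd s t).map fun a => a ^ k).sum
      = (s.map fun a => a ^ k).sum * (t.map fun a => a ^ k).sum := by
  induction s using Multiset.induction_on with
  | empty => simp [mulProd]
  | cons a s ih =>
    simp only [mulProd, Multiset.cons_product, Multiset.map_add, Multiset.map_map,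
      Multiset.sum_add, Function.comp_def, mul_pow] at ih ⊢
    simp only [ih, Multiset.map_cons, Multiset.sum_cons, add_mul, Multiset.sum_map_mul_left]

theorem subProd_pow (s : Multiset R) (i k : ℕ) :
    (subProd s i).map (fun a => a ^ k) = subProd (s.map fun a => a ^ k) i := by
  simp only [subProd, Multiset.powersetCard_map, Multiset.map_map]
  congr 1
  funext t
  exact map_multiset_prod (powMonoidHom k : R →* R) t

theorem mulProd_zeros_left (s t : Multiset R) (m : ℕ) :
    mulProd (s + Multiset.replicate m 0) t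
      = mulProd s t + Multiset.replicate (m * Multiset.card t) 0 := by
  simp only [mulProd, Multiset.add_product, Multiset.map_add]
  congr 1
  rw [Multiset.eq_replicate]
  refine ⟨by simp, fun b hb => ?_⟩
  obtain ⟨⟨x, y⟩, hxy, rfl⟩ := Multiset.mem_map.mp hb
  have h := Multiset.mem_product.mp hxy
  simp only [Multiset.mem_replicate] at h
  first | simp [h.1.2] | simp [h.2.2]

theorem mulProd_zeros_right (s t : Multiset R) (m : ℕ) :
    mulProd s (t + Multiset.replicate m 0)
      = mulProd s t + Multiset.replicate (Multiset.card s * m) 0 := by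
  simp only [mulProd, Multiset.product_add, Multiset.map_add]
  congr 1
  rw [Multiset.eq_replicate]
  refine ⟨by simp, fun b hb => ?_⟩
  obtain ⟨⟨x, y⟩, hxy, rfl⟩ := Multiset.mem_map.mp hb
  have h := Multiset.mem_product.mp hxy
  simp only [Multiset.mem_replicate] at h
  first | simp [h.1.2] | simp [h.2.2]

theorem esymm_mulProd_zeros (s t : Multiset R) (m m' n : ℕ) :
    (mulProd (s + Multiset.replicate m 0) (t + Multiset.replicate m' 0)).esymm n
      = (mulProd s t).esymm n := by
  rw [mulProd_zeros_left, esymm_add_zeros, mulProd_zeros_right, esymm_add_zeros]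

theorem subProd_zero_cons (s : Multiset R) (i : ℕ) :
    ∃ m, subProd (0 ::ₘ s) i = subProd s i + Multiset.replicate m 0 := by
  cases i with
  | zero => exact ⟨0, by simp [subProd]⟩
  | succ i =>
    refine ⟨Multiset.card (s.powersetCard i), ?_⟩
    simp [subProd, Multiset.powersetCard_cons, Multiset.map_map, Function.comp_def,
      Multiset.map_const']

theorem esymm_subProd_zeros (s : Multiset R) (m i n : ℕ) :
    (subProd (s + Multiset.replicate m 0) i).esymm n = (subProd s i).esymm n := by
  induction m with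
  | zero => simp
  | succ m ih =>
    rw [Multiset.replicate_succ, Multiset.add_cons]
    obtain ⟨k, hk⟩ := subProd_zero_cons (s + Multiset.replicate m 0) i
    rw [hk, esymm_add_zeros, ih]

theorem mulGen_eq (N k : ℕ) :
    LambdaRing.mulGen N k = (mulProd
      (Finset.univ.val.map fun a : Fin N => (X (Sum.inl a) : MvPolynomial (Fin N ⊕ Fin N) ℤ))
      (Finset.univ.val.map fun a : Fin N => X (Sum.inr a))).esymm k := by
  unfold LambdaRing.mulGen
  congr 1
  rw [← Finset.univ_product_univ, Finset.product_val]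
  generalize (Finset.univ : Finset (Fin N)).val = u
  suffices H : ∀ w : Multiset (Fin N), (w ×ˢ u).map (fun ab => (X (Sum.inl ab.1) * X (Sum.inr ab.2) :
      MvPolynomial (Fin N ⊕ Fin N) ℤ)) = mulProd (w.map fun a => X (Sum.inl a))
        (u.map fun a => X (Sum.inr a)) from H u
  intro w
  induction w using Multiset.induction_on with
  | empty => simp [mulProd]
  | cons a w ih =>
    simp only [mulProd, Multiset.map_cons, Multiset.cons_product, Multiset.map_add,
      Multiset.map_map] at ih ⊢
    rw [ih]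
    simp [Function.comp_def]

theorem compGen_eq (N i j : ℕ) :
    LambdaRing.compGen N i j = (subProd
      (Finset.univ.val.map fun a : Fin N => (X a : MvPolynomial (Fin N) ℤ)) i).esymm j := by
  unfold LambdaRing.compGen
  congr 1
  rw [subProd, Multiset.powersetCard_map, ← Finset.map_val_val_powersetCard]
  rw [Multiset.map_map, Multiset.map_map]
  rfl

theorem aeval_esymm_fin {N : ℕ} (g : Fin N → R) (k : ℕ) :
    aeval g (esymm (Fin N) ℤ k) = (Finset.univ.val.map g).esymm k :=
  aeval_esymm_eq_multiset_esymm (Fin N) ℤ k g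

theorem map_univ_perm {N : ℕ} (e : Equiv.Perm (Fin N)) (g : Fin N → R) :
    Finset.univ.val.map (fun a => g (e a)) = Finset.univ.val.map g := by
  conv_rhs => rw [← Multiset.map_univ_val_equiv e, Multiset.map_map]
  rfl

theorem mulGen_rename_left (N k : ℕ) (e : Equiv.Perm (Fin N)) :
    rename (Sum.map e id) (LambdaRing.mulGen N k) = LambdaRing.mulGen N k := by
  rw [mulGen_eq]
  change (rename (Sum.map e id) : MvPolynomial (Fin N ⊕ Fin N) ℤ →ₐ[ℤ] _).toRingHom _ = _
  rw [map_esymm', map_mulProd]
  simp only [Multiset.map_map, AlgHom.toRingHom_eq_coe, RingHom.coe_coe, Function.comp_def,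
    rename_X, Sum.map_inl, Sum.map_inr, id_eq]
  rw [map_univ_perm e (fun a => (X (Sum.inl a) : MvPolynomial (Fin N ⊕ Fin N) ℤ))]

theorem mulGen_rename_right (N k : ℕ) (e : Equiv.Perm (Fin N)) :
    rename (Sum.map id e) (LambdaRing.mulGen N k) = LambdaRing.mulGen N k := by
  rw [mulGen_eq]
  change (rename (Sum.map id e) : MvPolynomial (Fin N ⊕ Fin N) ℤ →ₐ[ℤ] _).toRingHom _ = _
  rw [map_esymm', map_mulProd]
  simp only [Multiset.map_map, AlgHom.toRingHom_eq_coe, RingHom.coe_coe, Function.comp_def,
    rename_X, Sum.map_inl, Sum.map_inr, id_eq]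
  rw [map_univ_perm e (fun a => (X (Sum.inr a) : MvPolynomial (Fin N ⊕ Fin N) ℤ))]

theorem compGen_isSymmetric (N i j : ℕ) : (LambdaRing.compGen N i j).IsSymmetric := by
  intro e
  rw [compGen_eq]
  change (rename e : MvPolynomial (Fin N) ℤ →ₐ[ℤ] _).toRingHom _ = _
  rw [map_esymm', map_subProd]
  simp only [Multiset.map_map, AlgHom.toRingHom_eq_coe, RingHom.coe_coe, Function.comp_def, rename_X]
  rw [map_univ_perm e (fun a => (X a : MvPolynomial (Fin N) ℤ))]

/-- weights of the variables -/
def wVar₂ (n m : ℕ) : Fin n ⊕ Fin m → ℕ × ℕ :=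
  Sum.elim (fun k => (((k : ℕ) + 1, 0))) (fun k => ((0, (k : ℕ) + 1)))

/-- bidegree -/
def bideg (n m : ℕ) : Fin n ⊕ Fin m → ℕ × ℕ := Sum.elim (fun _ => (1, 0)) (fun _ => (0, 1))

theorem esymm_weighted {σ τ : Type*} [Fintype σ] {M : Type*} [AddCommMonoid M] (v : τ → M) (d : M)
    (f : σ → τ) (hf : ∀ a, v (f a) = d) (k : ℕ) :
    IsWeightedHomogeneous v (rename f (esymm σ ℤ k) : MvPolynomial τ ℤ) (k • d) := by
  rw [rename_eq_aeval]
  rw [aeval_esymm_eq_multiset_esymm]
  refine isWeightedHomogeneous_multiset_esymm _ ?_ k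
  intro a ha
  obtain ⟨b, -, rfl⟩ := Multiset.mem_map.mp ha
  simpa [hf b] using isWeightedHomogeneous_X ℤ v (f b)

theorem eHom₂_gen_weighted (n m : ℕ) (t : Fin n ⊕ Fin m) :
    IsWeightedHomogeneous (bideg n m)
      (Sum.elim (fun k : Fin n => rename Sum.inl (esymm (Fin n) ℤ ((k : ℕ) + 1)))
        (fun k : Fin m => rename Sum.inr (esymm (Fin m) ℤ ((k : ℕ) + 1))) t) (wVar₂ n m t) := by
  rcases t with k | k
  · have := esymm_weighted (bideg n m) (1, 0) Sum.inl (fun a : Fin n => rfl) ((k : ℕ) + 1)
    simpa [wVar₂] using this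
  · have := esymm_weighted (bideg n m) (0, 1) Sum.inr (fun a : Fin m => rfl) ((k : ℕ) + 1)
    simpa [wVar₂] using this

theorem mulGen_weighted (N k : ℕ) :
    IsWeightedHomogeneous (bideg N N) (LambdaRing.mulGen N k) ((k, k) : ℕ × ℕ) := by
  have := isWeightedHomogeneous_multiset_esymm (v := bideg N N) (d := ((1, 1) : ℕ × ℕ))
    ((Finset.univ : Finset (Fin N × Fin N)).val.map
      fun ab => (X (Sum.inl ab.1) * X (Sum.inr ab.2) : MvPolynomial (Fin N ⊕ Fin N) ℤ)) ?_ k
  · simpa [LambdaRing.mulGen] using this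
  · intro a ha
    obtain ⟨b, -, rfl⟩ := Multiset.mem_map.mp ha
    simpa [bideg] using (isWeightedHomogeneous_X ℤ (bideg N N) (Sum.inl b.1)).mul
      (isWeightedHomogeneous_X ℤ (bideg N N) (Sum.inr b.2))

theorem compGen_weighted (N i j : ℕ) :
    IsWeightedHomogeneous (fun _ : Fin N => 1) (LambdaRing.compGen N i j) (i * j) := by
  have := isWeightedHomogeneous_multiset_esymm (v := fun _ : Fin N => 1) (d := i)
    (((Finset.univ : Finset (Fin N)).powersetCard i).val.map
      fun s => (∏ a ∈ s, X a : MvPolynomial (Fin N) ℤ)) ?_ j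
  · simpa [LambdaRing.compGen, mul_comm] using this
  · intro a ha
    obtain ⟨b, hb, rfl⟩ := Multiset.mem_map.mp ha
    have hb' : b.card = i := (Finset.mem_powersetCard.mp (Finset.mem_val.mp hb)).2
    have := IsWeightedHomogeneous.prod (w := fun _ : Fin N => 1) b (fun a => (X a : MvPolynomial (Fin N) ℤ))
      (fun _ => 1) (fun a _ => isWeightedHomogeneous_X ℤ _ a)
    simpa [hb'] using this

theorem le_weight_of_mem_support {τ : Type*} (w : τ → ℕ) {c : τ →₀ ℕ} {t : τ} (h : t ∈ c.support) :
    w t ≤ Finsupp.weight w c := by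
  rw [Finsupp.weight_apply, Finsupp.sum]
  refine le_trans ?_ (Finset.single_le_sum (f := fun a => c a • w a) (fun _ _ => Nat.zero_le _) h)
  exact Nat.le_mul_of_pos_left _ (Nat.pos_of_ne_zero (Finsupp.mem_support_iff.mp h))

theorem vars_lt_of_weighted₂ {N n : ℕ} {Q : MvPolynomial (Fin N ⊕ Fin N) ℤ}
    (hQ : IsWeightedHomogeneous (wVar₂ N N) Q ((n, n) : ℕ × ℕ)) :
    ∀ t ∈ Q.vars, Sum.elim (fun k : Fin N => (k : ℕ) < n) (fun k : Fin N => (k : ℕ) < n) t := by
  intro t ht
  obtain ⟨c, hc, htc⟩ := (mem_vars t).mp ht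
  have hw := hQ (mem_support_iff.mp hc)
  have h1 : Finsupp.weight (fun t => (wVar₂ N N t).1) c = n := by
    have := congrArg Prod.fst hw
    rw [Finsupp.weight_apply, Finsupp.sum] at this ⊢
    simpa [Prod.fst_sum] using this
  have h2 : Finsupp.weight (fun t => (wVar₂ N N t).2) c = n := by
    have := congrArg Prod.snd hw
    rw [Finsupp.weight_apply, Finsupp.sum] at this ⊢
    simpa [Prod.snd_sum] using this
  rcases t with k | k
  · have := le_weight_of_mem_support (fun t => (wVar₂ N N t).1) htc
    rw [h1] at this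
    simp only [wVar₂, Sum.elim_inl] at this ⊢
    omega
  · have := le_weight_of_mem_support (fun t => (wVar₂ N N t).2) htc
    rw [h2] at this
    simp only [wVar₂, Sum.elim_inr] at this ⊢
    omega

/-- the values of the elementary symmetric functions of two families -/
noncomputable def vals₂ (s t : Multiset R) (n : ℕ) : Fin n ⊕ Fin n → R :=
  Sum.elim (fun k : Fin n => s.esymm ((k : ℕ) + 1)) (fun k : Fin n => t.esymm ((k : ℕ) + 1))

theorem exists_mulPoly_large (n N : ℕ) (hN : n ≤ N) :
    ∃ P : MvPolynomial (Fin n ⊕ Fin n) ℤ, IsWeightedHomogeneous (wVar₂ n n) P ((n, n) : ℕ × ℕ) ∧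
      ∀ (R : Type) [CommRing R] (s t : Multiset R), Multiset.card s ≤ N → Multiset.card t ≤ N →
        (mulProd s t).esymm n = aeval (vals₂ s t n) P := by
  obtain ⟨Q, hQw, hQ⟩ := exists_weighted_preimage (eHom₂_gen_weighted N N) (mulGen_weighted N n)
    (exists_eHom₂_eq (mulGen_rename_left N n) (mulGen_rename_right N n))
  let f : Fin n ⊕ Fin n → Fin N ⊕ Fin N := Sum.map (Fin.castLE hN) (Fin.castLE hN)
  have hf : Function.Injective f := (Fin.castLE_injective hN).sumMap (Fin.castLE_injective hN)
  obtain ⟨P, rfl⟩ := exists_rename_eq_of_vars_subset_range Q f hf (by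
    intro t ht
    have := vars_lt_of_weighted₂ hQw t ht
    rcases t with k | k
    · exact ⟨Sum.inl ⟨k, this⟩, rfl⟩
    · exact ⟨Sum.inr ⟨k, this⟩, rfl⟩)
  refine ⟨P, ?_, fun R _ s t hs ht => ?_⟩
  · have := rename_preimage_weighted hf hQw
    have heq : wVar₂ N N ∘ f = wVar₂ n n := by
      funext t
      rcases t with k | k <;> rfl
    rw [heq] at this
    exact this
  · obtain ⟨g, hg⟩ := exists_family (s := s + Multiset.replicate (N - Multiset.card s) 0)
      (N := N) (by simp; omega)
    obtain ⟨g', hg'⟩ := exists_family (s := t + Multiset.replicate (N - Multiset.card t) 0)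
      (N := N) (by simp; omega)
    have h1 := congrArg (aeval (Sum.elim g g')) hQ
    have h2 : aeval (Sum.elim g g') (LambdaRing.mulGen N n) = (mulProd s t).esymm n := by
      rw [mulGen_eq]
      change (aeval (Sum.elim g g')).toRingHom _ = _
      rw [map_esymm', map_mulProd]
      simp only [Multiset.map_map, AlgHom.toRingHom_eq_coe, RingHom.coe_coe, Function.comp_def,
        aeval_X, Sum.elim_inl, Sum.elim_inr, hg, hg', esymm_mulProd_zeros]
    rw [h2, aeval_rename] at h1
    rw [← h1, comp_aeval_apply]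
    congr 2
    funext k
    rcases k with k | k
    · simp [f, vals₂, aeval_rename, Function.comp_def, aeval_esymm_fin, hg, esymm_add_zeros]
    · simp [f, vals₂, aeval_rename, Function.comp_def, aeval_esymm_fin, hg', esymm_add_zeros]

theorem isMulPoly_of_identity {n : ℕ} {P : MvPolynomial (Fin n ⊕ Fin n) ℤ}
    (hw : IsWeightedHomogeneous (wVar₂ n n) P ((n, n) : ℕ × ℕ))
    (h : ∀ (R : Type) [CommRing R] (s t : Multiset R), Multiset.card s ≤ n → Multiset.card t ≤ n →
        (mulProd s t).esymm n = aeval (vals₂ s t n) P) : LambdaRing.IsMulPoly n P := by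
  refine ⟨?_, hw⟩
  rw [mulGen_eq, h _ _ _ (by simp) (by simp)]
  congr 2
  funext k
  rcases k with k | k <;>
  · simp only [vals₂, Sum.elim_inl, Sum.elim_inr]
    rw [rename_eq_aeval, aeval_esymm_eq_multiset_esymm]
    rfl

theorem exists_isMulPoly' (n : ℕ) :
    ∃ P : MvPolynomial (Fin n ⊕ Fin n) ℤ, LambdaRing.IsMulPoly n P := by
  obtain ⟨P, hw, hP⟩ := exists_mulPoly_large n n le_rfl
  exact ⟨P, isMulPoly_of_identity hw hP⟩

theorem isMulPoly_unique {n : ℕ} {P Q : MvPolynomial (Fin n ⊕ Fin n) ℤ}
    (hP : LambdaRing.IsMulPoly n P) (hQ : LambdaRing.IsMulPoly n Q) : P = Q :=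
  eHom₂_injective n n (hP.1.trans hQ.1.symm)

theorem mulPoly_identity {n : ℕ} {P : MvPolynomial (Fin n ⊕ Fin n) ℤ}
    (hP : LambdaRing.IsMulPoly n P) (s t : Multiset R) :
    (mulProd s t).esymm n = aeval (vals₂ s t n) P := by
  obtain ⟨g, hg⟩ := exists_family (s := s) rfl
  obtain ⟨g', hg'⟩ := exists_family (s := t) rfl
  set N := max n (max (Multiset.card s) (Multiset.card t)) with hNdef
  obtain ⟨P', hw', hP'⟩ := exists_mulPoly_large n N (le_max_left _ _)
  have hP'' : LambdaRing.IsMulPoly n P' := isMulPoly_of_identity hw' fun R _ s t hs ht =>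
    hP' R s t (hs.trans (le_max_left _ _)) (ht.trans (le_max_left _ _))
  rw [isMulPoly_unique hP hP'']
  -- the universal case
  have key := hP' (MvPolynomial (Fin (Multiset.card s) ⊕ Fin (Multiset.card t)) ℤ)
    (Finset.univ.val.map fun a => X (Sum.inl a)) (Finset.univ.val.map fun a => X (Sum.inr a))
    (by simp [hNdef]) (by simp [hNdef])
  have key2 := congrArg (aeval (Sum.elim g g')).toRingHom key
  rw [map_esymm', map_mulProd] at key2
  simp only [Multiset.map_map, AlgHom.toRingHom_eq_coe, RingHom.coe_coe, Function.comp_def,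
    aeval_X, Sum.elim_inl, Sum.elim_inr, hg, hg'] at key2
  rw [key2]
  refine (map_aeval_int (aeval (Sum.elim g g') : MvPolynomial (Fin (Multiset.card s) ⊕ Fin (Multiset.card t)) ℤ →ₐ[ℤ] R).toRingHom _ _).trans ?_
  congr 2
  funext k
  rcases k with k | k
  · simp only [vals₂, Sum.elim_inl]
    change (aeval (Sum.elim g g')).toRingHom _ = _
    rw [map_esymm', Multiset.map_map]
    simp only [AlgHom.toRingHom_eq_coe, RingHom.coe_coe, Function.comp_def, aeval_X, Sum.elim_inl, hg]
  · simp only [vals₂, Sum.elim_inr]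
    change (aeval (Sum.elim g g')).toRingHom _ = _
    rw [map_esymm', Multiset.map_map]
    simp only [AlgHom.toRingHom_eq_coe, RingHom.coe_coe, Function.comp_def, aeval_X, Sum.elim_inr, hg']

theorem vars_lt_of_weighted {N n : ℕ} {Q : MvPolynomial (Fin N) ℤ}
    (hQ : IsWeightedHomogeneous (fun k : Fin N => (k : ℕ) + 1) Q n) :
    ∀ t ∈ Q.vars, (t : ℕ) < n := by
  intro t ht
  obtain ⟨c, hc, htc⟩ := (mem_vars t).mp ht
  have := le_weight_of_mem_support (fun k : Fin N => (k : ℕ) + 1) htc
  rw [hQ (mem_support_iff.mp hc)] at this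
  omega

theorem exists_compPoly_large (i j N : ℕ) (hN : i * j ≤ N) :
    ∃ Q : MvPolynomial (Fin (i * j)) ℤ,
      IsWeightedHomogeneous (fun k : Fin (i * j) => (k : ℕ) + 1) Q (i * j) ∧
      ∀ (R : Type) [CommRing R] (s : Multiset R), Multiset.card s ≤ N →
        (subProd s i).esymm j = aeval (fun k : Fin (i * j) => s.esymm ((k : ℕ) + 1)) Q := by
  have hg : ∀ t : Fin N, IsWeightedHomogeneous (fun _ : Fin N => 1)
      (esymm (Fin N) ℤ ((t : ℕ) + 1)) ((t : ℕ) + 1) := fun t => by
    have := esymm_weighted (fun _ : Fin N => (1 : ℕ)) 1 (id : Fin N → Fin N) (fun _ => rfl) ((t : ℕ) + 1)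
    simpa using this
  obtain ⟨q, hqw, hq⟩ := exists_weighted_preimage (w := fun t : Fin N => (t : ℕ) + 1) hg
    (compGen_weighted N i j)
    (exists_eHom_eq (σ := Fin N) (n := N) (by simp) (compGen_isSymmetric N i j))
  have hf : Function.Injective (Fin.castLE hN) := Fin.castLE_injective hN
  obtain ⟨P, rfl⟩ := exists_rename_eq_of_vars_subset_range q (Fin.castLE hN) hf (by
    intro t ht
    exact ⟨⟨t, vars_lt_of_weighted hqw t ht⟩, rfl⟩)
  refine ⟨P, rename_preimage_weighted hf hqw, fun R _ s hs => ?_⟩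
  obtain ⟨g, hg'⟩ := exists_family (s := s + Multiset.replicate (N - Multiset.card s) 0)
    (N := N) (by simp; omega)
  have h1 := congrArg (aeval g) hq
  have h2 : aeval g (LambdaRing.compGen N i j) = (subProd s i).esymm j := by
    rw [compGen_eq]
    change (aeval g).toRingHom _ = _
    rw [map_esymm', map_subProd]
    simp only [Multiset.map_map, AlgHom.toRingHom_eq_coe, RingHom.coe_coe, Function.comp_def,
      aeval_X, hg', esymm_subProd_zeros]
  rw [h2, aeval_rename] at h1
  rw [← h1, comp_aeval_apply]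
  congr 2
  funext k
  simp [aeval_esymm_fin, hg', esymm_add_zeros]

theorem isCompPoly_of_identity {i j : ℕ} {Q : MvPolynomial (Fin (i * j)) ℤ}
    (hw : IsWeightedHomogeneous (fun k : Fin (i * j) => (k : ℕ) + 1) Q (i * j))
    (h : ∀ (R : Type) [CommRing R] (s : Multiset R), Multiset.card s ≤ i * j →
        (subProd s i).esymm j = aeval (fun k : Fin (i * j) => s.esymm ((k : ℕ) + 1)) Q) :
    LambdaRing.IsCompPoly i j Q := by
  refine ⟨?_, hw⟩
  rw [compGen_eq, h _ _ (by simp)]
  congr 2
  funext k
  rw [esymm_eq_multiset_esymm]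

theorem exists_isCompPoly' (i j : ℕ) :
    ∃ Q : MvPolynomial (Fin (i * j)) ℤ, LambdaRing.IsCompPoly i j Q := by
  obtain ⟨P, hw, hP⟩ := exists_compPoly_large i j _ le_rfl
  exact ⟨P, isCompPoly_of_identity hw hP⟩

theorem isCompPoly_unique {i j : ℕ} {P Q : MvPolynomial (Fin (i * j)) ℤ}
    (hP : LambdaRing.IsCompPoly i j P) (hQ : LambdaRing.IsCompPoly i j Q) : P = Q :=
  eHom_injective (σ := Fin (i * j)) (by simp) (hP.1.trans hQ.1.symm)

theorem compPoly_identity {i j : ℕ} {P : MvPolynomial (Fin (i * j)) ℤ}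
    (hP : LambdaRing.IsCompPoly i j P) (s : Multiset R) :
    (subProd s i).esymm j = aeval (fun k : Fin (i * j) => s.esymm ((k : ℕ) + 1)) P := by
  obtain ⟨g, hg⟩ := exists_family (s := s) rfl
  set N := max (i * j) (Multiset.card s) with hNdef
  obtain ⟨P', hw', hP'⟩ := exists_compPoly_large i j N (le_max_left _ _)
  have hP'' : LambdaRing.IsCompPoly i j P' := isCompPoly_of_identity hw' fun R _ s hs =>
    hP' R s (hs.trans (le_max_left _ _))
  rw [isCompPoly_unique hP hP'']
  have key := hP' (MvPolynomial (Fin (Multiset.card s)) ℤ)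
    (Finset.univ.val.map fun a => X a) (by simp [hNdef])
  have key2 := congrArg (aeval g).toRingHom key
  rw [map_esymm', map_subProd] at key2
  simp only [Multiset.map_map, AlgHom.toRingHom_eq_coe, RingHom.coe_coe, Function.comp_def,
    aeval_X, hg] at key2
  rw [key2]
  refine (map_aeval_int (aeval g : MvPolynomial (Fin (Multiset.card s)) ℤ →ₐ[ℤ] R).toRingHom _ _).trans ?_
  congr 2
  funext k
  change (aeval g).toRingHom _ = _
  rw [map_esymm', Multiset.map_map]
  simp only [AlgHom.toRingHom_eq_coe, RingHom.coe_coe, Function.comp_def, aeval_X, hg]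

end Groth.Agent.Lam
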